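import Cfsg.Agent.Mrg.Omega.VP
import Cfsg.Agent.Mrg.Omega.FrameI
import Cfsg.Agent.Mrg.Omega.Assembly
import Cfsg.Agent.Mrg.Omega.Sec.Faithful
import Cfsg.Agent.Mrg.Omega.FFMutual
import Cfsg.Agent.Mrg.Omega.HOne.SplitP

-- merged: Cfsg.Agent.Mrg.Omega.SQT.Main
section

/-!
# Project SQT (the S1731 fallback): assembly (MASTER v5.2)

`QK` is the class of the strongly quasithin groups (`m_p ≤ 2` for all odd primes `p`).  `Inputs` lists what is
needed: the landed theorems, and the leaves of the frame for the class `QK`.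

* `Inputs.sympl` : groups with `F*(C_G(z))` of symplectic type (S1758, S1759, S1761, S1762, S1763 landed; `one`,
  `wc`, `eh3` open); it is an input of `n1`, `b`, `a2`;
* `sqt` : the inputs imply `Quasithin.SQT`.
-/

set_option autoImplicit false

namespace Cfsg.Agent.Omega.SQT.Main

open Subgroup Cfsg Cfsg.Agent.Omega.Frame Cfsg.Agent.Omega.FrameExtra

universe u

/-- The class of the strongly quasithin groups. -/
abbrev QK : Cls.{u} := fun G _ => Quasithin.StrQ G

/-- **The inputs of project SQT.** -/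
structure Inputs : Prop where
  /-- landed: `StrongEmb.Strong.result` -/
  bender : Bender.{u}
  /-- landed: `S1758.result` -/
  s1758 : St1758.{u}
  /-- landed: `S1759.result` -/
  s1759 : Exits.St1759.{u}
  /-- landed: `S1761.result` -/
  s1761 : Exits.St1761.{u}
  /-- landed: `S1762.result` -/
  s1762 : Exits.St1762.{u}
  /-- landed: `S1763.result` -/
  s1763 : Exits.St1763.{u}
  /-- `|S| ≤ 16` -/
  one : LeafOne.{u}
  /-- 888 -/
  wc : LeafWC QK.{u}
  /-- 807, 810, 969 -/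
  eh3 : LeafEH3 QK.{u}
  /-- 364, 87 -/
  sq1 : FrameI.SQ1.{u}
  /-- N1 (406) -/
  n1 : NodeSympl QK.{u} → FrameLE.NodeN1 QK.{u}
  /-- II.c, II.d, F4 (252, 629, 36, 816) -/
  multi : FrameFF.LeafMulti QK.{u}
  /-- II.0h1 (337) -/
  h1 : FrameFF.LeafH1 QK.{u}
  /-- II.b (847, 139) -/
  b : NodeSympl QK.{u} → FrameFF.LeafB QK.{u}
  /-- 989 -/
  norm : FrameFF.NormStep QK.{u}
  /-- II.a, `q = 2` (840) -/
  a2 : NodeSympl QK.{u} → FrameFF.LeafA2 QK.{u}
  /-- II.a, `q ≥ 4` (978) -/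
  a4 : FrameFF.LeafA4 QK.{u}
  /-- NO-3S (172) -/
  no3s : FrameNOFF.NodeNO3S QK.{u}
  /-- NO-3L (597) -/
  no3l : FrameNOFF.NodeNO3L QK.{u}

theorem Inputs.sympl (I : Inputs.{u}) : NodeSympl QK.{u} :=
  nodeSympl I.s1758 (nodeExtra I.one I.s1759 I.s1761 I.s1762 I.s1763 I.wc I.eh3)

theorem Inputs.nodeFF (I : Inputs.{u}) : FrameLE.NodeFF QK.{u} :=
  FrameFF.nodeFF I.multi I.h1 (I.b I.sympl) I.norm (I.a2 I.sympl) I.a4

/-- **Project SQT from its inputs.** -/
theorem sqt (I : Inputs.{u}) : Quasithin.SQT.{u} := by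
  intro G _ _ _ hna hK hc hr hq
  exact FrameLE.evenHalf I.bender (FrameI.nodeI_of_sq1 I.sq1).toK (I.n1 I.sympl) I.nodeFF I.no3s I.no3l G hna hK
    hc hr hq

end Cfsg.Agent.Omega.SQT.Main

end

-- merged: Cfsg.Agent.Mrg.Omega.SQT.Rank
section

section


/-!
# The types of members of mutual pairs in strongly quasithin groups

`G` of characteristic 2 type, `m_3(G) ≤ 2`, `P ∈ P*(S)`, `V = V_P`, `D = C_V(O²(P))`.

* `rank_le_of_act` : if `P` induces `S₃^n` on `(V/D, D)`, then `n ≤ m_3(G)`;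
* `natK_le` : `k` natural `SL₂(F)`-factors imply `k ≤ 2`;
* `symK_le` : `k` factors `S_{2^m+1}` imply `k ≤ 2` and `m = 2`;
* `leafWr`, `leafSymWr`, `leafC`, `leafF4` : the leaves of `FrameMulti` for the class `StrQ` from their special
  cases `k = 2`, `m = 2`.
-/

set_option autoImplicit false

namespace Cfsg.Agent.Omega.SQT.Rank

open Subgroup Cfsg Cfsg.Agent.ZN Cfsg.Agent.Omega.MinPar Cfsg.Agent.Omega.Frame
open Cfsg.Agent.Omega.FrameFF (cv)
open Cfsg.Agent.Omega.FFThm (NatK SymK ActsSL ActsSym)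
open Cfsg.Agent.Omega.NatPair (ap ap_mul ap_one ap_inj ap_inv_ap)
open Cfsg.Agent.MinSimple.VModule (oddGen le_normalizer_zl le_normalizer_oddGen o2_le_centralizer_zl)

universe u

/-! ### The abstract step -/

section act

variable {G : Type u} [Group G] {M : Type*} [Group M]

/-- A partial action of the elements of `P` by elements of `M`. -/
structure PAct (P V : Subgroup G) (Act : G → M → Prop) : Prop where
  one : ∀ g ∈ P, g ∈ centralizer (V : Set G) → Act g 1
  mul : ∀ g ∈ P, ∀ h ∈ P, ∀ A B, Act g A → Act h B → Act (g * h) (A * B)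
  inv : ∀ g ∈ P, ∀ A, Act g A → Act g⁻¹ A⁻¹
  uniq : ∀ g ∈ P, ∀ A B, Act g A → Act g B → A = B
  conj : ∀ g ∈ P, ∀ x ∈ P, Act x 1 → Act (g * x * g⁻¹) 1

variable {P V : Subgroup G} {Act : G → M → Prop}

/-- the elements of `P` which act by elements of `M` -/
def PAct.X (h : PAct P V Act) : Subgroup G where
  carrier := {g | g ∈ P ∧ ∃ A, Act g A}
  one_mem' := ⟨P.one_mem, 1, h.one 1 P.one_mem (one_mem _)⟩
  mul_mem' := by
    rintro a b ⟨ha, A, hA⟩ ⟨hb, B, hB⟩
    exact ⟨P.mul_mem ha hb, A * B, h.mul a ha b hb A B hA hB⟩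
  inv_mem' := by
    rintro a ⟨ha, A, hA⟩
    exact ⟨P.inv_mem ha, A⁻¹, h.inv a ha A hA⟩

theorem PAct.exists_hom (h : PAct P V Act) : ∃ φ : h.X →* M, ∀ g : h.X, Act g (φ g) := by
  classical
  refine ⟨{ toFun := fun g => g.2.2.choose, map_one' := ?_, map_mul' := ?_ }, fun g => g.2.2.choose_spec⟩
  · exact h.uniq 1 P.one_mem _ _ (1 : h.X).2.2.choose_spec (h.one 1 P.one_mem (one_mem _))
  · intro a b
    exact h.uniq _ (a * b).2.1 _ _ (a * b).2.2.choose_spec
      (h.mul a a.2.1 b b.2.1 _ _ a.2.2.choose_spec b.2.2.choose_spec)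

variable [Finite G]

/-- If `P ∈ P*(S)` induces `S₃^n` on `V_P`, then `n ≤ m_3(G)`. -/
theorem rank_le_of_act (hc : IsCharacteristicTwoType G) (S : Sylow 2 G) {P : Subgroup G}
    (hP : IsParS (S : Subgroup G) P) (h : PAct P (zl (S : Subgroup G) P) Act) {n m : ℕ}
    (H : (Fin n → Equiv.Perm (Fin 3)) →* M) (hH : Function.Injective H) (hl : ∀ σ, ∃ g ∈ P, Act g (H σ))
    (hn : 1 ≤ n) (hr : PRankLE 3 m G) : n ≤ m := by
  classical
  have h2 : Fact (Nat.Prime 2) := ⟨Nat.prime_two⟩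
  obtain ⟨φ, hφ⟩ := h.exists_hom
  have hφv : ∀ (g : h.X) (A : M), Act g A → φ g = A := fun g A hA => h.uniq g g.2.1 _ _ (hφ g) hA
  -- the kernel
  set K : Subgroup G := φ.ker.map h.X.subtype with hK
  have memK : ∀ g : G, g ∈ K ↔ g ∈ P ∧ Act g 1 := by
    intro g
    constructor
    · rintro ⟨x, hx, rfl⟩
      exact ⟨x.2.1, by rw [← MonoidHom.mem_ker.mp hx]; exact hφ x⟩
    · rintro ⟨hg, h1⟩
      exact ⟨⟨g, hg, 1, h1⟩, MonoidHom.mem_ker.mpr (hφv _ _ h1), rfl⟩
  have hKP : K ≤ P := fun g hg => ((memK g).1 hg).1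
  have hKn : P ≤ normalizer (K : Set G) := by
    have key : ∀ g ∈ P, ∀ x ∈ K, g * x * g⁻¹ ∈ K := fun g hg x hx =>
      (memK _).2 ⟨P.mul_mem (P.mul_mem hg (hKP hx)) (P.inv_mem hg), h.conj g hg x (hKP hx) ((memK x).1 hx).2⟩
    intro g hg
    rw [mem_normalizer_iff]
    intro x
    refine ⟨key g hg x, fun hx => ?_⟩
    have := key g⁻¹ (P.inv_mem hg) _ hx
    rwa [show g⁻¹ * (g * x * g⁻¹) * g⁻¹⁻¹ = x by group] at this
  -- `S ∩ K ≤ O₂(P)`
  have hSK : (S : Subgroup G) ⊓ K ≤ o2 P := by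
    rcases hP.toIsPar.sup_eq_or_inf_le S hKP hKn with h1 | h1
    · exfalso
      obtain ⟨c, hc1, hc2, hc3⟩ := RankAbs.exists_cyc
      obtain ⟨g, hg, hA⟩ := hl (fun _ => c)
      -- the image of `g` in `P / K` is a 2-element
      have h3 : ∃ r : ℕ, g ^ 2 ^ r ∈ K := by
        have hN : (K.subgroupOf P).Normal := by
          constructor
          intro x hx y
          exact mem_subgroupOf.mpr ((mem_normalizer_iff.mp (hKn y.2) _).mp (mem_subgroupOf.mp hx))
        have h4 : (g : G) ∈ ((K ⊔ (S : Subgroup G) : Subgroup G) : Set G) := by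
          rw [h1]; exact hg
        rw [coe_mul_of_right_le_normalizer_left _ _ (hP.le.trans hKn)] at h4
        obtain ⟨k, hk, s, hs, hks⟩ := h4
        obtain ⟨r, hr'⟩ := S.isPGroup' ⟨s, hs⟩
        have hs' : s ^ 2 ^ r = 1 := congrArg Subtype.val hr'
        refine ⟨r, ?_⟩
        have h5 : (QuotientGroup.mk' (K.subgroupOf P)) (⟨g, hg⟩ : P) =
            (QuotientGroup.mk' (K.subgroupOf P)) (⟨s, hP.le hs⟩ : P) := by
          rw [QuotientGroup.mk'_apply, QuotientGroup.mk'_apply, QuotientGroup.eq, mem_subgroupOf]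
          change g⁻¹ * s ∈ K
          have h6 : g⁻¹ * s = g⁻¹ * k⁻¹ * g := by
            rw [← hks]
            group
          rw [h6]
          exact (mem_normalizer_iff''.mp (hKn hg) _).mp (K.inv_mem hk)
        have h6 : (QuotientGroup.mk' (K.subgroupOf P)) ((⟨g, hg⟩ : P) ^ 2 ^ r) = 1 := by
          rw [map_pow, h5, ← map_pow]
          have : (⟨s, hP.le hs⟩ : P) ^ 2 ^ r = 1 := Subtype.ext hs'
          rw [this, map_one]
        have h7 : (⟨g, hg⟩ : P) ^ 2 ^ r ∈ K.subgroupOf P := (QuotientGroup.eq_one_iff _).mp h6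
        exact mem_subgroupOf.mp h7
      obtain ⟨r, hr'⟩ := h3
      have h4 := ((memK _).1 hr').2
      set gX : h.X := ⟨g, hg, _, hA⟩ with hgX
      have h5 : φ gX = H (fun _ => c) := hφv gX _ hA
      have h6 : φ (gX ^ 2 ^ r) = 1 := hφv _ _ h4
      rw [map_pow, h5, ← map_pow] at h6
      have h7 : (fun _ : Fin n => c) ^ 2 ^ r = 1 := hH (by rw [h6, map_one])
      have h8 : c ^ 2 ^ r = 1 := by
        have := congrFun h7 ⟨0, hn⟩
        simpa using this
      have h9 := orderOf_dvd_of_pow_eq_one h8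
      rw [hc3] at h9
      have := (Nat.prime_dvd_prime_iff_eq Nat.prime_three Nat.prime_two).mp
        (Nat.prime_three.dvd_of_dvd_pow h9)
      omega
    · exact h1
  -- 2-elements of `K`
  have hK2 : ∀ x ∈ K, (∃ k, x ^ 2 ^ k = 1) → x ∈ o2 P := by
    intro x hx ⟨k, hk⟩
    set x' : P := ⟨x, hKP hx⟩ with hx'
    have hx2 : IsPGroup 2 (zpowers x') := by
      rw [IsPGroup.iff_card, Nat.card_zpowers]
      have h4 : orderOf x' ∣ 2 ^ k := orderOf_dvd_of_pow_eq_one (Subtype.ext hk)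
      obtain ⟨j, -, hj⟩ := (Nat.dvd_prime_pow Nat.prime_two).1 h4
      exact ⟨j, hj⟩
    obtain ⟨T, hT⟩ := hx2.exists_le_sylow
    obtain ⟨g, hg⟩ := MulAction.exists_smul_eq P T (S.subtype hP.le)
    have h5 : g * x' * g⁻¹ ∈ ((S.subtype hP.le : Sylow 2 P) : Subgroup P) := by
      rw [← hg]
      exact Subgroup.smul_mem_pointwise_smul _ (MulAut.conj g) (T : Subgroup P) (hT (mem_zpowers _))
    have h6 : (g : G) * x * (g : G)⁻¹ ∈ (S : Subgroup G) := h5
    have h7 : (g : G) * x * (g : G)⁻¹ ∈ K := (mem_normalizer_iff.mp (hKn g.2) x).mp hx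
    exact (mem_normalizer_iff.mp (MinSimple.VModule.le_normalizer_o2 P g.2) x).mpr (hSK ⟨h6, h7⟩)
  have ho2P : o2 P ≤ P := (hP.isLoc.o2_le S).trans hP.le
  have ho2K : o2 P ≤ K := by
    intro x hx
    refine (memK x).2 ⟨ho2P hx, h.one x (ho2P hx) ?_⟩
    exact o2_le_centralizer_zl hP.le S.isPGroup' (MinSimple.Basic.not_dvd_relIndex S hP.le)
      (hP.isLoc.char2 S hc) hx
  have hKX : K ≤ h.X := map_subtype_le _
  have hQn : ((o2 P).subgroupOf h.X).Normal := by
    constructor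
    intro x hx y
    exact mem_subgroupOf.mpr ((mem_normalizer_iff.mp (MinSimple.VModule.le_normalizer_o2 P y.2.1) _).mp
      (mem_subgroupOf.mp hx))
  have hQp : IsPGroup 2 ((o2 P).subgroupOf h.X) := by
    intro x
    obtain ⟨k, hk⟩ := (MinSimple.VModule.o2_isPGroup P) ⟨((x : h.X) : G), mem_subgroupOf.mp x.2⟩
    have h1 : ((x : h.X) : G) ^ 2 ^ k = 1 := congrArg Subtype.val hk
    exact ⟨k, Subtype.ext (Subtype.ext h1)⟩
  have memker : ∀ x : h.X, x ∈ φ.ker ↔ (x : G) ∈ K := by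
    intro x
    constructor
    · intro hx
      exact ⟨x, hx, rfl⟩
    · rintro ⟨y, hy, hyx⟩
      have : y = x := Subtype.ext hyx
      exact this ▸ hy
  refine RankAbs.le_of_range (m := m) (Sec.Reduce.prankLE_of_injective h.X.subtype h.X.subtype_injective hr)
    φ H hH ?_ ((o2 P).subgroupOf h.X) hQp ?_ ?_
  · rintro _ ⟨σ, rfl⟩
    obtain ⟨g, hg, hA⟩ := hl σ
    exact ⟨⟨g, hg, _, hA⟩, hφv _ _ hA⟩
  · intro x hx
    exact (memker x).2 (ho2K (mem_subgroupOf.mp hx))
  · intro x hx ⟨k, hk⟩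
    exact mem_subgroupOf.mpr (hK2 _ ((memker x).1 hx) ⟨k, congrArg Subtype.val hk⟩)

end act

/-! ### `S₃` in `SL₂(F)` and in symmetric groups -/

section emb

/-- the matrix of a permutation on the sums of two of three basis vectors -/
def mat (σ : Equiv.Perm (Fin 3)) : Matrix (Fin 2) (Fin 2) (ZMod 2) := fun i j =>
  (if σ j.castSucc = i.castSucc then 1 else 0) + if σ 2 = i.castSucc then 1 else 0

theorem mat_one : mat 1 = 1 := by decide

theorem mat_mul : ∀ σ τ, mat (σ * τ) = mat σ * mat τ := by decide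

theorem mat_det : ∀ σ, (mat σ).det = 1 := by decide

theorem mat_inj : ∀ σ, mat σ = 1 → σ = 1 := by decide

/-- `S₃ ≅ SL₂(2)` -/
def toSL : Equiv.Perm (Fin 3) →* Matrix.SpecialLinearGroup (Fin 2) (ZMod 2) where
  toFun σ := ⟨mat σ, mat_det σ⟩
  map_one' := Subtype.ext mat_one
  map_mul' σ τ := Subtype.ext (mat_mul σ τ)

theorem toSL_injective : Function.Injective toSL := by
  rw [injective_iff_map_eq_one]
  intro σ hσ
  exact mat_inj σ (congrArg Subtype.val hσ)

/-- `S₃^k → SL₂(F)^k` -/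
noncomputable def toSLK (F : Type*) [Field F] [CharP F 2] (k : ℕ) :
    (Fin k → Equiv.Perm (Fin 3)) →* (Fin k → Matrix.SpecialLinearGroup (Fin 2) F) where
  toFun σ i := Matrix.SpecialLinearGroup.map (ZMod.castHom (dvd_refl 2) F) (toSL (σ i))
  map_one' := by
    funext i
    simp
  map_mul' σ τ := by
    funext i
    simp

theorem toSLK_injective (F : Type*) [Field F] [CharP F 2] (k : ℕ) : Function.Injective (toSLK F k) := by
  intro σ τ h
  funext i
  apply toSL_injective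
  have h1 : Matrix.SpecialLinearGroup.map (ZMod.castHom (dvd_refl 2) F) (toSL (σ i)) =
      Matrix.SpecialLinearGroup.map (ZMod.castHom (dvd_refl 2) F) (toSL (τ i)) := congrFun h i
  have hinj : Function.Injective (ZMod.castHom (dvd_refl 2) F) := (ZMod.castHom (dvd_refl 2) F).injective
  apply Subtype.ext
  ext a b
  have h2 := congrArg (fun M : Matrix.SpecialLinearGroup (Fin 2) F => M.1 a b) h1
  exact hinj h2

end emb

/-! ### `C_V(O²(P))` -/

section cv

variable {G : Type u} [Group G] {S P : Subgroup G}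

theorem conj_mem_zl {g v : G} (hg : g ∈ P) (hv : v ∈ zl S P) : g * v * g⁻¹ ∈ zl S P :=
  (mem_normalizer_iff.mp (le_normalizer_zl S P hg) v).mp hv

theorem conj_mem_cv {g d : G} (hg : g ∈ P) (hd : d ∈ cv S P) : g * d * g⁻¹ ∈ cv S P := by
  refine mem_inf.mpr ⟨conj_mem_zl hg hd.1, ?_⟩
  rw [mem_centralizer_iff]
  intro x hx
  have h1 : g⁻¹ * x * g ∈ oddGen P :=
    (mem_normalizer_iff''.mp (le_normalizer_oddGen P hg) x).mp hx
  have h2 := mem_centralizer_iff.mp hd.2 _ h1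
  calc x * (g * d * g⁻¹) = g * ((g⁻¹ * x * g) * d) * g⁻¹ := by group
    _ = g * d * g⁻¹ * x := by rw [h2]; group

end cv

/-! ### Natural factors -/

section nat

variable {G : Type u} [Group G] {S P : Subgroup G} {F : Type} [Field F] [CharP F 2] {k : ℕ}

omit [CharP F 2] in
theorem e_inv (h : NatK F S P (zl S P) (cv S P) k) {w : G} (hw : w ∈ zl S P) : h.e w⁻¹ = - h.e w := by
  have h1 : h.e 1 = 0 := (h.ker 1 (one_mem _)).2 (one_mem _)
  have h2 := h.mul w hw w⁻¹ (inv_mem hw)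
  rw [mul_inv_cancel, h1] at h2
  exact (neg_eq_of_add_eq_zero_right h2.symm).symm

omit [CharP F 2] in
theorem pAct (h : NatK F S P (zl S P) (cv S P) k) :
    PAct P (zl S P) (ActsSL h.e (zl S P) (cv S P)) where
  one g hg hc := by
    refine ⟨fun v hv i => ?_, fun d hd => ?_⟩
    · have h1 : g * v * g⁻¹ = v := by
        rw [← mem_centralizer_iff.mp hc v hv, mul_inv_cancel_right]
      rw [h1, Pi.one_apply, ap_one]
    · exact (mem_centralizer_iff.mp hc d hd.1).symm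
  mul g hg x hx A B hA hB := by
    refine ⟨fun v hv i => ?_, fun d hd => ?_⟩
    · have h1 : g * x * v * (g * x)⁻¹ = g * (x * v * x⁻¹) * g⁻¹ := by group
      rw [h1, hA.1 _ (conj_mem_zl hx hv), hB.1 v hv, Pi.mul_apply, ap_mul]
    · rw [mul_assoc, hB.2 d hd, ← mul_assoc, hA.2 d hd, mul_assoc]
  inv g hg A hA := by
    refine ⟨fun v hv i => ?_, fun d hd => ?_⟩
    · have hw := conj_mem_zl (P.inv_mem hg) hv
      have h1 := hA.1 _ hw i
      have h2 : g * (g⁻¹ * v * g⁻¹⁻¹) * g⁻¹ = v := by group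
      rw [h2] at h1
      rw [h1, Pi.inv_apply, ap_inv_ap]
    · have h1 := hA.2 d hd
      calc g⁻¹ * d = g⁻¹ * (d * g) * g⁻¹ := by group
        _ = d * g⁻¹ := by rw [← h1]; group
  uniq g hg A B hA hB := by
    funext i
    apply ap_inj
    intro x
    obtain ⟨v, hv, hx⟩ := h.surj (fun _ => x)
    have h1 := hA.1 v hv i
    rw [hB.1 v hv i, hx] at h1
    exact h1.symm
  conj g hg x hx hA := by
    refine ⟨fun v hv i => ?_, fun d hd => ?_⟩
    · rw [Pi.one_apply, ap_one]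
      have hw := conj_mem_zl (P.inv_mem hg) hv
      rw [inv_inv] at hw
      have hxw := conj_mem_zl hx hw
      have hd : x * (g⁻¹ * v * g) * x⁻¹ * (g⁻¹ * v * g)⁻¹ ∈ cv S P := by
        rw [← h.ker _ (mul_mem hxw (inv_mem hw)), h.mul _ hxw _ (inv_mem hw), e_inv h hw]
        funext i
        have := hA.1 _ hw i
        rw [Pi.one_apply, ap_one] at this
        rw [Pi.add_apply, this, Pi.neg_apply, add_neg_cancel, Pi.zero_apply]
      have hd' := conj_mem_cv hg hd
      have h1 : g * x * g⁻¹ * v * (g * x * g⁻¹)⁻¹ =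
          g * (x * (g⁻¹ * v * g) * x⁻¹ * (g⁻¹ * v * g)⁻¹) * g⁻¹ * v := by group
      rw [h1, h.mul _ hd'.1 v hv, (h.ker _ hd'.1).2 hd', zero_add]
    · have h1 := conj_mem_cv (P.inv_mem hg) hd
      rw [inv_inv] at h1
      have h2 := hA.2 _ h1
      calc g * x * g⁻¹ * d = g * (x * (g⁻¹ * d * g)) * g⁻¹ := by group
        _ = d * (g * x * g⁻¹) := by rw [h2]; group

/-- **`k` natural factors: `k ≤ m_3(G)`.** -/
theorem natK_le [Finite G] (hc : IsCharacteristicTwoType G) (S : Sylow 2 G) {P : Subgroup G}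
    (hP : IsParS (S : Subgroup G) P) (h : NatK F S P (zl (S : Subgroup G) P) (cv (S : Subgroup G) P) k) {m : ℕ}
    (hr : PRankLE 3 m G) : k ≤ m := by
  rcases Nat.eq_zero_or_pos k with h0 | h0
  · omega
  · refine rank_le_of_act hc S hP (pAct h) (toSLK F k) (toSLK_injective F k) (fun σ => ?_) h0 hr
    obtain ⟨g, hg, hA⟩ := h.lift (toSLK F k σ)
    exact ⟨g, hg, hA⟩

end nat

/-! ### Factors `S_{2^m+1}` -/

section sym

variable {G : Type u} [Group G] {S P : Subgroup G} {k m : ℕ}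

/-- `g` acts as `τ` and centralises `D` -/
def ActS (h : SymK S P (zl S P) (cv S P) k m) (g : G) (τ : Fin k → Equiv.Perm (Fin (2 ^ m + 1))) : Prop :=
  ActsSym h.e (zl S P) g 1 τ ∧ ∀ d ∈ cv S P, g * d = d * g

theorem e_inv' (h : SymK S P (zl S P) (cv S P) k m) {w : G} (hw : w ∈ zl S P) : h.e w⁻¹ = - h.e w := by
  have h1 : h.e 1 = 0 := (h.ker 1 (one_mem _)).2 (one_mem _)
  have h2 := h.mul w hw w⁻¹ (inv_mem hw)
  rw [mul_inv_cancel, h1] at h2
  exact (neg_eq_of_add_eq_zero_right h2.symm).symm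

theorem pActS (hm : 1 ≤ m) (h : SymK S P (zl S P) (cv S P) k m) : PAct P (zl S P) (ActS h) where
  one g hg hc := by
    refine ⟨fun v hv i x => ?_, fun d hd => ?_⟩
    · have h1 : g * v * g⁻¹ = v := by
        rw [← mem_centralizer_iff.mp hc v hv, mul_inv_cancel_right]
      rw [h1]
      rfl
    · exact (mem_centralizer_iff.mp hc d hd.1).symm
  mul g hg x hx A B hA hB := by
    refine ⟨fun v hv i y => ?_, fun d hd => ?_⟩
    · have h1 : g * x * v * (g * x)⁻¹ = g * (x * v * x⁻¹) * g⁻¹ := by group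
      rw [h1]
      exact (hA.1 _ (conj_mem_zl hx hv) i (B i y)).trans (hB.1 v hv i y)
    · rw [mul_assoc, hB.2 d hd, ← mul_assoc, hA.2 d hd, mul_assoc]
  inv g hg A hA := by
    refine ⟨fun v hv i y => ?_, fun d hd => ?_⟩
    · have hw := conj_mem_zl (P.inv_mem hg) hv
      have h1 := hA.1 _ hw i ((A i)⁻¹ y)
      have h2 : g * (g⁻¹ * v * g⁻¹⁻¹) * g⁻¹ = v := by group
      have h3 : A i ((A i)⁻¹ y) = y := (A i).apply_symm_apply y
      rw [h2, h3] at h1
      exact h1.symm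
    · have h1 := hA.2 d hd
      calc g⁻¹ * d = g⁻¹ * (d * g) * g⁻¹ := by group
        _ = d * g⁻¹ := by rw [← h1]; group
  uniq g hg A B hA hB := by
    funext i
    ext1 y
    by_contra hne
    have h9 : 3 ≤ 2 ^ m + 1 := by
      have : 2 ^ 1 ≤ 2 ^ m := Nat.pow_le_pow_right (by norm_num) hm
      omega
    obtain ⟨c, hc1, hc2⟩ : ∃ c : Fin (2 ^ m + 1), c ≠ A i y ∧ c ≠ B i y := by
      have h10 : ({A i y, B i y} : Finset (Fin (2 ^ m + 1))).card < Fintype.card (Fin (2 ^ m + 1)) := by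
        rw [Fintype.card_fin]
        exact lt_of_le_of_lt (Finset.card_le_two) (by omega)
      obtain ⟨c, hc⟩ := Finset.exists_mem_notMem_of_card_lt_card (s := {A i y, B i y}) (t := Finset.univ)
        (by rwa [Finset.card_univ])
      refine ⟨c, fun h0 => hc.2 ?_, fun h0 => hc.2 ?_⟩
      · rw [h0]; exact Finset.mem_insert_self _ _
      · rw [h0]; exact Finset.mem_insert_of_mem (Finset.mem_singleton_self _)
    -- the even vector `{A i y, c}`
    obtain ⟨w, hw, hwe⟩ := h.surj (fun _ x => (if x = A i y then 1 else 0) + if x = c then 1 else 0) (by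
      intro _
      rw [Finset.sum_add_distrib, Finset.sum_ite_eq', Finset.sum_ite_eq']
      simp only [Finset.mem_univ, if_true]
      decide)
    have hv := conj_mem_zl (P.inv_mem hg) hw
    have h2 : g * (g⁻¹ * w * g⁻¹⁻¹) * g⁻¹ = w := by group
    have h3 := hA.1 _ hv i y
    have h4 := hB.1 _ hv i y
    rw [h2] at h3 h4
    have h5 : h.e w i (A i y) = h.e w i (B i y) := h3.trans h4.symm
    rw [hwe] at h5
    simp only [if_true, if_neg (Ne.symm hne), if_neg (Ne.symm hc1), if_neg (Ne.symm hc2)] at h5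
    simp at h5
  conj g hg x hx hA := by
    refine ⟨fun v hv i y => ?_, fun d hd => ?_⟩
    · have hw := conj_mem_zl (P.inv_mem hg) hv
      rw [inv_inv] at hw
      have hxw := conj_mem_zl hx hw
      have hd : x * (g⁻¹ * v * g) * x⁻¹ * (g⁻¹ * v * g)⁻¹ ∈ cv S P := by
        rw [← h.ker _ (mul_mem hxw (inv_mem hw)), h.mul _ hxw _ (inv_mem hw), e_inv' h hw]
        funext i y
        have h3 : h.e (x * (g⁻¹ * v * g) * x⁻¹) i y = h.e (g⁻¹ * v * g) i y := hA.1 _ hw i y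
        rw [Pi.add_apply, Pi.add_apply, h3, Pi.neg_apply, Pi.neg_apply, add_neg_cancel]
        rfl
      have hd' := conj_mem_cv hg hd
      have h1 : g * x * g⁻¹ * v * (g * x * g⁻¹)⁻¹ =
          g * (x * (g⁻¹ * v * g) * x⁻¹ * (g⁻¹ * v * g)⁻¹) * g⁻¹ * v := by group
      have h4 : h.e (g * x * g⁻¹ * v * (g * x * g⁻¹)⁻¹) = h.e v := by
        rw [h1, h.mul _ hd'.1 v hv, (h.ker _ hd'.1).2 hd', zero_add]
      rw [h4]
      rfl
    · have h1 := conj_mem_cv (P.inv_mem hg) hd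
      rw [inv_inv] at h1
      have h2 := hA.2 _ h1
      calc g * x * g⁻¹ * d = g * (x * (g⁻¹ * d * g)) * g⁻¹ := by group
        _ = d * (g * x * g⁻¹) := by rw [h2]; group

/-- `S₃^k → (S_n)^k` -/
noncomputable def toSym {n : ℕ} (h : 3 ≤ n) (k : ℕ) :
    (Fin k → Equiv.Perm (Fin 3)) →* (Fin k → Equiv.Perm (Fin n)) where
  toFun σ i := Equiv.Perm.viaEmbeddingHom (Fin.castLEEmb h) (σ i)
  map_one' := by
    funext i
    simp
  map_mul' σ τ := by
    funext i
    simp

theorem toSym_injective {n : ℕ} (h : 3 ≤ n) (k : ℕ) : Function.Injective (toSym h k) := by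
  intro σ τ hst
  funext i
  exact Equiv.Perm.viaEmbeddingHom_injective (Fin.castLEEmb h) (congrFun hst i)

/-- `S₃^3 → S_n ≤ (S_n)^k`, `n ≥ 9` -/
noncomputable def toSym3 {n : ℕ} (h : 9 ≤ n) {k : ℕ} (i : Fin k) :
    (Fin 3 → Equiv.Perm (Fin 3)) →* (Fin k → Equiv.Perm (Fin n)) :=
  (MonoidHom.mulSingle (fun _ : Fin k => Equiv.Perm (Fin n)) i).comp
    ((Equiv.Perm.viaEmbeddingHom (Function.Embedding.trans finProdFinEquiv.toEmbedding
      (Fin.castLEEmb (n := 3 * 3) h))).comp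
      ((MulEquiv.toMonoidHom (Equiv.sigmaEquivProd (Fin 3) (Fin 3)).permCongrHom).comp
        (Equiv.Perm.sigmaCongrRightHom (fun _ : Fin 3 => Fin 3))))

theorem toSym3_injective {n : ℕ} (h : 9 ≤ n) {k : ℕ} (i : Fin k) : Function.Injective (toSym3 h i) := by
  refine (Pi.mulSingle_injective i).comp ?_
  refine (Equiv.Perm.viaEmbeddingHom_injective _).comp ?_
  exact (Equiv.sigmaEquivProd (Fin 3) (Fin 3)).permCongrHom.injective.comp
    Equiv.Perm.sigmaCongrRightHom_injective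

/-- **`k` factors `S_{2^m+1}`: `k ≤ m_3(G)`, and `m ≤ 2` if `m_3(G) ≤ 2`.** -/
theorem symK_le [Finite G] (hc : IsCharacteristicTwoType G) (S : Sylow 2 G) {P : Subgroup G}
    (hP : IsParS (S : Subgroup G) P) (h : SymK S P (zl (S : Subgroup G) P) (cv (S : Subgroup G) P) k m)
    (hm : 2 ≤ m) (hr : PRankLE 3 2 G) (hk : 1 ≤ k) : k ≤ 2 ∧ m = 2 := by
  have h3 : 3 ≤ 2 ^ m + 1 := by
    have : 2 ^ 2 ≤ 2 ^ m := Nat.pow_le_pow_right (by norm_num) hm
    omega
  refine ⟨?_, ?_⟩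
  · refine rank_le_of_act hc S hP (pActS (by omega) h) (toSym h3 k) (toSym_injective h3 k) (fun σ => ?_) hk hr
    exact h.lift (toSym h3 k σ)
  · by_contra hne
    have h9 : 9 ≤ 2 ^ m + 1 := by
      have : 2 ^ 3 ≤ 2 ^ m := Nat.pow_le_pow_right (by norm_num) (by omega)
      omega
    have := rank_le_of_act hc S hP (pActS (by omega) h) (toSym3 h9 ⟨0, hk⟩) (toSym3_injective h9 ⟨0, hk⟩)
      (fun σ => h.lift (toSym3 h9 ⟨0, hk⟩ σ)) (by norm_num) hr
    omega

end sym

end Cfsg.Agent.Omega.SQT.Rank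

end

section


/-!
# II.d, `C_V(O²(P)) ≠ 1`: `k` natural factors, `V = V_P`, `D = C_V(O²(P))`

`M : NatK F S P V D k`, `N = [V, O²(P)] = vx S P`.

* `vx_surj` : `N` covers `V / D`; `sup_eq` : `V = N D`;
* `comm_of_quot` : an element of `S` (a 2-element of `P`, an element of `O²(P)`) which centralises `V / D`
  centralises `V`;
* split (`N ∩ D = 1`): `cv_le_zc` : `D ≤ Z(S)`, `le_centralizer_cv` : `P` centralises `D`;
  `natK` : `N` with its coordinates is a `NatK F S P N ⊥ k`.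
-/

set_option autoImplicit false
set_option linter.unusedSectionVars false

namespace Cfsg.Agent.Omega.IId.Cv

open Subgroup Cfsg Cfsg.Agent.ZN Cfsg.Agent.ZN.ChoiceSit Cfsg.Agent.ZN.ChoiceBase Cfsg.Agent.Omega.MinPar
open Cfsg.Agent.Omega.FrameFF Cfsg.Agent.Omega.FFThm Cfsg.Agent.Lib.SL2Mat
open Cfsg.Agent.Omega.NatPair (ap ap_add ap_mul ap_one ap_inj ext2 ap_zero' ap_one')
open Cfsg.Agent.MinSimple.VModule (oddGen oddGen_le mem_oddGen zl_comm zl_sq le_normalizer_zl le_normalizer_oddGen)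
open Cfsg.Agent.MinSimple
open Cfsg.Agent.ZN.CaseTwo (syl_of_sylow)
open Cfsg.Agent.Omega.HOne (cv_le conj_mem_zl conj_mem_cv le_normalizer_vx conj_mem_vx vx_le comm_mem_vx three
  exists_ap_three_sub)
open Cfsg.Agent.Omega.HOne.Main (vx SplitPar)
open Cfsg.Agent.Omega.NoFF.LinesPlug (oddGen_sup)
open Cfsg.Agent.Omega.SQT.Rank (pAct)
open scoped commutatorElement

universe u

variable {G : Type u} [Group G]

section one

variable {F : Type} [Field F] {S P : Subgroup G} {k : ℕ} (M : NatK F S P (zl S P) (cv S P) k)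

include M in
theorem e_one : M.e 1 = 0 := (M.ker 1 (one_mem _)).2 (one_mem _)

theorem e_inv {v : G} (hv : v ∈ zl S P) : M.e v⁻¹ = - M.e v := by
  have := M.mul v⁻¹ (inv_mem hv) v hv
  rw [inv_mul_cancel, e_one] at this
  exact eq_neg_of_add_eq_zero_left this.symm

theorem e_div {v w : G} (hv : v ∈ zl S P) (hw : w ∈ zl S P) : M.e (v * w⁻¹) = M.e v - M.e w := by
  rw [M.mul v hv _ (inv_mem hw), e_inv M hw, sub_eq_add_neg]

theorem eq_iff {v w : G} (hv : v ∈ zl S P) (hw : w ∈ zl S P) : M.e v = M.e w ↔ v * w⁻¹ ∈ cv S P := by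
  rw [← M.ker _ (mul_mem hv (inv_mem hw)), e_div M hv hw, sub_eq_zero]

theorem e_cv {d : G} (hd : d ∈ cv S P) : M.e d = 0 := (M.ker d (cv_le _ _ hd)).2 hd

theorem e_mul_cv {v d : G} (hv : v ∈ zl S P) (hd : d ∈ cv S P) : M.e (v * d) = M.e v := by
  rw [M.mul v hv d (cv_le _ _ hd), e_cv M hd, add_zero]

/-- the action on the coordinates is determined by the coordinates -/
theorem e_conj_congr {g v w : G} (hg : g ∈ P) (hv : v ∈ zl S P) (hw : w ∈ zl S P) (h : M.e v = M.e w) :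
    M.e (g * v * g⁻¹) = M.e (g * w * g⁻¹) := by
  rw [eq_iff M (conj_mem_zl hg hv) (conj_mem_zl hg hw)]
  have h1 := conj_mem_cv hg ((eq_iff M hv hw).1 h)
  have e : g * (v * w⁻¹) * g⁻¹ = g * v * g⁻¹ * (g * w * g⁻¹)⁻¹ := by group
  rwa [e] at h1

variable [Finite G] [CharP F 2]

/-- an element of odd order of `P` which centralises `D` and acts on `V / D` without fixed points -/
theorem exists_odd : ∃ g ∈ P, Odd (orderOf g) ∧ ∃ a : ℕ,
    ActsSL M.e (zl S P) (cv S P) g (fun _ => three F ^ 2 ^ a) := by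
  obtain ⟨g₀, hg₀, h0⟩ := M.lift (fun _ => three F)
  obtain ⟨a, m, hm, ha⟩ := Nat.exists_eq_pow_mul_and_not_dvd (orderOf_pos g₀).ne' 2 (by norm_num)
  have hm0 : 0 < m := Nat.pos_of_ne_zero (by rintro rfl; simp at hm)
  refine ⟨g₀ ^ 2 ^ a, pow_mem hg₀ _, ?_, a, ?_⟩
  · have h2 : orderOf (g₀ ^ 2 ^ a) = m := by
      rw [orderOf_pow_of_dvd (by positivity) (ha ▸ Dvd.intro _ rfl), ha, Nat.mul_div_cancel_left _ (by positivity)]
    rw [h2]
    exact Nat.not_even_iff_odd.1 fun h => hm h.two_dvd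
  · have key : ∀ n : ℕ, ActsSL M.e (zl S P) (cv S P) (g₀ ^ n) (fun _ => three F ^ n) := by
      intro n
      induction n with
      | zero =>
        have h1 := (pAct M).one 1 (one_mem _) (one_mem _)
        simp only [pow_zero]
        exact h1
      | succ n ih =>
        have h1 := (pAct M).mul (g₀ ^ n) (pow_mem hg₀ n) g₀ hg₀ _ _ ih h0
        rw [pow_succ]
        exact h1
    exact key _

/-- `[V, O²(P)]` covers `V / D` -/
theorem vx_surj (x : Fin k → Fin 2 → F) : ∃ n ∈ vx S P, M.e n = x := by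
  obtain ⟨g, hg, ho, a, hI⟩ := exists_odd M
  choose y hy using fun i => exists_ap_three_sub a (x i)
  obtain ⟨v, hv, hvy⟩ := M.surj y
  refine ⟨g * v * g⁻¹ * v⁻¹, comm_mem_vx hv (mem_oddGen hg ho), ?_⟩
  rw [e_div M (conj_mem_zl hg hv) hv]
  funext i
  rw [Pi.sub_apply, hI.1 v hv i, hvy]
  exact hy i

include M in
/-- `V = N D` -/
theorem exists_mul {v : G} (hv : v ∈ zl S P) : ∃ n ∈ vx S P, ∃ d ∈ cv S P, v = n * d := by
  obtain ⟨n, hn, he⟩ := vx_surj M (M.e v)
  refine ⟨n, hn, n⁻¹ * v, ?_, by group⟩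
  have hnV := vx_le S P hn
  rw [← M.ker _ (mul_mem (inv_mem hnV) hv), M.mul _ (inv_mem hnV) _ hv, e_inv M hnV, he, neg_add_cancel]

include M in
theorem sup_eq : vx S P ⊔ cv S P = zl S P := by
  apply le_antisymm (sup_le (vx_le S P) (cv_le S P))
  intro v hv
  obtain ⟨n, hn, d, hd, rfl⟩ := exists_mul M hv
  exact mul_mem (le_sup_left (a := vx S P) hn) (le_sup_right (a := vx S P) hd)

end one

/-! ### The kernel on `V / D` -/

section kernel

variable {F : Type} [Field F] {S P : Subgroup G} {k : ℕ} (M : NatK F S P (zl S P) (cv S P) k)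

/-- the elements of `P` which centralise `V / D` -/
def kern : Subgroup G where
  carrier := {g | g ∈ P ∧ ∀ v ∈ zl S P, M.e (g * v * g⁻¹) = M.e v}
  one_mem' := ⟨one_mem _, fun v _ => by
    have e : (1 : G) * v * 1⁻¹ = v := by group
    rw [e]⟩
  mul_mem' := by
    rintro a b ⟨ha, ha'⟩ ⟨hb, hb'⟩
    refine ⟨mul_mem ha hb, fun v hv => ?_⟩
    have e : a * b * v * (a * b)⁻¹ = a * (b * v * b⁻¹) * a⁻¹ := by group
    rw [e, ha' _ (conj_mem_zl hb hv), hb' v hv]
  inv_mem' := by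
    rintro a ⟨ha, ha'⟩
    refine ⟨inv_mem ha, fun v hv => ?_⟩
    have h1 := ha' _ (conj_mem_zl (inv_mem ha) hv)
    have e : a * (a⁻¹ * v * a⁻¹⁻¹) * a⁻¹ = v := by group
    rw [e] at h1
    exact h1.symm

theorem mem_kern {g : G} : g ∈ kern M ↔ g ∈ P ∧ ∀ v ∈ zl S P, M.e (g * v * g⁻¹) = M.e v := Iff.rfl

theorem kern_le : kern M ≤ P := fun _ h => h.1

theorem mem_kern_iff {g : G} (hg : g ∈ P) : g ∈ kern M ↔ ∀ v ∈ zl S P, g * v * g⁻¹ * v⁻¹ ∈ cv S P := by
  rw [mem_kern]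
  constructor
  · rintro ⟨-, h⟩ v hv
    exact (eq_iff M (conj_mem_zl hg hv) hv).1 (h v hv)
  · intro h
    exact ⟨hg, fun v hv => (eq_iff M (conj_mem_zl hg hv) hv).2 (h v hv)⟩

theorem kern_conj {g x : G} (hg : g ∈ P) (hx : x ∈ kern M) : g * x * g⁻¹ ∈ kern M := by
  refine ⟨mul_mem (mul_mem hg hx.1) (inv_mem hg), fun v hv => ?_⟩
  have hw : g⁻¹ * v * g ∈ zl S P := by
    have := conj_mem_zl (inv_mem hg) hv
    rwa [inv_inv] at this
  have h1 := e_conj_congr M hg (conj_mem_zl hx.1 hw) hw (hx.2 _ hw)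
  have e1 : g * (x * (g⁻¹ * v * g) * x⁻¹) * g⁻¹ = g * x * g⁻¹ * v * (g * x * g⁻¹)⁻¹ := by group
  have e2 : g * (g⁻¹ * v * g) * g⁻¹ = v := by group
  rw [e1, e2] at h1
  exact h1

theorem kern_norm : P ≤ normalizer (kern M : Set G) := by
  intro g hg
  rw [mem_normalizer_iff]
  intro x
  refine ⟨kern_conj M hg, fun h => ?_⟩
  have h1 := kern_conj M (inv_mem hg) h
  have e : g⁻¹ * (g * x * g⁻¹) * g⁻¹⁻¹ = x := by group
  rwa [e] at h1

end kernel

section kernelS

variable [Finite G] (hG : IsCharacteristicTwoType G) (S : Sylow 2 G) {P : Subgroup G}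
  (h : IsParS (S : Subgroup G) P) {F : Type} [Field F] [CharP F 2] {k : ℕ}
  (M : NatK F (S : Subgroup G) P (zl (S : Subgroup G) P) (cv (S : Subgroup G) P) k)

include h in
theorem kern_sup_ne (hk : 0 < k) : kern M ⊔ (S : Subgroup G) ≠ P := by
  intro h1
  obtain ⟨g, hg, ho, a, hI⟩ := exists_odd M
  -- a power of `g` of exponent a power of two lies in the kernel
  have hSn : (S : Subgroup G) ≤ normalizer (kern M : Set G) := h.le.trans (kern_norm M)
  have h4 : g ∈ ((kern M ⊔ (S : Subgroup G) : Subgroup G) : Set G) := by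
    rw [h1]; exact hg
  rw [coe_mul_of_right_le_normalizer_left _ _ hSn] at h4
  obtain ⟨c, hc, s, hs, hcs⟩ := h4
  have key : ∀ n : ℕ, ∃ c' ∈ kern M, g ^ n = c' * s ^ n := by
    intro n
    induction n with
    | zero => exact ⟨1, one_mem _, by simp⟩
    | succ n ih =>
      obtain ⟨c', hc', h5⟩ := ih
      refine ⟨c' * (s ^ n * c * (s ^ n)⁻¹), mul_mem hc' (kern_conj M (pow_mem (h.le hs) n) hc), ?_⟩
      rw [pow_succ, h5, ← hcs]
      group
  obtain ⟨r, hr⟩ := S.isPGroup' ⟨s, hs⟩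
  have hs' : s ^ 2 ^ r = 1 := congrArg Subtype.val hr
  obtain ⟨c', hc', h5⟩ := key (2 ^ r)
  rw [hs', mul_one] at h5
  have h6 : g ^ 2 ^ r ∈ kern M := by rw [h5]; exact hc'
  -- so `g` itself, which has odd order
  obtain ⟨n, hn⟩ : ∃ n : ℕ, (g ^ 2 ^ r) ^ n = g := by
    have hco : Nat.Coprime (orderOf g) (2 ^ r) := Nat.Coprime.pow_right r (Nat.Coprime.symm (Nat.coprime_two_left.2 ho))
    exact exists_pow_eq_self_of_coprime hco.symm
  have h7 : g ∈ kern M := by rw [← hn]; exact pow_mem h6 n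
  obtain ⟨y, hy⟩ := exists_ap_three_sub (F := F) a ![1, 0]
  obtain ⟨v, hv, hvy⟩ := M.surj (fun _ => y)
  have h8 := congrFun (h7.2 v hv) ⟨0, hk⟩
  rw [hI.1 v hv, hvy] at h8
  rw [h8, sub_self] at hy
  have := congrFun hy 0
  simp at this

include hG h in
/-- an element of `S` which centralises `V / D` centralises `V` -/
theorem comm_of_quot (hk : 0 < k) {a : G} (ha : a ∈ (S : Subgroup G)) (hc : a ∈ kern M) :
    ∀ v ∈ zl (S : Subgroup G) P, a * v = v * a := by
  have hP := h.toIsPar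
  have h1 : (S : Subgroup G) ⊓ kern M ≤ o2 P := by
    rcases hP.sup_eq_or_inf_le S (kern_le M) (kern_norm M) with h2 | h2
    · exact absurd h2 (kern_sup_ne S h M hk)
    · exact h2
  have h2 : a ∈ o2 P := h1 ⟨ha, hc⟩
  rw [← IsParS.inf_centralizer S hG h] at h2
  intro v hv
  exact (mem_centralizer_iff.1 h2.2 v hv).symm

include hG h in
/-- a 2-element of `P` which centralises `V / D` centralises `V` -/
theorem comm_of_quot_two (hk : 0 < k) {u : G} (hu : u ∈ kern M) (hu2 : ∃ a : ℕ, u ^ 2 ^ a = 1) :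
    ∀ v ∈ zl (S : Subgroup G) P, u * v = v * u := by
  obtain ⟨a, ha⟩ := hu2
  have hz : IsPGroup 2 (zpowers u) := by
    rintro ⟨x, n, rfl⟩
    refine ⟨a, Subtype.ext ?_⟩
    change (u ^ n) ^ 2 ^ a = 1
    rw [← zpow_natCast, ← zpow_mul, mul_comm, zpow_mul, zpow_natCast, ha, one_zpow]
  obtain ⟨p, hp, h1⟩ := FFThm.exists_conj_le S h.le hz (zpowers_le.2 (kern_le M hu))
  have h2 : p * u * p⁻¹ ∈ (S : Subgroup G) := h1 ⟨u, mem_zpowers u, rfl⟩
  have h4 := comm_of_quot hG S h M hk h2 (kern_conj M hp hu)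
  intro v hv
  have h5 := h4 _ (conj_mem_zl hp hv)
  have e : u * v = p⁻¹ * (p * u * p⁻¹ * (p * v * p⁻¹)) * p := by group
  rw [e, h5]
  group

include hG h in
theorem sq_zl {v : G} (hv : v ∈ zl (S : Subgroup G) P) : v * v = 1 := by
  have := VModule.zc_sq _ _ (h.isLoc.zl_le S hG hv)
  rwa [pow_two] at this

include hG h in
/-- an element of `P` which centralises `V / D` and `D` centralises `V` -/
theorem comm_of_kern (hk : 0 < k) {g : G} (hg : g ∈ kern M) (hD : ∀ d ∈ cv (S : Subgroup G) P, g * d = d * g) :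
    ∀ v ∈ zl (S : Subgroup G) P, g * v = v * g := by
  have h1 := (mem_kern_iff M (kern_le M hg)).1 hg
  set C : Subgroup G := centralizer (zl (S : Subgroup G) P : Set G) with hC
  -- the square
  have hsq : g ^ 2 ∈ C := by
    rw [hC, mem_centralizer_iff]
    intro v hv
    have h2 := h1 v hv
    have h3 : g * (g * v * g⁻¹ * v⁻¹) = (g * v * g⁻¹ * v⁻¹) * g := hD _ h2
    have h4 : g ^ 2 * v * (g ^ 2)⁻¹ = v := by
      calc g ^ 2 * v * (g ^ 2)⁻¹ = g * (g * v * g⁻¹ * v⁻¹) * v * g⁻¹ := by rw [pow_two]; group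
        _ = (g * v * g⁻¹ * v⁻¹) * (g * v * g⁻¹ * v⁻¹) * v := by rw [h3]; group
        _ = v := by rw [sq_zl hG S h (cv_le _ _ h2), one_mul]
    rw [mul_inv_eq_iff_eq_mul] at h4
    exact h4.symm
  -- the power of 2-power order
  obtain ⟨a, m, hm, ha⟩ := Nat.exists_eq_pow_mul_and_not_dvd (orderOf_pos g).ne' 2 (by norm_num)
  have hgm : g ^ m ∈ C := by
    rw [hC, mem_centralizer_iff]
    intro v hv
    refine (comm_of_quot_two hG S h M hk (pow_mem hg m) ⟨a, ?_⟩ v hv).symm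
    rw [← pow_mul, mul_comm, ← ha, pow_orderOf_eq_one]
  have hodd : Odd m := Nat.not_even_iff_odd.1 fun h => hm h.two_dvd
  obtain ⟨j, hj⟩ := hodd
  have h2 : g = g ^ m * ((g ^ 2) ^ j)⁻¹ := by
    rw [hj, pow_succ', ← pow_mul, mul_inv_cancel_right]
  have h3 : g ∈ C := by
    rw [h2]
    exact mul_mem hgm (inv_mem (pow_mem hsq j))
  intro v hv
  exact (mem_centralizer_iff.1 h3 v hv).symm

end kernelS

/-! ### Split -/

section splitS

variable [Finite G] (hG : IsCharacteristicTwoType G) (S : Sylow 2 G) {P : Subgroup G}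
  (h : IsParS (S : Subgroup G) P) {F : Type} [Field F] [CharP F 2] {k : ℕ}
  (M : NatK F (S : Subgroup G) P (zl (S : Subgroup G) P) (cv (S : Subgroup G) P) k)
  (hs : SplitPar (S : Subgroup G) P)

include hG h M hs in
/-- `D ≤ Z(S)` -/
theorem cv_le_zc : cv (S : Subgroup G) P ≤ zc (S : Subgroup G) := by
  have hSP := h.le
  have hZle : zc (S : Subgroup G) ≤ zl (S : Subgroup G) P := VModule.zc_le_zl _ _
  have hzlS : zl (S : Subgroup G) P ≤ (S : Subgroup G) :=
    ((h.isLoc.zl_le S hG).trans (VModule.zc_le _)).trans (h.isLoc.o2_le S)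
  set D₁ : Subgroup G := cv (S : Subgroup G) P ⊓ zc (S : Subgroup G) with hD₁
  -- `P` centralises `D₁`
  have hPD : ∀ p ∈ P, ∀ d ∈ D₁, p * d = d * p := by
    intro p hp d hd
    have h1 : P ≤ centralizer ({d} : Set G) := by
      conv_lhs => rw [← oddGen_sup hSP (MinSimple.Basic.not_dvd_relIndex S hSP)]
      refine sup_le (fun y hy => ?_) (fun y hy => ?_)
      · rw [mem_centralizer_singleton_iff]
        exact mem_centralizer_iff.1 hd.1.2 y hy
      · rw [mem_centralizer_singleton_iff]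
        exact (VModule.mem_zc.1 hd.2).2.1 y hy
    exact mem_centralizer_singleton_iff.1 (h1 hp)
  have hK : zl (S : Subgroup G) P ≤ vx (S : Subgroup G) P ⊔ D₁ := by
    apply VModule.zl_le
    · intro z hz
      obtain ⟨n, hn, d, hd, rfl⟩ := exists_mul M (hZle hz)
      have hz' := (VModule.mem_zc.1 hz).2.1
      have hdz : d ∈ zc (S : Subgroup G) := by
        rw [VModule.mem_zc]
        refine ⟨hzlS (cv_le _ _ hd), fun s hs' => ?_, VModule.zc_sq _ _ (h.isLoc.zl_le S hG (cv_le _ _ hd))⟩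
        have h1 : n⁻¹ * (s * n * s⁻¹) = d * (s * d * s⁻¹)⁻¹ := by
          have h2 : s * (n * d) * s⁻¹ = n * d := by rw [hz' s hs', mul_inv_cancel_right]
          have h3 : s * n * s⁻¹ * (s * d * s⁻¹) = n * d := by rw [← h2]; group
          rw [inv_mul_eq_iff_eq_mul, ← mul_assoc, ← h3]
          group
        have h2 : d * (s * d * s⁻¹)⁻¹ ∈ vx (S : Subgroup G) P ⊓ cv (S : Subgroup G) P := by
          refine mem_inf.2 ⟨?_, mul_mem hd (inv_mem (conj_mem_cv (hSP hs') hd))⟩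
          rw [← h1]
          exact mul_mem (inv_mem hn) (conj_mem_vx (hSP hs') hn)
        rw [hs, mem_bot, mul_inv_eq_one] at h2
        nth_rewrite 2 [h2]
        group
      exact mul_mem (le_sup_left (a := vx (S : Subgroup G) P) hn)
        (le_sup_right (a := vx (S : Subgroup G) P) ⟨hd, hdz⟩)
    · refine le_trans (le_inf (le_normalizer_vx _ _) ?_) (normalizer_inf_normalizer_le_normalizer_sup _ _)
      intro p hp
      rw [mem_normalizer_iff]
      intro d
      constructor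
      · intro hd
        rw [hPD p hp d hd, mul_inv_cancel_right]; exact hd
      · intro hd
        have := hPD p⁻¹ (inv_mem hp) _ hd
        have e : p⁻¹ * (p * d * p⁻¹) * p = d := by group
        rw [← e, this]
        simpa using hd
  intro d hd
  have hd' := hK (cv_le _ _ hd)
  have hcomm : vx (S : Subgroup G) P ≤ normalizer (D₁ : Set G) := by
    intro n hn
    rw [mem_normalizer_iff]
    have hnP : n ∈ P := hSP (hzlS (vx_le _ _ hn))
    intro x
    constructor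
    · intro hx
      rw [hPD n hnP x hx, mul_inv_cancel_right]; exact hx
    · intro hx
      have := hPD n⁻¹ (inv_mem hnP) _ hx
      have e : n⁻¹ * (n * x * n⁻¹) * n = x := by group
      rw [← e, this]
      simpa using hx
  rw [← SetLike.mem_coe, coe_mul_of_left_le_normalizer_right _ _ hcomm, Set.mem_mul] at hd'
  obtain ⟨n, hn, d₁, hd₁, rfl⟩ := hd'
  have h1 : n ∈ vx (S : Subgroup G) P ⊓ cv (S : Subgroup G) P := by
    refine mem_inf.2 ⟨hn, ?_⟩
    have := mul_mem hd (inv_mem hd₁.1)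
    rwa [mul_inv_cancel_right] at this
  rw [hs, mem_bot] at h1
  rw [h1, one_mul]
  exact hd₁.2

include hG h M hs in
/-- `P` centralises `D` -/
theorem le_centralizer_cv : P ≤ centralizer (cv (S : Subgroup G) P : Set G) := by
  conv_lhs => rw [← oddGen_sup h.le (MinSimple.Basic.not_dvd_relIndex S h.le)]
  refine sup_le (fun y hy => ?_) (fun y hy => ?_)
  · rw [mem_centralizer_iff]
    exact fun d hd => (mem_centralizer_iff.1 hd.2 y hy).symm
  · rw [mem_centralizer_iff]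
    exact fun d hd => ((VModule.mem_zc.1 (cv_le_zc hG S h M hs hd)).2.1 y hy).symm

end splitS

/-! ### `N` as a sum of natural modules -/

section card

theorem card_of_mul {X D W : Subgroup G} (h1 : ∀ w ∈ W, ∃ x ∈ X, ∃ d ∈ D, w = x * d) (h2 : X ≤ W) (h3 : D ≤ W)
    (h4 : X ⊓ D = ⊥) : Nat.card W = Nat.card X * Nat.card D := by
  rw [← Nat.card_prod]
  symm
  refine Nat.card_congr (Equiv.ofBijective (fun p : X × D => (⟨p.1 * p.2, mul_mem (h2 p.1.2) (h3 p.2.2)⟩ : W))
    ⟨?_, ?_⟩)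
  · rintro ⟨x, d⟩ ⟨x', d'⟩ he
    have he' : (x : G) * d = x' * d' := congrArg Subtype.val he
    have h5 : (x' : G)⁻¹ * x = d' * (d : G)⁻¹ := by
      rw [inv_mul_eq_iff_eq_mul, ← mul_assoc, ← he']
      group
    have h6 : (x' : G)⁻¹ * x ∈ X ⊓ D :=
      mem_inf.2 ⟨mul_mem (inv_mem x'.2) x.2, by rw [h5]; exact mul_mem d'.2 (inv_mem d.2)⟩
    rw [h4, mem_bot] at h6
    have h7 : (x : G) = x' := by
      have := congrArg (fun y => (x' : G) * y) h6
      simpa using this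
    have h8 : (d : G) = d' := by
      rw [h7] at he'
      exact mul_left_cancel he'
    rw [Subtype.ext h7, Subtype.ext h8]
  · rintro ⟨w, hw⟩
    obtain ⟨x, hx, d, hd, rfl⟩ := h1 w hw
    exact ⟨⟨⟨x, hx⟩, ⟨d, hd⟩⟩, rfl⟩

end card

section nat

variable {F : Type} [Field F] {S P : Subgroup G} {k : ℕ} (M : NatK F S P (zl S P) (cv S P) k)

theorem acts_res {g : G} {A : Fin k → Matrix.SpecialLinearGroup (Fin 2) F}
    (hA : ActsSL M.e (zl S P) (cv S P) g A) : ActsSL M.e (vx S P) ⊥ g A :=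
  ⟨fun v hv i => hA.1 v (vx_le S P hv) i, fun d hd => by rw [mem_bot] at hd; rw [hd, mul_one, one_mul]⟩

/-- an element which acts linearly on `N` acts so on `V / D` -/
theorem acts_of_vx [Finite G] [CharP F 2] {g : G} (hg : g ∈ P) {A : Fin k → Matrix.SpecialLinearGroup (Fin 2) F}
    (hA : ∀ v ∈ vx S P, ∀ i, M.e (g * v * g⁻¹) i = ap (A i) (M.e v i)) :
    ∀ v ∈ zl S P, ∀ i, M.e (g * v * g⁻¹) i = ap (A i) (M.e v i) := by
  intro v hv i
  obtain ⟨n, hn, d, hd, rfl⟩ := exists_mul M hv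
  have hnV := vx_le S P hn
  have e : g * (n * d) * g⁻¹ = g * n * g⁻¹ * (g * d * g⁻¹) := by group
  rw [e, e_mul_cv M (conj_mem_zl hg hnV) (conj_mem_cv hg hd), e_mul_cv M hnV hd, hA n hn i]

include M in
/-- an offender on `N` which centralises `D` is an offender on `V` -/
theorem off_of_vx [Finite G] [CharP F 2] (hs : SplitPar S P) {A : Subgroup G}
    (hD : ∀ a ∈ A, ∀ d ∈ cv S P, a * d = d * a) (h : Off (vx S P) A) : Off (zl S P) A := by
  refine ⟨h.elem, fun h1 => h.ne (h1.trans (centralizer_le (vx_le S P))), ?_⟩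
  have e1 : A ⊓ centralizer (zl S P : Set G) = A ⊓ centralizer (vx S P : Set G) := by
    apply le_antisymm (inf_le_inf_left _ (centralizer_le (vx_le S P)))
    rintro a ⟨ha, hc⟩
    refine mem_inf.2 ⟨ha, mem_centralizer_iff.2 fun v hv => ?_⟩
    have hc' := mem_centralizer_iff.1 hc
    obtain ⟨n, hn, d, hd, rfl⟩ := exists_mul M hv
    rw [mul_assoc, ← hD a ha d hd, ← mul_assoc, hc' n hn, mul_assoc]
  have e2 : Nat.card (zl S P) = Nat.card (vx S P) * Nat.card (cv S P) :=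
    card_of_mul (fun v hv => exists_mul M hv) (vx_le S P) (cv_le S P) hs
  have e3 : Nat.card ↥(zl S P ⊓ centralizer (A : Set G)) =
      Nat.card ↥(vx S P ⊓ centralizer (A : Set G)) * Nat.card (cv S P) := by
    refine card_of_mul ?_ (inf_le_inf_right _ (vx_le S P)) (le_inf (cv_le S P) ?_) ?_
    · rintro v ⟨hv, hc⟩
      obtain ⟨n, hn, d, hd, rfl⟩ := exists_mul M hv
      refine ⟨n, mem_inf.2 ⟨hn, mem_centralizer_iff.2 fun a ha => ?_⟩, d, hd, rfl⟩
      have h2 := mem_centralizer_iff.1 hc a ha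
      rw [← mul_assoc] at h2
      have h3 : a * n * d = n * a * d := by rw [h2, mul_assoc, ← hD a ha d hd, ← mul_assoc]
      exact mul_right_cancel h3
    · intro d hd
      rw [mem_centralizer_iff]
      exact fun a ha => hD a ha d hd
    · rw [eq_bot_iff, ← hs]
      exact inf_le_inf_right _ inf_le_left
  rw [e1, e2, e3]
  have h4 := h.le
  calc Nat.card (vx S P) * Nat.card (cv S P) * Nat.card ↥(A ⊓ centralizer (vx S P : Set G))
      = Nat.card (vx S P) * Nat.card ↥(A ⊓ centralizer (vx S P : Set G)) * Nat.card (cv S P) := by ring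
    _ ≤ Nat.card A * Nat.card ↥(vx S P ⊓ centralizer (A : Set G)) * Nat.card (cv S P) :=
        Nat.mul_le_mul_right _ h4
    _ = _ := by ring

/-- **Split: `N` is the sum of `k` natural modules** -/
noncomputable def natK [Finite G] [CharP F 2] (hs : SplitPar S P) (hD : ∀ s ∈ S, ∀ d ∈ cv S P, s * d = d * s) :
    NatK F S P (vx S P) ⊥ k where
  e := M.e
  mul v hv w hw := M.mul v (vx_le S P hv) w (vx_le S P hw)
  surj x := vx_surj M x
  ker v hv := by
    rw [M.ker v (vx_le S P hv), mem_bot]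
    constructor
    · intro h
      have : v ∈ vx S P ⊓ cv S P := ⟨hv, h⟩
      rwa [hs, mem_bot] at this
    · rintro rfl
      exact one_mem _
  lift A := by
    obtain ⟨g, hg, hA⟩ := M.lift A
    exact ⟨g, hg, acts_res M hA⟩
  norm g hg h hh A hA := by
    obtain ⟨B, hB⟩ := M.norm g hg h hh A (acts_of_vx M hh hA)
    exact ⟨B, fun v hv i => hB v (vx_le S P hv) i⟩
  perm g hg := by
    obtain ⟨σ, hσ⟩ := M.perm g hg
    exact ⟨σ, fun v hv i => hσ v (vx_le S P hv) i⟩
  trans i j := by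
    obtain ⟨t, ht, h1⟩ := M.trans i j
    exact ⟨t, ht, fun v hv => h1 v (vx_le S P hv)⟩
  line t ht := by
    obtain ⟨σ, hσ⟩ := M.line t ht
    exact ⟨σ, fun v hv i => hσ v (vx_le S P hv) i⟩
  unip b := by
    obtain ⟨t, ht, h1⟩ := M.unip b
    exact ⟨t, ht, acts_res M h1⟩
  gen K hTK hK := M.gen K hTK fun h hh A hA => hK h hh A (acts_res M hA)
  off A hA ho := by
    obtain ⟨I, h1, h2⟩ := M.off A hA (off_of_vx M hs (fun a ha d hd => hD a (hA ha) d hd) ho)
    refine ⟨I, fun a ha => ?_, fun b hb => ?_⟩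
    · obtain ⟨b, hb, h3⟩ := h1 a ha
      exact ⟨b, hb, acts_res M h3⟩
    · obtain ⟨a, ha, h3⟩ := h2 b hb
      exact ⟨a, ha, acts_res M h3⟩

end nat

end Cfsg.Agent.Omega.IId.Cv

end

section


/-!
# II.d: `|F| = 2`, `k` natural factors: `[V, O²(P)] ∩ C_V(O²(P)) = 1` (helper592)

* `mem_of_odd` : the elements of odd order of `P ≤ N S` lie in `N`;
* `comm_three` : an element of `SL₂(2)` of odd order commutes with `three F`;
* `splitPar_two` : `|F| = 2` implies `SplitPar S P`, any number `k` of factors.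
-/

set_option autoImplicit false
set_option linter.unusedSectionVars false

namespace Cfsg.Agent.Omega.IId.Cv

open Subgroup Cfsg Cfsg.Agent.ZN Cfsg.Agent.ZN.ChoiceSit Cfsg.Agent.ZN.ChoiceBase Cfsg.Agent.Omega.MinPar
open Cfsg.Agent.Omega.FrameFF Cfsg.Agent.Omega.FFThm Cfsg.Agent.Lib.SL2Mat
open Cfsg.Agent.Omega.NatPair (ap ap_add ap_mul ap_one ap_inj ext2 ap_zero' ap_one')
open Cfsg.Agent.MinSimple.VModule (oddGen oddGen_le mem_oddGen zl_comm zl_sq le_normalizer_zl le_normalizer_oddGen)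
open Cfsg.Agent.MinSimple
open Cfsg.Agent.Omega.HOne (cv_le conj_mem_zl conj_mem_cv le_normalizer_vx conj_mem_vx vx_le comm_mem_vx three
  exists_ap_three_sub three_pow)
open Cfsg.Agent.Omega.HOne.Main (vx SplitPar)
open Cfsg.Agent.Omega.SQT.Rank (pAct)
open scoped commutatorElement

universe u

section gen

variable {G : Type u} [Group G]

/-- The elements of odd order of `P ≤ N S` lie in `N`. -/
theorem mem_of_odd [Finite G] {N S P : Subgroup G} (hN : P ≤ normalizer (N : Set G)) (hSP : S ≤ P)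
    (hP : P ≤ N ⊔ S) (hS : IsPGroup 2 S) {g : G} (hg : g ∈ P) (ho : Odd (orderOf g)) : g ∈ N := by
  have hSn : S ≤ normalizer (N : Set G) := hSP.trans hN
  have h4 : g ∈ ((N ⊔ S : Subgroup G) : Set G) := hP hg
  rw [coe_mul_of_right_le_normalizer_left _ _ hSn] at h4
  obtain ⟨c, hc, s, hs, hcs⟩ := h4
  have key : ∀ n : ℕ, ∃ c' ∈ N, g ^ n = c' * s ^ n := by
    intro n
    induction n with
    | zero => exact ⟨1, one_mem _, by simp⟩
    | succ n ih =>
      obtain ⟨c', hc', h5⟩ := ih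
      refine ⟨c' * (s ^ n * c * (s ^ n)⁻¹), mul_mem hc' ?_, ?_⟩
      · exact (mem_normalizer_iff.1 (hSn (pow_mem hs n)) c).1 hc
      · rw [pow_succ, h5, ← hcs]
        group
  obtain ⟨r, hr⟩ := hS ⟨s, hs⟩
  have hs' : s ^ 2 ^ r = 1 := congrArg Subtype.val hr
  obtain ⟨c', hc', h5⟩ := key (2 ^ r)
  rw [hs', mul_one] at h5
  have h6 : g ^ 2 ^ r ∈ N := by rw [h5]; exact hc'
  obtain ⟨n, hn⟩ : ∃ n : ℕ, (g ^ 2 ^ r) ^ n = g := by
    have hco : Nat.Coprime (orderOf g) (2 ^ r) :=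
      Nat.Coprime.pow_right r (Nat.Coprime.symm (Nat.coprime_two_left.2 ho))
    exact exists_pow_eq_self_of_coprime hco.symm
  rw [← hn]
  exact pow_mem h6 n

end gen

section sl

variable {F : Type*} [Field F] [CharP F 2]

/-- `|F| = 2`: every element of `SL₂(F)` is an involution, `1`, or commutes with `three F` -/
theorem sq_or_comm (hF : Nat.card F = 2) (A : Matrix.SpecialLinearGroup (Fin 2) F) :
    A * A = 1 ∨ A * three F = three F * A := by
  have : Finite F := Nat.finite_of_card_ne_zero (by rw [hF]; norm_num)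
  have h01 : ∀ x : F, x = 0 ∨ x = 1 := by
    intro x
    by_contra hcon
    push Not at hcon
    have h1 := (Nat.card_eq_two_iff' (0 : F)).1 hF
    exact hcon.2 (h1.unique hcon.1 one_ne_zero)
  have two : (1 : F) + 1 = 0 := CharTwo.add_self_eq_zero 1
  have hdet := det_eq A
  have n1 : (-1 : F) = 1 := CharTwo.neg_eq 1
  rcases h01 (ent A 0 0) with a | a <;> rcases h01 (ent A 0 1) with b | b <;> rcases h01 (ent A 1 0) with c | c <;>
    rcases h01 (ent A 1 1) with d | d <;> rw [a, b, c, d] at hdet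
  all_goals first
    | (exfalso; simp at hdet; done)
    | (left; refine ext_ent ?_ ?_ ?_ ?_ <;> simp [ent_mul, a, b, c, d, two]; done)
    | (right; refine ext_ent ?_ ?_ ?_ ?_ <;> simp [ent_mul, a, b, c, d, two, three])

/-- an element of odd order of `SL₂(2)` commutes with `three F` -/
theorem comm_three (hF : Nat.card F = 2) {A : Matrix.SpecialLinearGroup (Fin 2) F} {n : ℕ} (hn : Odd n)
    (hA : A ^ n = 1) : A * three F = three F * A := by
  rcases sq_or_comm hF A with h | h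
  · obtain ⟨j, rfl⟩ := hn
    rw [pow_succ, pow_mul, pow_two, h, one_pow, one_mul] at hA
    rw [hA, one_mul, mul_one]
  · exact h

theorem ap_three (x : Fin 2 → F) : ap (three F) x = ![x 1, x 0 + x 1] := by
  refine ext2 ?_ ?_
  · simp [ap, three]
  · simp [ap, three]

/-- `1 + t + t² = 0` for `t = (three F)^(2^a)` -/
theorem ap_norm (a : ℕ) (x : Fin 2 → F) :
    ap ((three F) ^ 2 ^ a) (ap ((three F) ^ 2 ^ a) x) + ap ((three F) ^ 2 ^ a) x + x = 0 := by
  have h2 : (1 : F) + 1 = 0 := CharTwo.add_self_eq_zero 1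
  have h2' : (2 : F) = 0 := by rw [← one_add_one_eq_two]; exact h2
  rcases three_pow (F := F) a with h | h
  · rw [h, ap_three, ap_three]
    refine ext2 ?_ ?_
    · simp
      linear_combination (x 0 + x 1) * h2'
    · simp
      linear_combination (x 0 + 2 * x 1) * h2'
  · rw [h, ap_mul, ap_mul]
    simp only [ap_three]
    refine ext2 ?_ ?_
    · simp
      linear_combination (2 * x 0 + 2 * x 1) * h2'
    · simp
      linear_combination (2 * x 0 + 4 * x 1) * h2'

/-- an element of odd order of `SL₂(2)` commutes with the powers of `three F` -/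
theorem comm_three_pow (hF : Nat.card F = 2) {A : Matrix.SpecialLinearGroup (Fin 2) F} {n : ℕ} (hn : Odd n)
    (hA : A ^ n = 1) (m : ℕ) : A * three F ^ m = three F ^ m * A :=
  (Commute.pow_right (comm_three hF hn hA) m)

end sl

section split

variable {G : Type u} [Group G] [Finite G] (hG : IsCharacteristicTwoType G) (S : Sylow 2 G) {P : Subgroup G}
  (h : IsParS (S : Subgroup G) P) {F : Type} [Field F] [CharP F 2] {k : ℕ}
  (M : NatK F (S : Subgroup G) P (zl (S : Subgroup G) P) (cv (S : Subgroup G) P) k)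

/-- the elements of `P` which act on `V` as elements of `SL₂(F)^k` are normalised by `P` -/
theorem X_normal : P ≤ normalizer ((pAct M).X : Set G) := by
  have key : ∀ g ∈ P, ∀ x ∈ (pAct M).X, g * x * g⁻¹ ∈ (pAct M).X := by
    rintro g hg x ⟨hx, A, hA⟩
    obtain ⟨B, hB⟩ := M.norm g hg x hx A hA.1
    refine ⟨mul_mem (mul_mem hg hx) (inv_mem hg), B, hB, fun d hd => ?_⟩
    have h1 := conj_mem_cv (inv_mem hg) hd
    rw [inv_inv] at h1
    have h2 := hA.2 _ h1
    calc g * x * g⁻¹ * d = g * (x * (g⁻¹ * d * g)) * g⁻¹ := by group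
      _ = d * (g * x * g⁻¹) := by rw [h2]; group
  intro g hg
  rw [mem_normalizer_iff]
  intro x
  refine ⟨key g hg x, fun hx => ?_⟩
  have h1 := key g⁻¹ (inv_mem hg) _ hx
  have e : g⁻¹ * (g * x * g⁻¹) * g⁻¹⁻¹ = x := by group
  rwa [e] at h1

include h in
/-- the elements of odd order of `P` act on `V` as elements of `SL₂(F)^k` -/
theorem odd_mem_X {g : G} (hg : g ∈ P) (ho : Odd (orderOf g)) : g ∈ (pAct M).X := by
  refine mem_of_odd (X_normal S M) h.le ?_ S.isPGroup' hg ho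
  refine M.gen _ le_sup_right fun x hx A hA => ?_
  exact le_sup_left (a := (pAct M).X) ⟨hx, A, hA⟩

include hG h in
/-- two elements of odd order of `P` commute on `V` if one of them acts as a power of `three F` -/
theorem odd_comm (hk : 0 < k) (hF : Nat.card F = 2) {g x : G} (hg : g ∈ P) (hgo : g ∈ oddGen P) {a : ℕ}
    (hgA : ActsSL M.e (zl (S : Subgroup G) P) (cv (S : Subgroup G) P) g fun _ => three F ^ 2 ^ a)
    (hx : x ∈ P) (hxo : Odd (orderOf x)) {v : G} (hv : v ∈ zl (S : Subgroup G) P) :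
    g * (x * v * x⁻¹) * g⁻¹ = x * (g * v * g⁻¹) * x⁻¹ := by
  obtain ⟨-, A, hA⟩ := odd_mem_X S h M hx hxo
  have hAo : A ^ orderOf x = 1 := by
    have key : ∀ n : ℕ, ActsSL M.e (zl (S : Subgroup G) P) (cv (S : Subgroup G) P) (x ^ n) (A ^ n) := by
      intro n
      induction n with
      | zero =>
        simp only [pow_zero]
        exact (pAct M).one 1 (one_mem _) (one_mem _)
      | succ n ih =>
        rw [pow_succ, pow_succ]
        exact (pAct M).mul _ (pow_mem hx n) x hx _ _ ih hA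
    have h1 := key (orderOf x)
    rw [pow_orderOf_eq_one] at h1
    exact (pAct M).uniq 1 (one_mem _) _ _ h1 ((pAct M).one 1 (one_mem _) (one_mem _))
  have hcom : ∀ i, A i * three F ^ 2 ^ a = three F ^ 2 ^ a * A i := fun i =>
    comm_three_pow hF hxo (by have := congrFun hAo i; simpa using this) _
  -- `x⁻¹ g⁻¹ x g` centralises `V`
  have h1 : M.e (g * (x * v * x⁻¹) * g⁻¹) = M.e (x * (g * v * g⁻¹) * x⁻¹) := by
    funext i
    rw [hgA.1 _ (conj_mem_zl hx hv) i, hA.1 v hv i, hA.1 _ (conj_mem_zl hg hv) i, hgA.1 v hv i, ← ap_mul, ← ap_mul,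
      hcom i]
  have hk1 : x⁻¹ * g⁻¹ * x * g ∈ kern M := by
    refine ⟨mul_mem (mul_mem (mul_mem (inv_mem hx) (inv_mem hg)) hx) hg, fun w hw => ?_⟩
    have h2 : M.e (g * (x * w * x⁻¹) * g⁻¹) = M.e (x * (g * w * g⁻¹) * x⁻¹) := by
      funext i
      rw [hgA.1 _ (conj_mem_zl hx hw) i, hA.1 w hw i, hA.1 _ (conj_mem_zl hg hw) i, hgA.1 w hw i, ← ap_mul, ← ap_mul,
        hcom i]
    have h3 := e_conj_congr M (mul_mem (inv_mem hx) (inv_mem hg)) (conj_mem_zl hx (conj_mem_zl hg hw))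
      (conj_mem_zl hg (conj_mem_zl hx hw)) h2.symm
    have e1 : x⁻¹ * g⁻¹ * (x * (g * w * g⁻¹) * x⁻¹) * (x⁻¹ * g⁻¹)⁻¹ = x⁻¹ * g⁻¹ * x * g * w * (x⁻¹ * g⁻¹ * x * g)⁻¹ := by
      group
    have e2 : x⁻¹ * g⁻¹ * (g * (x * w * x⁻¹) * g⁻¹) * (x⁻¹ * g⁻¹)⁻¹ = w := by group
    rwa [e1, e2] at h3
  have hcx : ∀ d ∈ cv (S : Subgroup G) P, ∀ y ∈ oddGen P, y * d = d * y := fun d hd y hy =>
    mem_centralizer_iff.1 hd.2 y hy
  have hxg := mem_oddGen hx hxo
  have h4 := comm_of_kern hG S h M hk hk1 (fun d hd => hcx d hd _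
    (mul_mem (mul_mem (mul_mem (inv_mem hxg) (inv_mem hgo)) hxg) hgo)) v hv
  calc g * (x * v * x⁻¹) * g⁻¹ = g * x * (v * (x⁻¹ * g⁻¹ * x * g)) * (x⁻¹ * g⁻¹ * x * g)⁻¹ * x⁻¹ * g⁻¹ := by group
    _ = g * x * (x⁻¹ * g⁻¹ * x * g * v) * (x⁻¹ * g⁻¹ * x * g)⁻¹ * x⁻¹ * g⁻¹ := by rw [h4]
    _ = x * (g * v * g⁻¹) * x⁻¹ := by group

/-- `v v^g v^(g²)` -/
def nu (g v : G) : G := v * (g * v * g⁻¹) * (g * (g * v * g⁻¹) * g⁻¹)

include hG h M in
/-- **`|F| = 2` is always split** (`k` natural factors) -/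
theorem splitPar_two (hk : 0 < k) (hF : Nat.card F = 2) : SplitPar (S : Subgroup G) P := by
  obtain ⟨g, hg, ho, a, hI⟩ := exists_odd M
  have hgo : g ∈ oddGen P := mem_oddGen hg ho
  have hVc : ∀ x ∈ zl (S : Subgroup G) P, ∀ y ∈ zl (S : Subgroup G) P, x * y = y * x := fun x hx y hy =>
    VModule.zc_comm _ _ (h.isLoc.zl_le S hG hx) _ (h.isLoc.zl_le S hG hy)
  have hcx : ∀ d ∈ cv (S : Subgroup G) P, ∀ y ∈ oddGen P, y * d = d * y := fun d hd y hy =>
    mem_centralizer_iff.1 hd.2 y hy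
  have hc1 : ∀ v ∈ zl (S : Subgroup G) P, g * v * g⁻¹ ∈ zl (S : Subgroup G) P := fun v hv => conj_mem_zl hg hv
  have hnV : ∀ v ∈ zl (S : Subgroup G) P, nu g v ∈ zl (S : Subgroup G) P := fun v hv =>
    mul_mem (mul_mem hv (hc1 v hv)) (hc1 _ (hc1 v hv))
  -- `ν(v) ∈ D`
  have hnD : ∀ v ∈ zl (S : Subgroup G) P, nu g v ∈ cv (S : Subgroup G) P := by
    intro v hv
    rw [← M.ker _ (hnV v hv)]
    unfold nu
    rw [M.mul _ (mul_mem hv (hc1 v hv)) _ (hc1 _ (hc1 v hv)), M.mul _ hv _ (hc1 v hv)]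
    funext i
    rw [Pi.add_apply, Pi.add_apply, hI.1 _ (hc1 v hv) i, hI.1 v hv i]
    have := ap_norm a (M.e v i)
    rw [Pi.zero_apply, ← this]
    abel
  -- multiplicative
  have hnm : ∀ v ∈ zl (S : Subgroup G) P, ∀ w ∈ zl (S : Subgroup G) P, nu g (v * w) = nu g v * nu g w := by
    intro v hv w hw
    have a1 := hVc w hw (g * v * g⁻¹) (hc1 v hv)
    have a2 := hVc (w * (g * w * g⁻¹)) (mul_mem hw (hc1 w hw)) (g * (g * v * g⁻¹) * g⁻¹) (hc1 _ (hc1 v hv))
    unfold nu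
    calc v * w * (g * (v * w) * g⁻¹) * (g * (g * (v * w) * g⁻¹) * g⁻¹)
        = v * (w * (g * v * g⁻¹)) * (g * w * g⁻¹) * (g * (g * v * g⁻¹) * g⁻¹) * (g * (g * w * g⁻¹) * g⁻¹) := by group
      _ = v * ((g * v * g⁻¹) * w) * (g * w * g⁻¹) * (g * (g * v * g⁻¹) * g⁻¹) * (g * (g * w * g⁻¹) * g⁻¹) := by rw [a1]
      _ = v * (g * v * g⁻¹) * ((w * (g * w * g⁻¹)) * (g * (g * v * g⁻¹) * g⁻¹)) * (g * (g * w * g⁻¹) * g⁻¹) := by group
      _ = v * (g * v * g⁻¹) * ((g * (g * v * g⁻¹) * g⁻¹) * (w * (g * w * g⁻¹))) * (g * (g * w * g⁻¹) * g⁻¹) := by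
          rw [a2]
      _ = _ := by group
  have hn1 : nu g 1 = 1 := by unfold nu; group
  -- identity on `D`
  have hnd : ∀ d ∈ cv (S : Subgroup G) P, nu g d = d := by
    intro d hd
    have h1 : g * d * g⁻¹ = d := by rw [hcx d hd g hgo, mul_inv_cancel_right]
    unfold nu
    rw [h1, h1, sq_zl hG S h (cv_le _ _ hd), one_mul]
  -- invariant under `O²(P)`
  let C : Subgroup G :=
    { carrier := {x | x ∈ P ∧ ∀ v ∈ zl (S : Subgroup G) P, nu g (x * v * x⁻¹) = nu g v}
      one_mem' := ⟨one_mem _, fun v _ => by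
        have e : (1 : G) * v * 1⁻¹ = v := by group
        rw [e]⟩
      mul_mem' := by
        rintro x y ⟨hx, hx'⟩ ⟨hy, hy'⟩
        refine ⟨mul_mem hx hy, fun v hv => ?_⟩
        have e : x * y * v * (x * y)⁻¹ = x * (y * v * y⁻¹) * x⁻¹ := by group
        rw [e, hx' _ (conj_mem_zl hy hv), hy' v hv]
      inv_mem' := by
        rintro x ⟨hx, hx'⟩
        refine ⟨inv_mem hx, fun v hv => ?_⟩
        have h1 := hx' _ (conj_mem_zl (inv_mem hx) hv)
        have e : x * (x⁻¹ * v * x⁻¹⁻¹) * x⁻¹ = v := by group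
        rw [e] at h1
        exact h1.symm }
  have hC : oddGen P ≤ C := by
    rw [VModule.oddGen_def, closure_le]
    rintro x ⟨hx, hxo⟩
    refine ⟨hx, fun v hv => ?_⟩
    have h1 : nu g (x * v * x⁻¹) = x * nu g v * x⁻¹ := by
      unfold nu
      rw [odd_comm hG S h M hk hF hg hgo hI hx hxo hv, odd_comm hG S h M hk hF hg hgo hI hx hxo (hc1 v hv)]
      group
    rw [h1, hcx _ (hnD v hv) x (mem_oddGen hx hxo), mul_inv_cancel_right]
  have hvx : ∀ x ∈ vx (S : Subgroup G) P, nu g x = 1 := by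
    let K : Subgroup G :=
      { carrier := {x | x ∈ zl (S : Subgroup G) P ∧ nu g x = 1}
        one_mem' := ⟨one_mem _, hn1⟩
        mul_mem' := by
          rintro x y ⟨hx, hx'⟩ ⟨hy, hy'⟩
          exact ⟨mul_mem hx hy, by rw [hnm x hx y hy, hx', hy', one_mul]⟩
        inv_mem' := by
          rintro x ⟨hx, hx'⟩
          refine ⟨inv_mem hx, ?_⟩
          have h1 := hnm x hx x⁻¹ (inv_mem hx)
          rw [mul_inv_cancel, hn1, hx', one_mul] at h1
          exact h1.symm }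
    have h1 : vx (S : Subgroup G) P ≤ K := by
      unfold vx
      rw [commutator_le]
      intro v hv x hx
      have hx1 := hC hx
      have e : ⁅v, x⁆ = v * (x * v⁻¹ * x⁻¹) := by rw [commutatorElement_def]; group
      have h2 := conj_mem_zl hx1.1 (inv_mem hv)
      refine ⟨by rw [e]; exact mul_mem hv h2, ?_⟩
      rw [e, hnm v hv _ h2, hx1.2 _ (inv_mem hv), ← hnm v hv _ (inv_mem hv), mul_inv_cancel, hn1]
    exact fun x hx => (h1 hx).2
  unfold SplitPar
  rw [eq_bot_iff]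
  rintro x ⟨hx, hx'⟩
  rw [mem_bot, ← hnd x hx', hvx x hx]

end split

end Cfsg.Agent.Omega.IId.Cv

end

section


/-!
# `LeafMulti` in the strongly quasithin case

With `m_3(G) ≤ 2` the types of the members of mutual pairs are: at most two natural factors, at most two factors
`S₅` (`SQT.Rank`).  So the four leaves of `FrameMulti` for `QK` reduce to `Wr2`, `SymWr2`, `C2`, `F42`.
-/

set_option autoImplicit false

namespace Cfsg.Agent.Omega.SQT.Multi

open Subgroup Cfsg Cfsg.Agent.ZN Cfsg.Agent.Omega.MinPar Cfsg.Agent.Omega.Frame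
open Cfsg.Agent.Omega.FrameLE (AllIn)
open Cfsg.Agent.Omega.FrameFF (Free)
open Cfsg.Agent.Omega.FrameMulti
open Cfsg.Agent.Omega.SQT.Main (QK)

universe u

theorem three {G : Type u} [Group G] (h : Quasithin.StrQ G) : PRankLE 3 2 G :=
  h 3 Nat.prime_three (by norm_num)

theorem isNat_le {G : Type u} [Group G] [Finite G] (hG : Ctx G) (hq : Quasithin.StrQ G) {S : Sylow 2 G}
    {P : Subgroup G} (hP : IsParS (S : Subgroup G) P) {k : ℕ} (h : IsNat (S : Subgroup G) P k) : k ≤ 2 := by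
  obtain ⟨F, _, _, _, ⟨N⟩⟩ := h
  exact Rank.natK_le hG.char2 S hP N (three hq)

theorem isSym_le {G : Type u} [Group G] [Finite G] (hG : Ctx G) (hq : Quasithin.StrQ G) {S : Sylow 2 G}
    {P : Subgroup G} (hP : IsParS (S : Subgroup G) P) {k m : ℕ} (hk : 1 ≤ k) (hm : 2 ≤ m)
    (h : IsSym (S : Subgroup G) P k m) : k ≤ 2 ∧ m = 2 := by
  obtain ⟨N⟩ := h
  exact Rank.symK_le hG.char2 S hP N hm (three hq) hk

/-- `LeafWr` for `QK`: exactly two natural factors. -/
def Wr2 : Prop :=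
  ∀ (G : Type u) [Group G] [Finite G], Ctx G → Quasithin.StrQ G → ∀ (S : Sylow 2 G), Full (S : Subgroup G) →
    AllIn (S : Subgroup G) → AllTyped (S : Subgroup G) →
    ∀ (P₁ P₂ : Subgroup G) (x : G), Mutual (S : Subgroup G) P₁ P₂ x →
      IsNat (S : Subgroup G) P₁ 2 → IsKnownSimple' G

/-- `LeafSymWr` for `QK`: exactly two factors `S₅`. -/
def SymWr2 : Prop :=
  ∀ (G : Type u) [Group G] [Finite G], Ctx G → Quasithin.StrQ G → ∀ (S : Sylow 2 G), Full (S : Subgroup G) →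
    AllIn (S : Subgroup G) → AllTyped (S : Subgroup G) →
    ∀ (P₁ P₂ : Subgroup G) (x : G), Mutual (S : Subgroup G) P₁ P₂ x →
      IsSym (S : Subgroup G) P₁ 2 2 → IsKnownSimple' G

/-- `LeafC` for `QK`: one factor `S₅` against one natural factor or `S₅`. -/
def C2 : Prop :=
  ∀ (G : Type u) [Group G] [Finite G], Ctx G → Quasithin.StrQ G → ∀ (S : Sylow 2 G), Full (S : Subgroup G) →
    AllIn (S : Subgroup G) → AllTyped (S : Subgroup G) → NoWr (S : Subgroup G) → SymFree (S : Subgroup G) →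
    ∀ (P₁ P₂ : Subgroup G) (x : G), Mutual (S : Subgroup G) P₁ P₂ x →
      Free (S : Subgroup G) P₁ → Free (S : Subgroup G) P₂ → IsSym (S : Subgroup G) P₁ 1 2 →
        (IsNat (S : Subgroup G) P₂ 1 ∨ IsSym (S : Subgroup G) P₂ 1 2) → IsKnownSimple' G

/-- `LeafF4` for `QK`: the same with `C_V(O²(P)) ≠ 1` for one of the members. -/
def F42 : Prop :=
  ∀ (G : Type u) [Group G] [Finite G], Ctx G → Quasithin.StrQ G → ∀ (S : Sylow 2 G), Full (S : Subgroup G) →
    AllIn (S : Subgroup G) → AllTyped (S : Subgroup G) → NoWr (S : Subgroup G) →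
    ∀ (P₁ P₂ : Subgroup G) (x : G), Mutual (S : Subgroup G) P₁ P₂ x →
      ¬ (Free (S : Subgroup G) P₁ ∧ Free (S : Subgroup G) P₂) → IsSym (S : Subgroup G) P₁ 1 2 →
        (IsNat (S : Subgroup G) P₂ 1 ∨ IsSym (S : Subgroup G) P₂ 1 2) → IsKnownSimple' G

theorem leafWr (h : Wr2.{u}) : LeafWr QK.{u} := by
  intro G _ _ hG hq S hF hA hT P₁ P₂ x hm k hk hN
  have h1 := isNat_le hG hq hm.star₁ hN
  have h2 : k = 2 := by omega
  subst h2
  exact h G hG hq S hF hA hT P₁ P₂ x hm hN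

theorem leafSymWr (h : SymWr2.{u}) : LeafSymWr QK.{u} := by
  intro G _ _ hG hq S hF hA hT P₁ P₂ x hmu k m hk hm hN
  obtain ⟨h1, h2⟩ := isSym_le hG hq hmu.star₁ (by omega) hm hN
  have h3 : k = 2 := by omega
  subst h3 h2
  exact h G hG hq S hF hA hT P₁ P₂ x hmu hN

theorem leafC (h : C2.{u}) : LeafC QK.{u} := by
  intro G _ _ hG hq S hF hA hT hW hS P₁ P₂ x hmu hf1 hf2 m hm hN hor
  obtain ⟨-, h2⟩ := isSym_le hG hq hmu.star₁ le_rfl hm hN
  subst h2
  refine h G hG hq S hF hA hT hW hS P₁ P₂ x hmu hf1 hf2 hN ?_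
  rcases hor with ho | ⟨m', hm', ho⟩
  · exact Or.inl ho
  · obtain ⟨-, h2⟩ := isSym_le hG hq hmu.star₂ le_rfl hm' ho
    subst h2
    exact Or.inr ho

theorem leafF4 (h : F42.{u}) : LeafF4 QK.{u} := by
  intro G _ _ hG hq S hF hA hT hW P₁ P₂ x hmu hf m hm hN hor
  obtain ⟨-, h2⟩ := isSym_le hG hq hmu.star₁ le_rfl hm hN
  subst h2
  refine h G hG hq S hF hA hT hW P₁ P₂ x hmu hf hN ?_
  rcases hor with ho | ⟨m', hm', ho⟩
  · exact Or.inl ho
  · obtain ⟨-, h2⟩ := isSym_le hG hq hmu.star₂ le_rfl hm' ho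
    subst h2
    exact Or.inr ho

/-- **`LeafMulti` for the strongly quasithin groups.** -/
theorem leafMulti (hFF : FFThm.Stmt.{u}) (h1 : Wr2.{u}) (h2 : SymWr2.{u}) (h3 : C2.{u}) (h4 : F42.{u}) :
    FrameFF.LeafMulti QK.{u} :=
  FrameMulti.leafMulti hFF (leafWr h1) (leafSymWr h2) (leafC h3) (leafF4 h4)

end Cfsg.Agent.Omega.SQT.Multi

end

end
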