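import Cfsg.Agent.Mrg.Omega.S5.Def
import Cfsg.Agent.Mrg.Omega.Sec.Faithful
import Cfsg.Agent.OddOrderLocal.RankTwoRep
import Cfsg.Agent.Mrg.Omega.KL.TwoS.Inp
import Cfsg.Agent.Mrg.Omega.NOThreeL.RRed.Blk.Def

-- merged: Cfsg.Agent.Mrg.Omega.NO3S.SN2.VPlus.Span
section

section


/-!
# SN.Two / LightL, `V⁺` (helper933, bb #22887 (6)): `W(T')` depends on the pair only

`V` the even sets of `n` letters (`n` odd `≥ 5`), `Q ≤ C(V)`, `N = N_L(Q)` induces `Sym(n)`.
`Pl i j t W` : `t ∈ N` acts as `(i j)`, `W` is the plane `W_R` of a minimal parabolic `R` over `Q⟨t⟩`.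

* `Sys` : the hypotheses (no exact group, no `A(G)`, level free);
* `Sys.move` : `t ∈ T - Q` moves `W(T')` modulo `V` (`T` over `ij`, `T'` over `ik`) [(C)];
* **`Sys.uniq`** : `W(T')` depends on the pair only;
* `Sys.exists_fam` : the family `W i j`; `Fam` its properties;
* **`Fam.norm_N`, `Fam.norm_R`** : `V⁺` is normalised by `N` and by every `R`.
-/

set_option autoImplicit false
set_option linter.unusedSectionVars false

namespace Cfsg.Agent.Omega.NO3S.SN2.VPlus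

open Subgroup Cfsg.Agent.Omega.S5.Def Cfsg.Agent.Omega.NSix.Base Cfsg.Agent.Omega.NSix.Basic

universe u

variable {G : Type u} [Group G] {n : ℕ}

/-- `z_i ^ a z_j ^ b`. -/
def tt (ε : (Fin n → ZMod 2) → G) (i j : Fin n) (a b : ZMod 2) : G :=
  ε (a • Pi.single i 1 + b • Pi.single j 1)

theorem exists_ne {n : ℕ} (hn : 5 ≤ n) (i j k l : Fin n) : ∃ m : Fin n, m ≠ i ∧ m ≠ j ∧ m ≠ k ∧ m ≠ l := by
  obtain ⟨m, hm⟩ : ∃ m : Fin n, m ∉ ({i, j, k, l} : Finset (Fin n)) := by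
    by_contra hcon
    push Not at hcon
    have h1 : (Finset.univ : Finset (Fin n)) ⊆ {i, j, k, l} := fun k _ => hcon k
    have h2 := Finset.card_le_card h1
    rw [Finset.card_univ, Fintype.card_fin] at h2
    have h3 : ({i, j, k, l} : Finset (Fin n)).card ≤ 4 := Finset.card_le_four
    omega
  simp only [Finset.mem_insert, Finset.mem_singleton, not_or] at hm
  exact ⟨m, hm⟩

section tt

variable {V L : Subgroup G} {ε : (Fin n → ZMod 2) → G} (h : EvenSet n V L ε)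
include h

theorem tt_mem (i j : Fin n) (a b : ZMod 2) : tt ε i j a b ∈ V := h.mem _

theorem tt_zero (i j : Fin n) : tt ε i j 0 0 = 1 := by
  unfold tt
  rw [zero_smul, zero_smul, add_zero, h.zero]

omit h in
theorem tt_zero_one (i j : Fin n) : tt ε i j 0 1 = zz ε j := by
  unfold tt zz
  rw [zero_smul, one_smul, zero_add]

omit h in
theorem tt_one_zero (i j : Fin n) : tt ε i j 1 0 = zz ε i := by
  unfold tt zz
  rw [zero_smul, one_smul, add_zero]

theorem tt_one_one (i j : Fin n) : tt ε i j 1 1 = rr ε i j := by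
  unfold tt rr zz
  rw [one_smul, one_smul, h.add]

omit h in
theorem tt_symm (i j : Fin n) (a b : ZMod 2) : tt ε i j a b = tt ε j i b a := by
  unfold tt
  rw [add_comm]

theorem tt_add (i j : Fin n) (a b a' b' : ZMod 2) :
    tt ε i j a b * tt ε i j a' b' = tt ε i j (a + a') (b + b') := by
  unfold tt
  rw [← h.add]
  congr 1
  rw [add_smul, add_smul]
  abel

theorem tt_inv (i j : Fin n) (a b : ZMod 2) : (tt ε i j a b)⁻¹ = tt ε i j a b := h.inv _

omit h in
theorem tt_conj {g : G} {σ : Equiv.Perm (Fin n)} (hg : Acts ε g σ) (i j : Fin n) (a b : ZMod 2) :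
    g * tt ε i j a b * g⁻¹ = tt ε (σ i) (σ j) a b := by
  unfold tt
  rw [hg]
  congr 1
  have e : ∀ k : Fin n, (Pi.single k 1 : Fin n → ZMod 2) ∘ σ.symm = Pi.single (σ k) 1 := by
    intro k
    funext l
    by_cases hl : l = σ k
    · subst hl
      simp
    · have h1 : σ.symm l ≠ k := fun h0 => hl (by rw [← h0, Equiv.apply_symm_apply])
      simp [Function.comp, hl, h1]
  rw [← e i, ← e j]
  rfl

/-- `⟨z_i, z_j⟩ ∩ ⟨z_i, z_k⟩ = ⟨z_i⟩` -/
theorem tt_meet (hn : 5 ≤ n) {i j k : Fin n} (hij : i ≠ j) (hik : i ≠ k) (hjk : j ≠ k) {a b a' b' : ZMod 2}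
    (he : tt ε i j a b = tt ε i k a' b') : b = 0 ∧ b' = 0 := by
  obtain ⟨m, hm1, hm2, hm3, -⟩ := exists_ne hn i j k k
  have key : ∀ x y : ZMod 2, ∀ p q r : Fin n, r ≠ p → r ≠ q →
      (x • Pi.single p 1 + y • Pi.single q 1 : Fin n → ZMod 2) r = 0 := by
    intro x y p q r h1 h2
    simp [h1, h2]
  have k2 : ∀ x y : ZMod 2, ∀ p q : Fin n, p ≠ q →
      (x • Pi.single p 1 + y • Pi.single q 1 : Fin n → ZMod 2) q = y := by
    intro x y p q h1
    simp [h1.symm]
  rcases h.eq_iff.1 he with h1 | h1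
  · have h2 := congrFun h1 j
    have h3 := congrFun h1 k
    rw [k2 a b i j hij, key a' b' i k j hij.symm hjk] at h2
    rw [k2 a' b' i k hik, key a b i j k hik.symm hjk.symm] at h3
    exact ⟨h2, h3.symm⟩
  · exfalso
    have h2 := congrFun h1 m
    rw [key a b i j m hm1 hm2, Pi.add_apply, key a' b' i k m hm1 hm3, zero_add, Pi.one_apply] at h2
    exact zero_ne_one h2

end tt

/-- the group generated by the planes -/
def VP (Pl : Fin n → Fin n → G → Subgroup G → Prop) : Subgroup G :=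
  closure {w | ∃ i j t W, Pl i j t W ∧ w ∈ W}

/-- **The hypotheses** -/
structure Sys (V Q N : Subgroup G) (ε : (Fin n → ZMod 2) → G) (Pl : Fin n → Fin n → G → Subgroup G → Prop) :
    Prop where
  odd : Odd n
  five : 5 ≤ n
  ev : EvenSet n V N ε
  Qc : ∀ q ∈ Q, ∀ v ∈ V, q * v = v * q
  NQ : ∀ g ∈ N, ∀ q ∈ Q, g * q * g⁻¹ ∈ Q
  ex : ∀ i j, i ≠ j → ∃ t W, Pl i j t W
  sym : ∀ i j t W, Pl i j t W → Pl j i t W
  ne : ∀ i j t W, Pl i j t W → i ≠ j
  tN : ∀ i j t W, Pl i j t W → t ∈ N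
  act : ∀ i j t W, Pl i j t W → Acts ε t (Equiv.swap i j)
  VW : ∀ i j t W, Pl i j t W → V ≤ W
  nV : ∀ i j t W, Pl i j t W → ∃ w ∈ W, w ∉ V
  idx : ∀ i j t W, Pl i j t W → ∀ v ∈ W, ∀ w ∈ W, v ∉ V → w ∉ V → v * w ∈ V
  cj : ∀ i j t W, Pl i j t W → ∀ g ∈ N, ∀ σ, Acts ε g σ →
    Pl (σ i) (σ j) (g * t * g⁻¹) (W.map (MulAut.conj g).toMonoidHom)
  comm : ∀ i j t W, Pl i j t W → ∀ k l s W', Pl k l s W' → ∀ v ∈ W, ∀ w ∈ W', v * w = w * v
  sq : ∀ i j t W, Pl i j t W → ∀ v ∈ W, v * v = 1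
  Zc : ∀ i j t W, Pl i j t W → ∀ q ∈ Q, ∀ u ∈ W, ∃ a b, q * u * q⁻¹ * u⁻¹ = tt ε i j a b
  lemQ : ∀ u ∈ VP Pl, ∀ i, (∀ q ∈ Q, q * u * q⁻¹ * u⁻¹ = 1 ∨ q * u * q⁻¹ * u⁻¹ = zz ε i) → u ∈ V
  fix : ∀ i j k t W s W', Pl i j t W → Pl i k s W' → j ≠ k → ∀ u ∈ W', t * u * t⁻¹ * u⁻¹ ∈ W

namespace Sys

variable {V Q N : Subgroup G} {ε : (Fin n → ZMod 2) → G} {Pl : Fin n → Fin n → G → Subgroup G → Prop}
  (h : Sys V Q N ε Pl)
include h

omit h in
theorem mem_VP {i j : Fin n} {t : G} {W : Subgroup G} (hp : Pl i j t W) {w : G} (hw : w ∈ W) : w ∈ VP Pl :=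
  subset_closure ⟨i, j, t, W, hp, hw⟩

theorem VPc : ∀ x ∈ VP Pl, ∀ y ∈ VP Pl, x * y = y * x := by
  have h1 : ∀ x ∈ {w | ∃ i j t W, Pl i j t W ∧ w ∈ W}, ∀ y ∈ {w | ∃ i j t W, Pl i j t W ∧ w ∈ W},
      x * y = y * x := by
    rintro x ⟨i, j, t, W, hp, hx⟩ y ⟨k, l, s, W', hp', hy⟩
    exact h.comm i j t W hp k l s W' hp' x hx y hy
  intro x hx y hy
  have h2 := (Subgroup.isMulCommutative_closure h1).1.1 (⟨x, hx⟩ : Subgroup.closure _) ⟨y, hy⟩
  exact congrArg Subtype.val h2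

theorem V_le : V ≤ VP Pl := by
  obtain ⟨k, hk, -⟩ := exists_ne h.five ⟨0, by have := h.five; omega⟩ ⟨0, by have := h.five; omega⟩
    ⟨0, by have := h.five; omega⟩ ⟨0, by have := h.five; omega⟩
  obtain ⟨t, W, hp⟩ := h.ex _ _ hk
  exact fun v hv => mem_VP hp (h.VW _ _ _ _ hp hv)

theorem Vm {v : G} (hv : v ∈ V) {g : G} (hg : g ∈ N) : g * v * g⁻¹ ∈ V :=
  (mem_normalizer_iff.1 (h.ev.le_normalizer hg) v).1 hv

/-- commutators with `Q` are multiplicative on `V⁺` -/
theorem cmul {q : G} {x y : G} (hx : x ∈ VP Pl) (hy : y ∈ VP Pl) (hqy : q * y * q⁻¹ ∈ VP Pl) :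
    q * (x * y) * q⁻¹ * (x * y)⁻¹ = (q * x * q⁻¹ * x⁻¹) * (q * y * q⁻¹ * y⁻¹) := by
  have h1 : q * y * q⁻¹ * y⁻¹ ∈ VP Pl := (VP Pl).mul_mem hqy ((VP Pl).inv_mem hy)
  have h2 := h.VPc _ h1 _ ((VP Pl).inv_mem hx)
  calc q * (x * y) * q⁻¹ * (x * y)⁻¹ = q * x * q⁻¹ * ((q * y * q⁻¹ * y⁻¹) * x⁻¹) := by group
    _ = q * x * q⁻¹ * (x⁻¹ * (q * y * q⁻¹ * y⁻¹)) := by rw [h2]
    _ = _ := by group

theorem Qm {i j : Fin n} {t : G} {W : Subgroup G} (hp : Pl i j t W) {q u : G} (hq : q ∈ Q) (hu : u ∈ W) :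
    q * u * q⁻¹ ∈ W := by
  obtain ⟨a, b, hab⟩ := h.Zc _ _ _ _ hp q hq u hu
  have h1 : q * u * q⁻¹ = tt ε i j a b * u := by
    rw [← hab]
    group
  rw [h1]
  exact W.mul_mem (h.VW _ _ _ _ hp (tt_mem h.ev _ _ _ _)) hu

theorem sqV {v : G} (hv : v ∈ V) : v * v = 1 := h.ev.sq_mem hv

theorem invV {v : G} (hv : v ∈ V) : v⁻¹ = v := inv_eq_of_mul_eq_one_left (h.sqV hv)

theorem inv {i j : Fin n} {t : G} {W : Subgroup G} (hp : Pl i j t W) {u : G} (hu : u ∈ W) : u⁻¹ = u :=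
  inv_eq_of_mul_eq_one_left (h.sq _ _ _ _ hp u hu)

/-- a plane is `V ∪ aV` -/
theorem eq_of {i j k l : Fin n} {t s : G} {W W' : Subgroup G} (hp : Pl i j t W) (hp' : Pl k l s W') {a b : G}
    (ha : a ∈ W) (haV : a ∉ V) (hb : b ∈ W') (hbV : b ∉ V) (hab : a * b ∈ V) : W = W' := by
  have key : ∀ {i j k l : Fin n} {t s : G} {W W' : Subgroup G}, Pl i j t W → Pl k l s W' → ∀ {a b : G},
      a ∈ W → a ∉ V → b ∈ W' → b ∉ V → a * b ∈ V → W ≤ W' := by
    intro i j k l t s W W' hp hp' a b ha haV hb hbV hab w hw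
    by_cases hwV : w ∈ V
    · exact h.VW _ _ _ _ hp' hwV
    · have h1 := h.idx _ _ _ _ hp w hw a ha hwV haV
      have h2 : w = (w * a) * (a * b) * b⁻¹ * (a * a)⁻¹ := by
        have := h.sq _ _ _ _ hp a ha
        rw [this, inv_one, mul_one]
        calc w = w * (a * a) := by rw [this, mul_one]
          _ = _ := by group
      rw [h2, h.sq _ _ _ _ hp a ha, inv_one, mul_one]
      exact W'.mul_mem (W'.mul_mem (h.VW _ _ _ _ hp' h1) (h.VW _ _ _ _ hp' hab)) (W'.inv_mem hb)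
  refine le_antisymm (key hp hp' ha haV hb hbV hab) (key hp' hp hb hbV ha haV ?_)
  rw [h.comm _ _ _ _ hp' _ _ _ _ hp b hb a ha]
  exact hab

/-- (C) : `t ∈ T - Q` moves `W(T')` modulo `V`. -/
theorem move {i j k : Fin n} {t s : G} {W W' : Subgroup G} (hp : Pl i j t W) (hp' : Pl i k s W') (hjk : j ≠ k)
    {u : G} (hu : u ∈ W') (huV : u ∉ V) : t * u * t⁻¹ * u⁻¹ ∉ V := by
  intro hc
  apply huV
  have hij := h.ne _ _ _ _ hp
  have hik := h.ne _ _ _ _ hp'
  have htN := h.tN _ _ _ _ hp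
  refine h.lemQ u (mem_VP hp' hu) k fun q hq => ?_
  set c := t * u * t⁻¹ * u⁻¹ with hcdef
  have htu : t * u * t⁻¹ = c * u := by rw [hcdef]; group
  obtain ⟨a, b, hab⟩ := h.Zc _ _ _ _ hp' (t⁻¹ * q * t) (by
    have := h.NQ t⁻¹ (N.inv_mem htN) q hq
    rwa [inv_inv] at this) u hu
  obtain ⟨a', b', hab'⟩ := h.Zc _ _ _ _ hp' q hq u hu
  have e1 : q * (t * u * t⁻¹) * q⁻¹ * (t * u * t⁻¹)⁻¹ = tt ε j k a b := by
    have h1 : q * (t * u * t⁻¹) * q⁻¹ * (t * u * t⁻¹)⁻¹ =
        t * ((t⁻¹ * q * t) * u * (t⁻¹ * q * t)⁻¹ * u⁻¹) * t⁻¹ := by group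
    rw [h1, hab, tt_conj (h.act _ _ _ _ hp), Equiv.swap_apply_left, Equiv.swap_apply_of_ne_of_ne hik.symm hjk.symm]
  have e2 : q * (c * u) * q⁻¹ * (c * u)⁻¹ = tt ε i k a' b' := by
    have h1 : q * (c * u) * q⁻¹ * (c * u)⁻¹ = (q * c * q⁻¹ * c⁻¹) * (q * u * q⁻¹ * u⁻¹) :=
      h.cmul (h.V_le hc) (mem_VP hp' hu) (mem_VP hp' (h.Qm hp' hq hu))
    have h2 : q * c * q⁻¹ * c⁻¹ = 1 := by
      rw [h.Qc q hq c hc]
      group
    rw [h1, h2, one_mul, hab']
  rw [htu] at e1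
  have e3 : tt ε k i b' a' = tt ε k j b a := by
    rw [tt_symm k i, tt_symm k j, ← e2, ← e1]
  have h0 := (tt_meet h.ev h.five hik.symm hjk.symm hij e3).1
  rw [hab', h0]
  have hb : b' = 0 ∨ b' = 1 := by
    clear * -
    revert b'
    decide
  rcases hb with rfl | rfl
  · left
    exact tt_zero h.ev _ _
  · right
    exact tt_zero_one _ _

theorem cjm {i j : Fin n} {t : G} {W : Subgroup G} (hp : Pl i j t W) {g : G} (hg : g ∈ N) {σ : Equiv.Perm (Fin n)}
    (hσ : Acts ε g σ) : Pl (σ i) (σ j) (g * t * g⁻¹) (W.map (MulAut.conj g).toMonoidHom) :=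
  h.cj i j t W hp g hg σ hσ

omit h in
theorem mem_map {W : Subgroup G} {g u : G} (hu : u ∈ W) : g * u * g⁻¹ ∈ W.map (MulAut.conj g).toMonoidHom :=
  ⟨u, hu, rfl⟩

theorem uniq' {i j : Fin n} {x x' : G} {Wx Wx' : Subgroup G} (hp : Pl i j x Wx) (hp' : Pl i j x' Wx') :
    Wx.map (MulAut.conj x').toMonoidHom = Wx' := by
  have hij := h.ne _ _ _ _ hp
  obtain ⟨k, hki, hkj, -, -⟩ := exists_ne h.five i j j j
  obtain ⟨y, Wy, hy⟩ := h.ex i k hki.symm
  obtain ⟨u, hu, huV⟩ := h.nV _ _ _ _ hy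
  have hxN := h.tN _ _ _ _ hp
  have hx'N := h.tN _ _ _ _ hp'
  -- `a ∈ W(x)`, `b ∈ W(x')`
  have ha := h.fix _ _ _ _ _ _ _ hp hy hkj.symm u hu
  have haV := h.move hp hy hkj.symm hu huV
  have hb := h.fix _ _ _ _ _ _ _ hp' hy hkj.symm u hu
  have hbV := h.move hp' hy hkj.symm hu huV
  set a := x * u * x⁻¹ * u⁻¹ with hadef
  set b := x' * u * x'⁻¹ * u⁻¹ with hbdef
  have hq1 := h.cjm hp hx'N (h.act _ _ _ _ hp')
  rw [Equiv.swap_apply_left, Equiv.swap_apply_right] at hq1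
  have hq1' := h.sym _ _ _ _ hq1
  have ha' : x' * a * x'⁻¹ ∈ Wx.map (MulAut.conj x').toMonoidHom := mem_map ha
  have ha'V : x' * a * x'⁻¹ ∉ V := fun hc => haV (by
    have := h.Vm hc (N.inv_mem hx'N)
    have e : x'⁻¹ * (x' * a * x'⁻¹) * x'⁻¹⁻¹ = a := by group
    rwa [e] at this)
  refine h.eq_of hq1' hp' ha' ha'V hb hbV ?_
  -- `c ∈ V`
  have he : Acts ε (x' * x) 1 := by
    have := (h.act _ _ _ _ hp').mul (h.act _ _ _ _ hp)
    rwa [Equiv.swap_mul_self] at this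
  have heN : x' * x ∈ N := N.mul_mem hx'N hxN
  have hy' := h.cjm hy heN he
  have hcu : (x' * a * x'⁻¹) * b = (x' * x) * u * (x' * x)⁻¹ * u⁻¹ := by
    rw [hadef, hbdef]
    group
  have hcVP : (x' * a * x'⁻¹) * b ∈ VP Pl := (VP Pl).mul_mem (mem_VP hq1' ha') (mem_VP hp' hb)
  refine h.lemQ _ hcVP i fun q hq => ?_
  -- first computation
  obtain ⟨α, β, h1⟩ := h.Zc _ _ _ _ hq1' q hq _ ha'
  obtain ⟨α', β', h2⟩ := h.Zc _ _ _ _ hp' q hq _ hb
  have e1 : q * ((x' * a * x'⁻¹) * b) * q⁻¹ * ((x' * a * x'⁻¹) * b)⁻¹ = tt ε i j (α + α') (β + β') := by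
    rw [h.cmul (mem_VP hq1' ha') (mem_VP hp' hb) (mem_VP hp' (h.Qm hp' hq hb)), h1, h2, tt_add h.ev]
  -- second computation
  have hu' : (x' * x) * u * (x' * x)⁻¹ ∈ Wy.map (MulAut.conj (x' * x)).toMonoidHom := mem_map hu
  obtain ⟨γ, δ, h3⟩ := h.Zc _ _ _ _ hy' q hq _ hu'
  obtain ⟨γ', δ', h4⟩ := h.Zc _ _ _ _ hy q hq u⁻¹ (Wy.inv_mem hu)
  have e2 : q * ((x' * a * x'⁻¹) * b) * q⁻¹ * ((x' * a * x'⁻¹) * b)⁻¹ = tt ε i k (γ + γ') (δ + δ') := by
    rw [hcu, h.cmul (mem_VP hy' hu') (mem_VP hy (Wy.inv_mem hu)) (mem_VP hy (h.Qm hy hq (Wy.inv_mem hu))), h3, h4]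
    exact tt_add h.ev _ _ _ _ _ _
  have e3 := tt_meet h.ev h.five hij hki.symm hkj.symm (e1.symm.trans e2)
  rw [e1, e3.1]
  have hb : α + α' = 0 ∨ α + α' = 1 := by
    generalize α + α' = w
    revert w
    decide
  rcases hb with h5 | h5 <;> rw [h5]
  · left
    exact tt_zero h.ev _ _
  · right
    exact tt_one_zero _ _

/-- **`W(T')` depends on the pair only.** -/
theorem uniq {i j : Fin n} {t s : G} {W₁ W₂ : Subgroup G} (h₁ : Pl i j t W₁) (h₂ : Pl i j s W₂) : W₁ = W₂ := by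
  have hs := h.tN _ _ _ _ h₂
  have ha : Acts ε s⁻¹ (Equiv.swap i j) := by
    have := (h.act _ _ _ _ h₂).inv
    rwa [Equiv.swap_inv] at this
  have h3 := h.cjm h₁ (N.inv_mem hs) ha
  rw [Equiv.swap_apply_left, Equiv.swap_apply_right] at h3
  have h4 := h.uniq' (h.sym _ _ _ _ h3) h₂
  rw [← h4, Subgroup.map_map]
  have h5 : (MulAut.conj s).toMonoidHom.comp (MulAut.conj s⁻¹).toMonoidHom = MonoidHom.id G := by
    ext g
    simp only [MulEquiv.toMonoidHom_eq_coe, MonoidHom.coe_comp, MonoidHom.coe_coe, Function.comp_apply,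
      MulAut.conj_apply, inv_inv, MonoidHom.id_apply]
    group
  rw [h5, Subgroup.map_id]

/-- (C) : `W(kl) ≤ W(ik) W(il)` -/
theorem le_sup {i k l : Fin n} {t s r : G} {W₁ W₂ W₃ : Subgroup G} (h₁ : Pl i k t W₁) (h₂ : Pl i l s W₂)
    (h₃ : Pl k l r W₃) : W₃ ≤ W₁ ⊔ W₂ := by
  have hkl := h.ne _ _ _ _ h₃
  have hik := h.ne _ _ _ _ h₁
  have hil := h.ne _ _ _ _ h₂
  obtain ⟨u, hu, huV⟩ := h.nV _ _ _ _ h₂
  have h4 := h.fix _ _ _ _ _ _ _ h₁ h₂ hkl u hu
  have htN := h.tN _ _ _ _ h₁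
  have h5 := h.cjm h₂ htN (h.act _ _ _ _ h₁)
  rw [Equiv.swap_apply_left, Equiv.swap_apply_of_ne_of_ne hil.symm hkl.symm] at h5
  have h6 := h.uniq h5 h₃
  have h7 : t * u * t⁻¹ ∈ W₃ := by
    rw [← h6]
    exact mem_map hu
  have h8 : t * u * t⁻¹ ∉ V := fun hc => huV (by
    have := h.Vm hc (N.inv_mem htN)
    have e : t⁻¹ * (t * u * t⁻¹) * t⁻¹⁻¹ = u := by group
    rwa [e] at this)
  have h9 : t * u * t⁻¹ ∈ W₁ ⊔ W₂ := by
    have e : t * u * t⁻¹ = (t * u * t⁻¹ * u⁻¹) * u := by group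
    rw [e]
    exact Subgroup.mul_mem_sup h4 hu
  have h10 : V ≤ W₁ ⊔ W₂ := (h.VW _ _ _ _ h₁).trans le_sup_left
  intro w hw
  by_cases hwV : w ∈ V
  · exact h10 hwV
  · have h11 := h.idx _ _ _ _ h₃ w hw _ h7 hwV h8
    have e : w = (w * (t * u * t⁻¹)) * (t * u * t⁻¹)⁻¹ := by group
    rw [e]
    exact (W₁ ⊔ W₂).mul_mem (h10 h11) ((W₁ ⊔ W₂).inv_mem h9)

end Sys

/-- the group generated by a family of planes -/
def VF (W : Fin n → Fin n → Subgroup G) : Subgroup G :=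
  closure {w | ∃ i j, i ≠ j ∧ w ∈ W i j}

/-- **The family of planes.** -/
structure Fam (V Q N : Subgroup G) (ε : (Fin n → ZMod 2) → G) (W : Fin n → Fin n → Subgroup G) : Prop where
  odd : Odd n
  five : 5 ≤ n
  ev : EvenSet n V N ε
  Qc : ∀ q ∈ Q, ∀ v ∈ V, q * v = v * q
  NQ : ∀ g ∈ N, ∀ q ∈ Q, g * q * g⁻¹ ∈ Q
  sym : ∀ i j, i ≠ j → W i j = W j i
  VW : ∀ i j, i ≠ j → V ≤ W i j
  nV : ∀ i j, i ≠ j → ∃ w ∈ W i j, w ∉ V
  idx : ∀ i j, i ≠ j → ∀ v ∈ W i j, ∀ w ∈ W i j, v ∉ V → w ∉ V → v * w ∈ V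
  cj : ∀ i j, i ≠ j → ∀ g ∈ N, ∀ σ, Acts ε g σ → ∀ w ∈ W i j, g * w * g⁻¹ ∈ W (σ i) (σ j)
  comm : ∀ i j, i ≠ j → ∀ k l, k ≠ l → ∀ v ∈ W i j, ∀ w ∈ W k l, v * w = w * v
  sq : ∀ i j, i ≠ j → ∀ v ∈ W i j, v * v = 1
  Zc : ∀ i j, i ≠ j → ∀ q ∈ Q, ∀ u ∈ W i j, ∃ a b, q * u * q⁻¹ * u⁻¹ = tt ε i j a b
  /-- (C) -/
  cc : ∀ i k l, i ≠ k → i ≠ l → k ≠ l → W k l ≤ W i k ⊔ W i l

/-- **There is a family.** -/
theorem Sys.exists_fam {V Q N : Subgroup G} {ε : (Fin n → ZMod 2) → G} {Pl : Fin n → Fin n → G → Subgroup G → Prop}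
    (h : Sys V Q N ε Pl) : ∃ W : Fin n → Fin n → Subgroup G, Fam V Q N ε W ∧
      (∀ i j t W', Pl i j t W' → W' = W i j) ∧ VF W = VP Pl := by
  classical
  choose! t W ht using h.ex
  have hW : ∀ i j t W', Pl i j t W' → W' = W i j := fun i j t W' hp => h.uniq hp (ht i j (h.ne _ _ _ _ hp))
  refine ⟨W, ⟨h.odd, h.five, h.ev, h.Qc, h.NQ, ?_, ?_, ?_, ?_, ?_, ?_, ?_, ?_, ?_⟩, hW, ?_⟩
  · intro i j hij
    exact hW _ _ _ _ (h.sym _ _ _ _ (ht i j hij))
  · intro i j hij
    exact h.VW _ _ _ _ (ht i j hij)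
  · intro i j hij
    exact h.nV _ _ _ _ (ht i j hij)
  · intro i j hij
    exact h.idx _ _ _ _ (ht i j hij)
  · intro i j hij g hg σ hσ w hw
    rw [← hW _ _ _ _ (h.cjm (ht i j hij) hg hσ)]
    exact Sys.mem_map hw
  · intro i j hij k l hkl
    exact h.comm _ _ _ _ (ht i j hij) _ _ _ _ (ht k l hkl)
  · intro i j hij
    exact h.sq _ _ _ _ (ht i j hij)
  · intro i j hij
    exact h.Zc _ _ _ _ (ht i j hij)
  · intro i k l hik hil hkl
    exact h.le_sup (ht i k hik) (ht i l hil) (ht k l hkl)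
  · apply le_antisymm
    · unfold VF VP
      refine closure_mono ?_
      rintro w ⟨i, j, hij, hw⟩
      exact ⟨i, j, t i j, W i j, ht i j hij, hw⟩
    · unfold VF VP
      refine closure_mono ?_
      rintro w ⟨i, j, s, W', hp, hw⟩
      exact ⟨i, j, h.ne _ _ _ _ hp, by rwa [← hW _ _ _ _ hp]⟩

namespace Fam

variable {V Q N : Subgroup G} {ε : (Fin n → ZMod 2) → G} {W : Fin n → Fin n → Subgroup G} (h : Fam V Q N ε W)
include h

omit h in
theorem mem_VF {i j : Fin n} (hij : i ≠ j) {w : G} (hw : w ∈ W i j) : w ∈ VF W :=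
  subset_closure ⟨i, j, hij, hw⟩

omit h in
theorem W_le {i j : Fin n} (hij : i ≠ j) : W i j ≤ VF W := fun _ hw => mem_VF hij hw

theorem VFc : ∀ x ∈ VF W, ∀ y ∈ VF W, x * y = y * x := by
  have h1 : ∀ x ∈ {w | ∃ i j, i ≠ j ∧ w ∈ W i j}, ∀ y ∈ {w | ∃ i j, i ≠ j ∧ w ∈ W i j},
      x * y = y * x := by
    rintro x ⟨i, j, hij, hx⟩ y ⟨k, l, hkl, hy⟩
    exact h.comm i j hij k l hkl x hx y hy
  intro x hx y hy
  have h2 := (Subgroup.isMulCommutative_closure h1).1.1 (⟨x, hx⟩ : Subgroup.closure _) ⟨y, hy⟩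
  exact congrArg Subtype.val h2

theorem VF_sq : ∀ x ∈ VF W, x * x = 1 := by
  intro x hx
  refine Subgroup.closure_induction (p := fun x _ => x * x = 1) ?_ ?_ ?_ ?_ hx
  · rintro x ⟨i, j, hij, hx⟩
    exact h.sq i j hij x hx
  · exact one_mul 1
  · intro x y hx hy h1 h2
    have h3 := h.VFc y hy x hx
    calc x * y * (x * y) = x * (y * x) * y := by group
      _ = (x * x) * (y * y) := by rw [h3]; group
      _ = 1 := by rw [h1, h2, one_mul]
  · intro x hx h1
    rw [← mul_inv_rev, h1, inv_one]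

/-- `V⁺` is normalised by `N` -/
theorem norm_N {g : G} (hg : g ∈ N) {w : G} (hw : w ∈ VF W) : g * w * g⁻¹ ∈ VF W := by
  obtain ⟨σ, hσ⟩ := h.ev.perm g hg
  have h1 : VF W ≤ (VF W).comap (MulAut.conj g).toMonoidHom := by
    conv_lhs => unfold VF
    rw [closure_le]
    rintro w ⟨i, j, hij, hw⟩
    exact mem_VF (fun e => hij (σ.injective e)) (h.cj i j hij g hg σ hσ w hw)
  exact h1 hw

/-- `V⁺` is normalised by the parabolics over `ij` -/
theorem norm_R {i j : Fin n} (hij : i ≠ j) {r : G} (h1 : ∀ w ∈ W i j, r * w * r⁻¹ ∈ W i j)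
    (h2 : ∀ k, k ≠ i → k ≠ j → ∀ w ∈ W i k, r * w * r⁻¹ ∈ W i j ⊔ W i k)
    (h3 : ∀ k, k ≠ i → k ≠ j → ∀ w ∈ W j k, r * w * r⁻¹ ∈ W i j ⊔ W j k) {w : G} (hw : w ∈ VF W) :
    r * w * r⁻¹ ∈ VF W := by
  have key : ∀ k l, k ≠ l → W k l ≤ (VF W).comap (MulAut.conj r).toMonoidHom := by
    have a1 : ∀ k, k ≠ i → W i k ≤ (VF W).comap (MulAut.conj r).toMonoidHom := by
      intro k hki w hw
      by_cases hkj : k = j
      · subst hkj
        exact mem_VF hij (h1 w hw)
      · exact sup_le (W_le hij) (W_le (Ne.symm hki)) (h2 k hki hkj w hw)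
    have a2 : ∀ k, k ≠ j → W j k ≤ (VF W).comap (MulAut.conj r).toMonoidHom := by
      intro k hkj w hw
      by_cases hki : k = i
      · subst hki
        rw [h.sym _ _ hij.symm] at hw
        exact mem_VF hij (h1 w hw)
      · exact sup_le (W_le hij) (W_le (Ne.symm hkj)) (h3 k hki hkj w hw)
    intro k l hkl
    by_cases hki : k = i
    · subst hki
      exact a1 l hkl.symm
    · by_cases hli : l = i
      · subst hli
        rw [h.sym _ _ hkl]
        exact a1 k hkl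
      · exact (h.cc i k l (Ne.symm hki) (Ne.symm hli) hkl).trans (sup_le (a1 k hki) (a1 l hli))
  have h4 : VF W ≤ (VF W).comap (MulAut.conj r).toMonoidHom := by
    conv_lhs => unfold VF
    rw [closure_le]
    rintro w ⟨k, l, hkl, hw⟩
    exact key k l hkl hw
  exact h4 hw

end Fam

end Cfsg.Agent.Omega.NO3S.SN2.VPlus

end

section


/-!
# `V⁺`: the subgroups `⟨z_i : i ∈ S⟩`, homomorphisms from `F₂^Λ`, automorphisms of the duads

* `InZ ε S v` : `v ∈ ⟨z_i : i ∈ S⟩`;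
* `exists_hom` : commuting involutions `L a` give a homomorphism `F₂^Λ → G`;
* `exists_perm_of_duads` : an automorphism which permutes the duads of `even(Λ) / 1` permutes the letters.
-/

set_option autoImplicit false
set_option linter.unusedSectionVars false

namespace Cfsg.Agent.Omega.NO3S.SN2.VPlus

open Subgroup Cfsg.Agent.Omega.S5.Def Cfsg.Agent.Omega.NSix.Base Cfsg.Agent.Omega.NSix.Basic

universe u

variable {G : Type u} [Group G] {n : ℕ}

/-- `v ∈ ⟨z_i : i ∈ S⟩` -/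
def InZ (ε : (Fin n → ZMod 2) → G) (S : Set (Fin n)) (v : G) : Prop :=
  ∃ x : Fin n → ZMod 2, (∀ m, m ∉ S → x m = 0) ∧ ε x = v

section InZ

variable {V L : Subgroup G} {ε : (Fin n → ZMod 2) → G} (h : EvenSet n V L ε) {S T : Set (Fin n)} {v w : G}

include h in
theorem InZ.one (S : Set (Fin n)) : InZ ε S 1 := ⟨0, fun _ _ => rfl, h.zero⟩

include h in
theorem InZ.mul (hv : InZ ε S v) (hw : InZ ε S w) : InZ ε S (v * w) := by
  obtain ⟨x, hx, rfl⟩ := hv
  obtain ⟨y, hy, rfl⟩ := hw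
  exact ⟨x + y, fun m hm => by rw [Pi.add_apply, hx m hm, hy m hm, add_zero], h.add x y⟩

theorem InZ.mono (hST : S ⊆ T) (hv : InZ ε S v) : InZ ε T v := by
  obtain ⟨x, hx, rfl⟩ := hv
  exact ⟨x, fun m hm => hx m fun hm' => hm (hST hm'), rfl⟩

theorem InZ.zz {i : Fin n} (hi : i ∈ S) : InZ ε S (zz ε i) :=
  ⟨Pi.single i 1, fun m hm => Pi.single_eq_of_ne (fun e => hm (by rw [e]; exact hi)) 1, rfl⟩

theorem InZ.tt {i j : Fin n} (hi : i ∈ S) (hj : j ∈ S) (a b : ZMod 2) : InZ ε S (tt ε i j a b) := by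
  refine ⟨_, fun m hm => ?_, rfl⟩
  have h1 : m ≠ i := fun e => hm (e ▸ hi)
  have h2 : m ≠ j := fun e => hm (e ▸ hj)
  simp [h1, h2]

include h in
theorem InZ.mem (hv : InZ ε S v) : v ∈ V := by
  obtain ⟨x, -, rfl⟩ := hv
  exact h.mem x

theorem InZ.conj {g : G} {σ : Equiv.Perm (Fin n)} (hg : Acts ε g σ) (hv : InZ ε S v) :
    InZ ε (σ '' S) (g * v * g⁻¹) := by
  obtain ⟨x, hx, rfl⟩ := hv
  refine ⟨x ∘ σ.symm, fun m hm => hx _ fun hm' => hm ⟨_, hm', Equiv.apply_symm_apply _ _⟩, (hg x).symm⟩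

include h in
theorem InZ.inter {m : Fin n} (hS : m ∉ S) (hT : m ∉ T) (hv : InZ ε S v) (hw : InZ ε T v) : InZ ε (S ∩ T) v := by
  obtain ⟨x, hx, rfl⟩ := hv
  obtain ⟨y, hy, hxy⟩ := hw
  have h1 : x = y := by
    rcases h.eq_iff.1 hxy with h1 | h1
    · exact h1.symm
    · have h2 := congrFun h1 m
      rw [hy m hT, Pi.add_apply, hx m hS, zero_add, Pi.one_apply] at h2
      exact absurd h2 zero_ne_one
  subst h1
  refine ⟨x, fun k hk => ?_, rfl⟩
  by_cases h3 : k ∈ S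
  · exact hy k fun h4 => hk ⟨h3, h4⟩
  · exact hx k h3

include h in
theorem InZ.empty (hv : InZ ε (∅ : Set (Fin n)) v) : v = 1 := by
  obtain ⟨x, hx, rfl⟩ := hv
  have : x = 0 := funext fun m => hx m (by simp)
  rw [this, h.zero]

include h in
/-- split off a letter -/
theorem InZ.split {i : Fin n} (hv : InZ ε (insert i S) v) : InZ ε S v ∨ InZ ε S (NSix.Base.zz ε i * v) := by
  classical
  obtain ⟨x, hx, rfl⟩ := hv
  have hb : x i = 0 ∨ x i = 1 := by
    generalize x i = w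
    revert w
    decide
  rcases hb with hb | hb
  · left
    refine ⟨x, fun m hm => ?_, rfl⟩
    by_cases hmi : m = i
    · rw [hmi, hb]
    · exact hx m fun h1 => h1.elim hmi hm
  · right
    refine ⟨Pi.single i 1 + x, fun m hm => ?_, by rw [h.add]; rfl⟩
    by_cases hmi : m = i
    · subst hmi
      rw [Pi.add_apply, Pi.single_eq_same, hb]
      exact CharTwo.add_self_eq_zero 1
    · rw [Pi.add_apply, Pi.single_eq_of_ne hmi, zero_add]
      exact hx m fun h1 => h1.elim hmi hm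

include h in
theorem InZ.pair {i j : Fin n} (hv : InZ ε {i, j} v) : ∃ a b, v = VPlus.tt ε i j a b := by
  rcases hv.split h with h1 | h1
  · have h1' : InZ ε (insert j ∅) v := by simpa using h1
    rcases h1'.split h with h2 | h2
    · exact ⟨0, 0, by rw [tt_zero h, h2.empty h]⟩
    · refine ⟨0, 1, ?_⟩
      rw [tt_zero_one]
      have := h2.empty h
      exact (mul_eq_one_iff_inv_eq.1 this).symm.trans (zz_inv h j)
  · have h1' : InZ ε (insert j ∅) (NSix.Base.zz ε i * v) := by simpa using h1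
    rcases h1'.split h with h2 | h2
    · refine ⟨1, 0, ?_⟩
      rw [tt_one_zero]
      have := h2.empty h
      exact (mul_eq_one_iff_inv_eq.1 this).symm.trans (zz_inv h i)
    · refine ⟨1, 1, ?_⟩
      rw [tt_one_one h]
      have h3 := h2.empty h
      rw [← mul_assoc] at h3
      have h4 : NSix.Base.zz ε j * NSix.Base.zz ε i = rr ε i j := zz_comm h _ _
      rw [h4] at h3
      exact (mul_eq_one_iff_inv_eq.1 h3).symm.trans (rr_inv h i j)

end InZ

/-- commuting involutions -/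
theorem exists_hom {Λ : Type*} [Fintype Λ] [DecidableEq Λ] (L : Λ → G) (hc : ∀ a b, L a * L b = L b * L a)
    (hs : ∀ a, L a * L a = 1) : ∃ Φ : (Λ → ZMod 2) → G, (∀ x y, Φ (x + y) = Φ x * Φ y) ∧
      (∀ a, Φ (Pi.single a 1) = L a) := by
  classical
  let φ : ∀ a : Λ, Multiplicative (ZMod 2) →* G := fun a =>
    { toFun := fun m => if Multiplicative.toAdd m = 0 then 1 else L a
      map_one' := by simp
      map_mul' := by
        intro x y
        have key : ∀ x y : ZMod 2, (if x + y = 0 then (1 : G) else L a) =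
            (if x = 0 then 1 else L a) * (if y = 0 then 1 else L a) := by
          intro x y
          have hx : x = 0 ∨ x = 1 := by revert x; decide
          have hy : y = 0 ∨ y = 1 := by revert y; decide
          have e11 : (1 : ZMod 2) + 1 = 0 := by decide
          rcases hx with rfl | rfl <;> rcases hy with rfl | rfl <;> simp [e11, hs]
        exact key _ _ }
  have hcomm : Pairwise fun a b => ∀ x y, Commute (φ a x) (φ b y) := by
    intro a b _ x y
    change (if Multiplicative.toAdd x = 0 then (1 : G) else L a) * (if Multiplicative.toAdd y = 0 then 1 else L b) =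
      (if Multiplicative.toAdd y = 0 then 1 else L b) * (if Multiplicative.toAdd x = 0 then 1 else L a)
    split_ifs <;> simp [hc a b]
  refine ⟨fun x => MonoidHom.noncommPiCoprod φ hcomm (fun a => Multiplicative.ofAdd (x a)), ?_, ?_⟩
  · intro x y
    rw [← map_mul]
    rfl
  · intro a
    have e : (fun b => Multiplicative.ofAdd ((Pi.single a 1 : Λ → ZMod 2) b)) =
        (Pi.mulSingle a (Multiplicative.ofAdd (1 : ZMod 2)) : Λ → Multiplicative (ZMod 2)) := by
      funext b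
      by_cases hb : b = a
      · subst hb
        simp
      · rw [Pi.single_eq_of_ne hb, Pi.mulSingle_eq_of_ne hb]
        rfl
    change MonoidHom.noncommPiCoprod φ hcomm _ = _
    rw [e, MonoidHom.noncommPiCoprod_mulSingle]
    change (if Multiplicative.toAdd (Multiplicative.ofAdd (1 : ZMod 2)) = 0 then (1 : G) else L a) = L a
    rw [if_neg]
    exact one_ne_zero

/-- **An automorphism which permutes the duads permutes the letters.** -/
theorem exists_perm_of_duads {Λ : Type*} [Finite Λ] (dd : Λ → Λ → G) (hΛ : 4 ≤ Nat.card Λ)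
    (h0 : ∀ a, dd a a = 1) (h1 : ∀ a b c, dd a b * dd b c = dd a c) (hs : ∀ a b, dd a b = dd b a)
    (h2 : ∀ a b c d, a ≠ b → dd a b = dd c d → (a = c ∧ b = d) ∨ (a = d ∧ b = c))
    (h3 : ∀ a b c d p q, a ≠ b → a ≠ c → a ≠ d → b ≠ c → b ≠ d → c ≠ d → p ≠ q → dd a b * dd c d ≠ dd p q)
    (f : G →* G) (hinj : Function.Injective f) (hf : ∀ a b, a ≠ b → ∃ c d, c ≠ d ∧ f (dd a b) = dd c d) :
    ∃ σ : Equiv.Perm Λ, ∀ a b, f (dd a b) = dd (σ a) (σ b) := by
  classical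
  -- meeting duads
  have meet : ∀ a b c, a ≠ b → a ≠ c → b ≠ c → ∃ p q r, p ≠ q ∧ p ≠ r ∧ q ≠ r ∧ f (dd a b) = dd p q ∧
      f (dd a c) = dd p r := by
    intro a b c hab hac hbc
    obtain ⟨p, q, hpq, e1⟩ := hf a b hab
    obtain ⟨r, s, hrs, e2⟩ := hf a c hac
    obtain ⟨t, w, htw, e3⟩ := hf b c hbc
    have e4 : dd p q * dd r s = dd t w := by
      rw [← e1, ← e2, ← e3, ← map_mul, hs a b, h1]
    have hne : dd p q ≠ dd r s := by
      intro h4
      rw [← e1, ← e2] at h4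
      rcases h2 _ _ _ _ hab (hinj h4) with h5 | h5
      · exact hbc h5.2
      · exact hac h5.1
    by_cases c1 : p = r
    · subst c1
      exact ⟨p, q, s, hpq, hrs, fun e => hne (by rw [e]), e1, e2⟩
    by_cases c2 : p = s
    · subst c2
      exact ⟨p, q, r, hpq, hrs.symm, fun e => hne (by rw [e, hs]), e1, by rw [e2, hs]⟩
    by_cases c3 : q = r
    · subst c3
      exact ⟨q, p, s, hpq.symm, hrs, fun e => hne (by rw [e, hs]), by rw [e1, hs], e2⟩
    by_cases c4 : q = s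
    · subst c4
      exact ⟨q, p, r, hpq.symm, hrs.symm, c1, by rw [e1, hs], by rw [e2, hs]⟩
    exact absurd e4 (h3 _ _ _ _ _ _ hpq c1 c2 c3 c4 hrs htw)
  -- the letter
  have lett : ∀ a, ∃ p, ∀ b, a ≠ b → ∃ q, p ≠ q ∧ f (dd a b) = dd p q := by
    intro a
    obtain ⟨b, hb⟩ : ∃ b, b ≠ a := by
      by_contra hcon
      push Not at hcon
      have : Nat.card Λ ≤ 1 := by
        rw [Finite.card_le_one_iff_subsingleton]
        exact ⟨fun x y => (hcon x).trans (hcon y).symm⟩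
      omega
    obtain ⟨c, hca, hcb⟩ : ∃ c, c ≠ a ∧ c ≠ b := by
      by_contra hcon
      push Not at hcon
      have h5 : (Set.univ : Set Λ) ⊆ {a, b} := by
        intro x _
        by_cases hx : x = a
        · exact Or.inl hx
        · exact Or.inr (hcon x hx)
      have h6 := Set.ncard_le_ncard h5 (Set.toFinite _)
      rw [Set.ncard_univ] at h6
      have h7 := Set.ncard_insert_le a {b}
      rw [Set.ncard_singleton] at h7
      omega
    obtain ⟨p, q, r, hpq, hpr, hqr, e1, e2⟩ := meet a b c hb.symm hca.symm hcb.symm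
    refine ⟨p, fun d had => ?_⟩
    by_cases hdb : d = b
    · subst hdb
      exact ⟨q, hpq, e1⟩
    by_cases hdc : d = c
    · subst hdc
      exact ⟨r, hpr, e2⟩
    obtain ⟨p', q', r', hpq', hpr', hqr', e1', e3⟩ := meet a b d hb.symm had (Ne.symm hdb)
    obtain ⟨p'', q'', r'', hpq'', hpr'', hqr'', e2', e3'⟩ := meet a c d hca.symm had (Ne.symm hdc)
    -- `f (ad) = p' r'` with `p' ∈ {p, q}`; `= p'' r''` with `p'' ∈ {p, r}`
    have a1 : p' = p ∨ p' = q := by
      rcases h2 _ _ _ _ hpq' (e1'.symm.trans e1) with h5 | h5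
      · exact Or.inl h5.1
      · exact Or.inr h5.1
    have a2 : p'' = p ∨ p'' = r := by
      rcases h2 _ _ _ _ hpq'' (e2'.symm.trans e2) with h5 | h5
      · exact Or.inl h5.1
      · exact Or.inr h5.1
    have a3 := h2 _ _ _ _ hpr' (e3.symm.trans e3')
    rcases a1 with rfl | rfl
    · exact ⟨r', hpr', e3⟩
    · rcases a2 with rfl | rfl
      · exact ⟨r'', hpr'', e3'⟩
      · -- `f (ad) = q r`, `f(ab) f(ac) f(ad) = 1`
        exfalso
        rcases a3 with h5 | h5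
        · exact hqr h5.1
        · have e4 : f (dd a d) = f (dd b c) := by
            rw [e3, ← h1 b a c, map_mul, hs b a, e1, e2, hs p p', h1, h5.2]
          rcases h2 _ _ _ _ had (hinj e4) with h6 | h6
          · exact hb h6.1.symm
          · exact hca h6.1.symm
  choose σ hσ using lett
  have key : ∀ a b, a ≠ b → σ a ≠ σ b ∧ f (dd a b) = dd (σ a) (σ b) := by
    intro a b hab
    obtain ⟨q, hq, e1⟩ := hσ a b hab
    obtain ⟨q', hq', e2⟩ := hσ b a hab.symm
    rw [hs b a] at e2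
    rcases h2 _ _ _ _ hq (e1.symm.trans e2) with h5 | h5
    · -- `σ a = σ b`: all stars the same
      exfalso
      obtain ⟨c, hca, hcb⟩ : ∃ c, c ≠ a ∧ c ≠ b := by
        by_contra hcon
        push Not at hcon
        have h5 : (Set.univ : Set Λ) ⊆ {a, b} := by
          intro x _
          by_cases hx : x = a
          · exact Or.inl hx
          · exact Or.inr (hcon x hx)
        have h6 := Set.ncard_le_ncard h5 (Set.toFinite _)
        rw [Set.ncard_univ] at h6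
        have h7 := Set.ncard_insert_le a {b}
        rw [Set.ncard_singleton] at h7
        omega
      obtain ⟨r, hr, e3⟩ := hσ a c hca.symm
      obtain ⟨r', hr', e4⟩ := hσ b c hcb.symm
      -- `ab = ac · cb`
      have e5 : dd (σ a) q = dd r r' := by
        rw [← e1, ← h1 a c b, map_mul, hs c b, e3, e4, ← h5.1, hs (σ a) r, h1]
      rcases h2 _ _ _ _ hq e5 with h6 | h6
      · exact hr h6.1
      · exact hr' (h5.1 ▸ h6.1)
    · refine ⟨fun e => hq (e.trans h5.2.symm), ?_⟩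
      rw [e1, h5.2]
  have inj : Function.Injective σ := by
    intro a b hab
    by_contra hne
    exact (key a b hne).1 hab
  refine ⟨Equiv.ofBijective σ (Finite.injective_iff_bijective.1 inj), fun a b => ?_⟩
  by_cases hab : a = b
  · subst hab
    rw [h0, map_one, h0]
  · exact (key a b hab).2

end Cfsg.Agent.Omega.NO3S.SN2.VPlus

end

section


/-!
# SN.Two / LightL, `V⁺ = even(2n) / 1` (helper933 #22887 (6), helper895 #23142 (f8)): the letters

`E i j` (`i ≠ j`): the group of order 8 `{1, x_ij} ∪ {heavy vectors of W_ij outside V_ij}`, `E_ij ∩ V = ⟨z_i, z_j⟩`.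

* `Dt` : the hypotheses on the family;
* `Lt V Q N ε E Φ` : `Φ : F₂^(n × 2) → G` additive, `Φ {(i,0),(i,1)} = z_i`, the duads meeting two blocks `i ≠ j` are the
  elements of `E_ij - V`, the kernel on the even sets is `{0, 1}`, `q ∈ Q` acts as `∏ τ_i ^ f_i`;
* **`Dt.exists_lt`**.
-/

set_option autoImplicit false
set_option linter.unusedSectionVars false

namespace Cfsg.Agent.Omega.NO3S.SN2.VPlus

open Subgroup Cfsg.Agent.Omega.S5.Def Cfsg.Agent.Omega.NSix.Base Cfsg.Agent.Omega.NSix.Basic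

universe u

variable {G : Type u} [Group G] {n : ℕ}

theorem z01 (a : ZMod 2) : a = 0 ∨ a = 1 := by
  revert a
  decide

/-- induction for `F₂^Λ` -/
theorem ind {Λ : Type*} [Fintype Λ] [DecidableEq Λ] {P : (Λ → ZMod 2) → Prop} (h0 : P 0)
    (hadd : ∀ x y, P x → P y → P (x + y)) (hs : ∀ a, P (Pi.single a 1)) (x : Λ → ZMod 2) : P x := by
  have h1 : x = ∑ a, Pi.single a (x a) := (Finset.univ_sum_single x).symm
  rw [h1]
  refine Finset.sum_induction _ P (fun x y => hadd x y) h0 fun a _ => ?_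
  rcases z01 (x a) with h2 | h2
  · rw [h2, Pi.single_zero]
    exact h0
  · rw [h2]
    exact hs a

/-- the pair `{a, b}` -/
def pr {Λ : Type*} [DecidableEq Λ] (a b : Λ) : Λ → ZMod 2 := Pi.single a 1 + Pi.single b 1

theorem pr_comm {Λ : Type*} [DecidableEq Λ] (a b : Λ) : pr a b = pr b a := add_comm _ _

theorem pr_apply {Λ : Type*} [DecidableEq Λ] (a b c : Λ) :
    pr a b c = (if c = a then 1 else 0) + (if c = b then 1 else 0) := by
  unfold pr
  rw [Pi.add_apply, Pi.single_apply, Pi.single_apply]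

/-- **The family `E_ij`.** -/
structure Dt (V Q N : Subgroup G) (ε : (Fin n → ZMod 2) → G) (E : Fin n → Fin n → Subgroup G) : Prop where
  odd : Odd n
  five : 5 ≤ n
  ev : EvenSet n V N ε
  Qc : ∀ q ∈ Q, ∀ v ∈ V, q * v = v * q
  sym : ∀ i j, i ≠ j → E i j = E j i
  EV : ∀ i j, i ≠ j → ∀ x ∈ E i j, x ∈ V → InZ ε {i, j} x
  ZE : ∀ i j, i ≠ j → ∀ x, InZ ε {i, j} x → x ∈ E i j
  ne : ∀ i j, i ≠ j → ∃ u ∈ E i j, u ∉ V
  idx : ∀ i j, i ≠ j → ∀ v ∈ E i j, ∀ w ∈ E i j, v ∉ V → w ∉ V → v * w ∈ V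
  comm : ∀ i j, i ≠ j → ∀ k l, k ≠ l → ∀ v ∈ E i j, ∀ w ∈ E k l, v * w = w * v
  sq : ∀ i j, i ≠ j → ∀ v ∈ E i j, v * v = 1
  cj : ∀ i j, i ≠ j → ∀ g ∈ N, ∀ σ, Acts ε g σ → ∀ w ∈ E i j, g * w * g⁻¹ ∈ E (σ i) (σ j)
  dep : ∀ i j k, i ≠ j → i ≠ k → j ≠ k → ∀ u ∈ E i j, ∀ v ∈ E i k, ∀ w ∈ E j k, u ∉ V → v ∉ V → w ∉ V →
    InZ ε {i, j, k} (u * v * w)
  Zc : ∀ i j, i ≠ j → ∀ q ∈ Q, ∀ u ∈ E i j, InZ ε {i, j} (q * u * q⁻¹ * u⁻¹)
  full : ∀ i j, i ≠ j → ∀ u ∈ E i j, u ∉ V → ∀ x, InZ ε {i, j} x → ∃ q ∈ Q, q * u * q⁻¹ * u⁻¹ = x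

/-- the group generated by the `E_ij` -/
def VE (E : Fin n → Fin n → Subgroup G) : Subgroup G :=
  closure {w | ∃ i j, i ≠ j ∧ w ∈ E i j}

/-- **The letters.** -/
structure Lt (V Q : Subgroup G) (ε : (Fin n → ZMod 2) → G) (E : Fin n → Fin n → Subgroup G)
    (Φ : (Fin n × Bool → ZMod 2) → G) : Prop where
  add : ∀ x y, Φ (x + y) = Φ x * Φ y
  mem : ∀ x, Φ x ∈ VE E
  surj : ∀ v ∈ VE E, ∃ x, ∑ a, x a = 0 ∧ Φ x = v
  blk : ∀ x : Fin n → ZMod 2, Φ (fun a => x a.1) = ε x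
  pr_mem : ∀ i j, i ≠ j → ∀ a b, Φ (pr (i, a) (j, b)) ∈ E i j ∧ Φ (pr (i, a) (j, b)) ∉ V
  pr_surj : ∀ i j, i ≠ j → ∀ u ∈ E i j, u ∉ V → ∃ a b, u = Φ (pr (i, a) (j, b))
  act : ∀ q ∈ Q, ∃ f : Fin n → ZMod 2, ∀ x, ∑ a, x a = 0 →
    q * Φ x * q⁻¹ = Φ x * ε (fun i => f i * (x (i, false) + x (i, true)))
  ker : ∀ x, ∑ a, x a = 0 → Φ x = 1 → x = 0 ∨ x = 1

namespace Dt

variable {V Q N : Subgroup G} {ε : (Fin n → ZMod 2) → G} {E : Fin n → Fin n → Subgroup G} (h : Dt V Q N ε E)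
include h

theorem zzE {i j : Fin n} (hij : i ≠ j) : zz ε i ∈ E i j ∧ zz ε j ∈ E i j :=
  ⟨h.ZE i j hij _ (InZ.zz (by simp)), h.ZE i j hij _ (InZ.zz (by simp))⟩

omit h in
theorem mem_VE {i j : Fin n} (hij : i ≠ j) {w : G} (hw : w ∈ E i j) : w ∈ VE E :=
  subset_closure ⟨i, j, hij, hw⟩

theorem VEc : ∀ x ∈ VE E, ∀ y ∈ VE E, x * y = y * x := by
  have h1 : ∀ x ∈ {w | ∃ i j, i ≠ j ∧ w ∈ E i j}, ∀ y ∈ {w | ∃ i j, i ≠ j ∧ w ∈ E i j},
      x * y = y * x := by
    rintro x ⟨i, j, hij, hx⟩ y ⟨k, l, hkl, hy⟩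
    exact h.comm i j hij k l hkl x hx y hy
  intro x hx y hy
  have h2 := (Subgroup.isMulCommutative_closure h1).1.1 (⟨x, hx⟩ : Subgroup.closure _) ⟨y, hy⟩
  exact congrArg Subtype.val h2

theorem V_le : V ≤ VE E := by
  intro v hv
  obtain ⟨x, rfl⟩ := h.ev.surj v hv
  refine ind (P := fun x => ε x ∈ VE E) ?_ ?_ ?_ x
  · change ε 0 ∈ VE E
    rw [h.ev.zero]
    exact one_mem _
  · intro x y hx hy
    change ε (x + y) ∈ VE E
    rw [h.ev.add]
    exact mul_mem hx hy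
  · intro i
    obtain ⟨j, hj, -⟩ := exists_ne h.five i i i i
    exact mem_VE hj.symm (h.zzE hj.symm).1

theorem n3 : 3 ≤ n := le_trans (by norm_num) h.five

theorem inv {i j : Fin n} (hij : i ≠ j) {u : G} (hu : u ∈ E i j) : u⁻¹ = u :=
  inv_eq_of_mul_eq_one_left (h.sq i j hij u hu)

/-- commutators with `q` are multiplicative on `V⁺` -/
theorem cmul {q x y : G} (hx : x ∈ VE E) (hy : y ∈ VE E) (hqy : q * y * q⁻¹ * y⁻¹ ∈ V) :
    q * (x * y) * q⁻¹ * (x * y)⁻¹ = (q * x * q⁻¹ * x⁻¹) * (q * y * q⁻¹ * y⁻¹) := by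
  have h2 := h.VEc _ (h.V_le hqy) _ ((VE E).inv_mem hx)
  calc q * (x * y) * q⁻¹ * (x * y)⁻¹ = q * x * q⁻¹ * ((q * y * q⁻¹ * y⁻¹) * x⁻¹) := by group
    _ = q * x * q⁻¹ * (x⁻¹ * (q * y * q⁻¹ * y⁻¹)) := by rw [h2]
    _ = _ := by group

theorem cV {q v : G} (hq : q ∈ Q) (hv : v ∈ V) : q * v * q⁻¹ * v⁻¹ = 1 := by
  rw [h.Qc q hq v hv]
  group

/-- the product of elements of `E_ij - V` and `E_ik - V` is not in `V` -/
theorem mul_notMem {i j k : Fin n} (hij : i ≠ j) (hik : i ≠ k) (hjk : j ≠ k) {u v : G} (hu : u ∈ E i j)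
    (hv : v ∈ E i k) (huV : u ∉ V) : u * v ∉ V := by
  intro hc
  obtain ⟨q, hq, hqu⟩ := h.full i j hij u hu huV (zz ε j) (InZ.zz (by simp))
  have h1 := h.Zc i k hik q hq v hv
  have h2 := h.cmul (q := q) (mem_VE hij hu) (mem_VE hik hv) (h1.mem h.ev)
  rw [h.cV hq hc, hqu] at h2
  have h3 : q * v * q⁻¹ * v⁻¹ = zz ε j := by
    rw [← zz_inv h.ev j]
    exact (eq_inv_of_mul_eq_one_right h2.symm)
  have h4 : InZ ε {j} (q * v * q⁻¹ * v⁻¹) := by
    rw [h3]
    exact InZ.zz (by simp)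
  obtain ⟨m, hm1, hm2, hm3, -⟩ := exists_ne h.five i j k k
  have h5 := InZ.inter h.ev (m := m) (by simp [hm1, hm3]) (by simp [hm2]) h1 h4
  have h6 : ({i, k} ∩ {j} : Set (Fin n)) = ∅ := by
    ext x
    simp only [Set.mem_inter_iff, Set.mem_insert_iff, Set.mem_singleton_iff, Set.mem_empty_iff_false, iff_false,
      not_and]
    rintro (rfl | rfl)
    · exact hij
    · exact hjk.symm
  rw [h6] at h5
  have h7 := h5.empty h.ev
  rw [h3] at h7
  exact zz_ne_one h.ev h.n3 j h7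

/-- coherent representatives -/
theorem exists_lett (o : Fin n) : ∃ e : Fin n → G, e o = 1 ∧ (∀ j, o ≠ j → e j ∈ E o j ∧ e j ∉ V) ∧
    (∀ j k, o ≠ j → o ≠ k → j ≠ k → e j * e k ∈ E j k ∧ e j * e k ∉ V) := by
  classical
  obtain ⟨p, hp, -⟩ := exists_ne h.five o o o o
  obtain ⟨ep, hep, hepV⟩ := h.ne o p hp.symm
  have h1 : ∀ j, o ≠ j → p ≠ j → ∃ w ∈ E o j, w ∉ V ∧ ep * w ∈ E p j := by
    intro j hoj hpj
    obtain ⟨w, hw, hwV⟩ := h.ne o j hoj
    obtain ⟨s, hs, hsV⟩ := h.ne p j hpj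
    have h2 := h.dep o p j hp.symm hoj hpj ep hep w hw s hs hepV hwV hsV
    rcases h2.split h.ev with h3 | h3
    · refine ⟨w, hw, hwV, ?_⟩
      have h4 := (E p j).mul_mem (h.ZE p j hpj _ h3) ((E p j).inv_mem hs)
      have e : ep * w * s * s⁻¹ = ep * w := by group
      rwa [e] at h4
    · have hz : zz ε o ∈ E o j := (h.zzE hoj).1
      refine ⟨w * zz ε o, mul_mem hw hz, fun hc => hwV ?_, ?_⟩
      · have := V.mul_mem hc (zz_mem h.ev o)
        rwa [mul_assoc, zz_sq h.ev, mul_one] at this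
      · have h4 := (E p j).mul_mem (h.ZE p j hpj _ h3) ((E p j).inv_mem hs)
        have h5 : zz ε o * (ep * w) = (ep * w) * zz ε o :=
          h.VEc _ (mem_VE hoj hz) _ (mul_mem (mem_VE hp.symm hep) (mem_VE hoj hw))
        have e : zz ε o * (ep * w * s) * s⁻¹ = ep * (w * zz ε o) := by
          calc zz ε o * (ep * w * s) * s⁻¹ = zz ε o * (ep * w) := by group
            _ = _ := by rw [h5, mul_assoc]
        rwa [e] at h4
  choose! w hw hwV hwp using h1
  refine ⟨fun j => if j = o then 1 else if j = p then ep else w j, by simp, ?_, ?_⟩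
  · intro j hoj
    simp only [if_neg hoj.symm]
    by_cases hjp : j = p
    · subst hjp
      simp only [if_true]
      exact ⟨hep, hepV⟩
    · simp only [if_neg hjp]
      exact ⟨hw j hoj (Ne.symm hjp), hwV j hoj (Ne.symm hjp)⟩
  · have key : ∀ j k, o ≠ j → o ≠ k → p ≠ j → p ≠ k → j ≠ k → w j * w k ∈ E j k := by
      intro j k hoj hok hpj hpk hjk
      obtain ⟨s, hs, hsV⟩ := h.ne j k hjk
      have a1 := h.dep o j k hoj hok hjk _ (hw j hoj hpj) _ (hw k hok hpk) s hs (hwV j hoj hpj) (hwV k hok hpk) hsV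
      have nV : ∀ j, o ≠ j → p ≠ j → ep * w j ∉ V := fun j hoj hpj =>
        h.mul_notMem hp.symm hoj hpj hep (hw j hoj hpj) hepV
      have a2 := h.dep p j k hpj hpk hjk _ (hwp j hoj hpj) _ (hwp k hok hpk) s hs (nV j hoj hpj) (nV k hok hpk) hsV
      have e : ep * w j * (ep * w k) * s = w j * w k * s := by
        have b1 : w j * ep = ep * w j := h.VEc _ (mem_VE hoj (hw j hoj hpj)) _ (mem_VE hp.symm hep)
        calc ep * w j * (ep * w k) * s = ep * (w j * ep) * w k * s := by group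
          _ = (ep * ep) * (w j * w k * s) := by rw [b1]; group
          _ = _ := by rw [h.sq o p hp.symm ep hep, one_mul]
      rw [e] at a2
      obtain ⟨m, hm1, hm2, hm3, hm4⟩ := exists_ne h.five o p j k
      have a3 := InZ.inter h.ev (m := m) (by simp [hm1, hm3, hm4]) (by simp [hm2, hm3, hm4]) a1 a2
      have a4 : InZ ε {j, k} (w j * w k * s) := a3.mono (by
        intro x hx
        simp only [Set.mem_inter_iff, Set.mem_insert_iff, Set.mem_singleton_iff] at hx ⊢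
        rcases hx with ⟨hx1 | hx1, hx2 | hx2⟩
        · exact absurd (hx1.symm.trans hx2) hp.symm
        · exact hx2
        · exact hx1
        · exact hx1)
      have a5 := (E j k).mul_mem (h.ZE j k hjk _ a4) ((E j k).inv_mem hs)
      have e2 : w j * w k * s * s⁻¹ = w j * w k := by group
      rwa [e2] at a5
    intro j k hoj hok hjk
    simp only [if_neg hoj.symm, if_neg hok.symm]
    by_cases hjp : j = p
    · subst hjp
      simp only [if_true, if_neg hjk.symm]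
      exact ⟨hwp k hok hjk, h.mul_notMem hoj hok hjk hep (hw k hok hjk) hepV⟩
    · by_cases hkp : k = p
      · subst hkp
        simp only [if_true, if_neg hjk]
        have b1 : w j * ep = ep * w j := h.VEc _ (mem_VE hoj (hw j hoj hjk.symm)) _ (mem_VE hok hep)
        rw [b1, h.sym j k hjk]
        exact ⟨hwp j hoj hjk.symm, h.mul_notMem hok hoj hjk.symm hep (hw j hoj hjk.symm) hepV⟩
      · simp only [if_neg hjp, if_neg hkp]
        exact ⟨key j k hoj hok (Ne.symm hjp) (Ne.symm hkp) hjk,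
          h.mul_notMem hoj hok hjk (hw j hoj (Ne.symm hjp)) (hw k hok (Ne.symm hkp)) (hwV j hoj (Ne.symm hjp))⟩

end Dt

end Cfsg.Agent.Omega.NO3S.SN2.VPlus

end

section


/-!
# SN.Two / LightL, `V⁺ = even(2n) / 1`: existence of the letters

**`Dt.exists_lt : Dt V Q N ε E → ∃ Φ, Lt V Q ε E Φ`.**
-/

set_option autoImplicit false
set_option linter.unusedSectionVars false

namespace Cfsg.Agent.Omega.NO3S.SN2.VPlus

open Subgroup Cfsg.Agent.Omega.S5.Def Cfsg.Agent.Omega.NSix.Base Cfsg.Agent.Omega.NSix.Basic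

universe u

variable {G : Type u} [Group G] {n : ℕ}

theorem two_add (a : ZMod 2) : a + a = 0 := CharTwo.add_self_eq_zero a

theorem sum_fst (x : Fin n → ZMod 2) : ∑ a : Fin n × Bool, x a.1 = 0 := by
  rw [Fintype.sum_prod_type]
  refine Finset.sum_eq_zero fun i _ => ?_
  rw [Fintype.sum_bool]
  exact two_add _

theorem sum_pr {Λ : Type*} [Fintype Λ] [DecidableEq Λ] (a b : Λ) : ∑ c, pr a b c = 0 := by
  simp only [pr, Pi.add_apply]
  rw [Finset.sum_add_distrib]
  simp only [Finset.sum_pi_single', Finset.mem_univ, if_true]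
  exact two_add 1

namespace Dt

variable {V Q N : Subgroup G} {ε : (Fin n → ZMod 2) → G} {E : Fin n → Fin n → Subgroup G} (h : Dt V Q N ε E)
include h

theorem exists_lt : ∃ Φ : (Fin n × Bool → ZMod 2) → G, Lt V Q ε E Φ := by
  classical
  obtain ⟨m0, hm0⟩ : ∃ m0 : Fin n, True := ⟨⟨0, by have := h.five; omega⟩, trivial⟩
  obtain ⟨e, he0, he1, he2⟩ := h.exists_lett m0
  obtain ⟨p, hp, -⟩ := exists_ne h.five m0 m0 m0 m0
  -- the products
  have eij : ∀ i j, i ≠ j → e i * e j ∈ E i j ∧ e i * e j ∉ V := by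
    intro i j hij
    by_cases hi : m0 = i
    · subst hi
      rw [he0, one_mul]
      exact he1 j hij
    · by_cases hj : m0 = j
      · subst hj
        rw [he0, mul_one, h.sym i _ hij]
        exact he1 i hij.symm
      · exact he2 i j hi hj hij
  have eVE : ∀ i, e i ∈ VE E := by
    intro i
    by_cases hi : m0 = i
    · subst hi
      rw [he0]
      exact one_mem _
    · exact mem_VE hi (he1 i hi).1
  have esq : ∀ i, e i * e i = 1 := by
    intro i
    by_cases hi : m0 = i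
    · subst hi
      rw [he0, one_mul]
    · exact h.sq _ _ hi _ (he1 i hi).1
  let ζ : Fin n × Bool → G := fun a => if a.2 then zz ε a.1 else 1
  have ζV : ∀ a, ζ a ∈ V := by
    intro a
    change (if a.2 then zz ε a.1 else 1) ∈ V
    split_ifs
    · exact zz_mem h.ev _
    · exact one_mem _
  have ζVE : ∀ a, ζ a ∈ VE E := fun a => h.V_le (ζV a)
  have ζsq : ∀ a, ζ a * ζ a = 1 := fun a => h.ev.sq_mem (ζV a)
  let ℓ : Fin n × Bool → G := fun a => e a.1 * ζ a
  have ℓVE : ∀ a, ℓ a ∈ VE E := fun a => mul_mem (eVE _) (ζVE _)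
  have ℓc : ∀ a b, ℓ a * ℓ b = ℓ b * ℓ a := fun a b => h.VEc _ (ℓVE a) _ (ℓVE b)
  have ℓs : ∀ a, ℓ a * ℓ a = 1 := by
    intro a
    have h1 := h.VEc _ (ζVE a) _ (eVE a.1)
    calc e a.1 * ζ a * (e a.1 * ζ a) = e a.1 * (ζ a * e a.1) * ζ a := by group
      _ = (e a.1 * e a.1) * (ζ a * ζ a) := by rw [h1]; group
      _ = 1 := by rw [esq, ζsq, one_mul]
  have ℓ2 : ∀ a b, ℓ a * ℓ b = (e a.1 * e b.1) * (ζ a * ζ b) := by
    intro a b
    have h1 := h.VEc _ (ζVE a) _ (eVE b.1)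
    calc e a.1 * ζ a * (e b.1 * ζ b) = e a.1 * (ζ a * e b.1) * ζ b := by group
      _ = _ := by rw [h1]; group
  obtain ⟨Φ, hadd, hsing⟩ := exists_hom ℓ ℓc ℓs
  have hΦ0 : Φ 0 = 1 := by
    have := hadd 0 0
    rw [add_zero] at this
    exact (left_eq_mul.1 this)
  have hpr : ∀ a b, Φ (pr a b) = ℓ a * ℓ b := fun a b => by rw [pr, hadd, hsing, hsing]
  have hmem : ∀ x, Φ x ∈ VE E := by
    refine ind ?_ ?_ ?_
    · rw [hΦ0]
      exact one_mem _
    · intro x y hx hy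
      rw [hadd]
      exact mul_mem hx hy
    · intro a
      rw [hsing]
      exact ℓVE a
  -- blocks
  have hblk : ∀ x : Fin n → ZMod 2, Φ (fun a => x a.1) = ε x := by
    refine ind ?_ ?_ ?_
    · have e1 : (fun a : Fin n × Bool => (0 : Fin n → ZMod 2) a.1) = 0 := rfl
      rw [e1, hΦ0, h.ev.zero]
    · intro x y hx hy
      have e1 : (fun a : Fin n × Bool => (x + y) a.1) = (fun a => x a.1) + fun a => y a.1 := rfl
      rw [e1, hadd, hx, hy, h.ev.add]
    · intro i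
      have e1 : (fun a : Fin n × Bool => (Pi.single i 1 : Fin n → ZMod 2) a.1) = pr (i, false) (i, true) := by
        funext a
        rw [pr_apply]
        obtain ⟨k, b⟩ := a
        by_cases hk : k = i
        · subst hk
          cases b <;> simp
        · simp [hk]
      rw [e1, hpr, ℓ2]
      change e i * e i * (1 * zz ε i) = _
      rw [esq, one_mul, one_mul]
      rfl
  have hζ : ∀ i j a b, InZ ε {i, j} (ζ (i, a) * ζ (j, b)) := by
    intro i j a b
    refine InZ.mul h.ev ?_ ?_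
    · cases a
      · exact InZ.one h.ev _
      · exact InZ.zz (by simp)
    · cases b
      · exact InZ.one h.ev _
      · exact InZ.zz (by simp)
  have hprm : ∀ i j, i ≠ j → ∀ a b, Φ (pr (i, a) (j, b)) ∈ E i j ∧ Φ (pr (i, a) (j, b)) ∉ V := by
    intro i j hij a b
    rw [hpr, ℓ2]
    obtain ⟨h1, h2⟩ := eij i j hij
    refine ⟨mul_mem h1 (h.ZE i j hij _ (hζ i j a b)), fun hc => h2 ?_⟩
    have h3 := V.mul_mem hc (V.inv_mem ((hζ i j a b).mem h.ev))
    have e1 : (e i * e j) * (ζ (i, a) * ζ (j, b)) * (ζ (i, a) * ζ (j, b))⁻¹ = e i * e j := by group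
    rwa [e1] at h3
  have hprs : ∀ i j, i ≠ j → ∀ u ∈ E i j, u ∉ V → ∃ a b, u = Φ (pr (i, a) (j, b)) := by
    intro i j hij u hu huV
    obtain ⟨h1, h2⟩ := eij i j hij
    have h3 := h.idx i j hij _ h1 _ hu h2 huV
    obtain ⟨α, β, h4⟩ := (h.EV i j hij _ (mul_mem h1 hu) h3).pair h.ev
    have h5 : u = (e i * e j) * VPlus.tt ε i j α β := by
      rw [← h4]
      have := h.sq i j hij _ h1
      calc u = (e i * e j * (e i * e j)) * u := by rw [this, one_mul]
        _ = _ := by group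
    refine ⟨α == 1, β == 1, ?_⟩
    rw [hpr, ℓ2, h5]
    congr 1
    rcases z01 α with rfl | rfl <;> rcases z01 β with rfl | rfl
    · rw [tt_zero h.ev]
      exact (one_mul 1).symm
    · rw [tt_zero_one]
      exact (one_mul _).symm
    · rw [tt_one_zero]
      exact (mul_one _).symm
    · rw [tt_one_one h.ev]
      rfl
  have hsurj : ∀ v ∈ VE E, ∃ x, ∑ a, x a = 0 ∧ Φ x = v := by
    intro v hv
    refine Subgroup.closure_induction (p := fun v _ => ∃ x, ∑ a, x a = 0 ∧ Φ x = v) ?_ ?_ ?_ ?_ hv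
    · rintro v ⟨i, j, hij, hv⟩
      by_cases hvV : v ∈ V
      · obtain ⟨x, rfl⟩ := h.ev.surj v hvV
        exact ⟨_, sum_fst x, hblk x⟩
      · obtain ⟨a, b, rfl⟩ := hprs i j hij v hv hvV
        exact ⟨_, sum_pr _ _, rfl⟩
    · exact ⟨0, by simp, hΦ0⟩
    · rintro _ _ _ _ ⟨x, hx, rfl⟩ ⟨y, hy, rfl⟩
      refine ⟨x + y, ?_, hadd x y⟩
      simp only [Pi.add_apply]
      rw [Finset.sum_add_distrib, hx, hy, add_zero]
    · rintro _ _ ⟨x, hx, rfl⟩
      refine ⟨x, hx, ?_⟩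
      have h1 : Φ x * Φ x = 1 := by
        rw [← hadd]
        have : x + x = 0 := funext fun a => two_add _
        rw [this, hΦ0]
      exact (inv_eq_of_mul_eq_one_left h1).symm
  -- the action of `q`
  have hact : ∀ q ∈ Q, ∃ f : Fin n → ZMod 2, ∀ x, ∑ a, x a = 0 →
      q * Φ x * q⁻¹ = Φ x * ε (fun i => f i * (x (i, false) + x (i, true))) := by
    intro q hq
    have h1 : ∀ i, m0 ≠ i → ∃ a b, q * e i * q⁻¹ * (e i)⁻¹ = VPlus.tt ε m0 i a b := fun i hi =>
      (h.Zc m0 i hi q hq _ (he1 i hi).1).pair h.ev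
    choose! a b hab using h1
    have hac : ∀ i, m0 ≠ i → a i = a p := by
      intro i hi
      by_cases hip : i = p
      · rw [hip]
      have h2 : q * (e i * e p) * q⁻¹ * (e i * e p)⁻¹ = VPlus.tt ε m0 i (a i) (b i) * VPlus.tt ε m0 p (a p) (b p) := by
        rw [h.cmul (eVE i) (eVE p) (by rw [hab p hp.symm]; exact tt_mem h.ev _ _ _ _), hab i hi, hab p hp.symm]
      obtain ⟨x, hx, hx2⟩ := h.Zc i p hip q hq _ (eij i p hip).1
      rw [h2] at hx2
      obtain ⟨m, hm1, hm2, hm3, -⟩ := exists_ne h.five m0 i p p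
      unfold VPlus.tt at hx2
      rw [← h.ev.add] at hx2
      rcases h.ev.eq_iff.1 hx2 with h3 | h3
      · have h4 := congrFun h3 m0
        rw [hx m0 (by simp [hi, hp.symm])] at h4
        simp [hi, hp.symm] at h4
        rw [← sub_eq_zero, CharTwo.sub_eq_add]
        exact h4.symm
      · have h4 := congrFun h3 m
        rw [hx m (by simp [hm2, hm3])] at h4
        simp [hm1, hm2, hm3] at h4
    let f : Fin n → ZMod 2 := fun i => if i = m0 then a p else b i
    have hf0 : f m0 = a p := if_pos rfl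
    have hf1 : ∀ i, m0 ≠ i → f i = b i := fun i hi => if_neg hi.symm
    let D : (Fin n × Bool → ZMod 2) → (Fin n → ZMod 2) := fun x m =>
      (∑ c, x c) * (f m0 * (Pi.single m0 1 : Fin n → ZMod 2) m) + f m * (x (m, false) + x (m, true))
    have hD : ∀ x, q * Φ x * q⁻¹ = Φ x * ε (D x) := by
      refine ind ?_ ?_ ?_
      · have e1 : D 0 = 0 := by
          funext m
          simp [D]
        rw [e1, hΦ0, h.ev.zero]
        group
      · intro x y hx hy
        have e1 : D (x + y) = D x + D y := by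
          funext m
          simp only [D, Pi.add_apply]
          rw [Finset.sum_add_distrib]
          ring
        have e2 : ε (D x) * Φ y = Φ y * ε (D x) := h.VEc _ (h.V_le (h.ev.mem _)) _ (hmem y)
        rw [e1, hadd, h.ev.add]
        calc q * (Φ x * Φ y) * q⁻¹ = (q * Φ x * q⁻¹) * (q * Φ y * q⁻¹) := by group
          _ = Φ x * (ε (D x) * Φ y) * ε (D y) := by rw [hx, hy]; group
          _ = _ := by rw [e2]; group
      · rintro ⟨i, c⟩
        have e1 : D (Pi.single (i, c) 1) = fun m => f m0 * (Pi.single m0 1 : Fin n → ZMod 2) m +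
            f m * (Pi.single i 1 : Fin n → ZMod 2) m := by
          funext m
          simp only [D]
          rw [Finset.sum_pi_single', if_pos (Finset.mem_univ _), one_mul]
          congr 2
          by_cases hmi : m = i
          · subst hmi
            cases c <;> simp
          · simp [hmi]
        rw [e1, hsing]
        change q * (e i * ζ (i, c)) * q⁻¹ = e i * ζ (i, c) * _
        by_cases hi : m0 = i
        · subst hi
          have e2 : (fun m => f m0 * (Pi.single m0 1 : Fin n → ZMod 2) m +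
              f m * (Pi.single m0 1 : Fin n → ZMod 2) m) = 0 := by
            funext m
            by_cases hm : m = m0
            · subst hm
              simp [two_add]
            · simp [hm]
          rw [e2, h.ev.zero, mul_one, he0, one_mul, h.Qc q hq _ (ζV _)]
          group
        · have e2 : ε (fun m => f m0 * (Pi.single m0 1 : Fin n → ZMod 2) m +
              f m * (Pi.single i 1 : Fin n → ZMod 2) m) = VPlus.tt ε m0 i (a i) (b i) := by
            unfold VPlus.tt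
            congr 1
            funext m
            rw [hf0, hac i hi]
            simp only [Pi.add_apply, Pi.smul_apply, smul_eq_mul]
            congr 1
            by_cases hm : m = i
            · subst hm
              rw [hf1 m hi]
            · simp [hm]
          rw [e2]
          have e3 : q * e i * q⁻¹ = VPlus.tt ε m0 i (a i) (b i) * e i := by
            rw [← hab i hi]
            group
          have e4 : q * ζ (i, c) * q⁻¹ = ζ (i, c) := by
            rw [h.Qc q hq _ (ζV _)]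
            group
          have e5 : VPlus.tt ε m0 i (a i) (b i) * (e i * ζ (i, c)) =
              (e i * ζ (i, c)) * VPlus.tt ε m0 i (a i) (b i) :=
            h.VEc _ (h.V_le (tt_mem h.ev _ _ _ _)) _ (mul_mem (eVE i) (ζVE _))
          calc q * (e i * ζ (i, c)) * q⁻¹ = (q * e i * q⁻¹) * (q * ζ (i, c) * q⁻¹) := by group
            _ = VPlus.tt ε m0 i (a i) (b i) * (e i * ζ (i, c)) := by rw [e3, e4]; group
            _ = _ := e5
    refine ⟨f, fun x hx => ?_⟩
    rw [hD x]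
    congr 2
    funext m
    simp only [D]
    rw [hx, zero_mul, zero_add]
  refine ⟨Φ, hadd, hmem, hsurj, hblk, hprm, hprs, hact, ?_⟩
  -- the kernel
  intro x hx hΦx
  have hy : ∀ i, x (i, false) + x (i, true) = 0 := by
    by_contra hcon
    push Not at hcon
    obtain ⟨i, hi⟩ := hcon
    have hi1 : x (i, false) + x (i, true) = 1 := (z01 _).resolve_left hi
    -- a letter with `y_j = 0`
    obtain ⟨j, hj⟩ : ∃ j, x (j, false) + x (j, true) = 0 := by
      by_contra hcon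
      push Not at hcon
      have h1 : ∑ a, x a = ∑ i : Fin n, (x (i, false) + x (i, true)) := by
        rw [Fintype.sum_prod_type]
        refine Finset.sum_congr rfl fun i _ => ?_
        simp [add_comm]
      have h2 : ∑ i : Fin n, (x (i, false) + x (i, true)) = ∑ _i : Fin n, (1 : ZMod 2) :=
        Finset.sum_congr rfl fun i _ => (z01 _).resolve_left (hcon i)
      rw [h1, h2, Finset.sum_const, Finset.card_univ, Fintype.card_fin, nsmul_eq_mul, mul_one] at hx
      obtain ⟨k, hk⟩ := h.odd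
      rw [hk] at hx
      push_cast at hx
      have e2 : (2 : ZMod 2) = 0 := by decide
      rw [e2, zero_mul, zero_add] at hx
      exact one_ne_zero hx
    have hij : i ≠ j := by
      rintro rfl
      exact hi hj
    -- `q` with `f_i = 1`
    obtain ⟨hu, huV⟩ := hprm i j hij false false
    obtain ⟨q, hq, hqu⟩ := h.full i j hij _ hu huV (zz ε i) (InZ.zz (by simp))
    obtain ⟨f, hf⟩ := hact q hq
    have h3 := hf (pr (i, false) (j, false)) (sum_pr _ _)
    have h4 : ε (fun m => f m * (pr (i, false) (j, false) (m, false) + pr (i, false) (j, false) (m, true))) =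
        zz ε i := by
      have h5 : Φ (pr (i, false) (j, false)) * ε (fun m => f m * (pr (i, false) (j, false) (m, false) +
          pr (i, false) (j, false) (m, true))) = zz ε i * Φ (pr (i, false) (j, false)) := by
        rw [← h3, ← hqu]
        group
      have h6 := h.VEc _ (h.V_le (zz_mem h.ev i)) _ (hmem (pr (i, false) (j, false)))
      rw [h6] at h5
      exact mul_left_cancel h5
    have hfi : f i = 1 := by
      unfold zz at h4
      obtain ⟨m, hm1, hm2, -⟩ := exists_ne h.five i j j j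
      rcases h.ev.eq_iff.1 h4 with h5 | h5
      · have h6 := congrFun h5 i
        rw [pr_apply, pr_apply] at h6
        simpa [hij] using h6
      · have h6 := congrFun h5 m
        rw [pr_apply, pr_apply] at h6
        simp [hm1, hm2] at h6
    have h7 := hf x hx
    rw [hΦx, mul_one, mul_inv_cancel, one_mul] at h7
    rcases (h.ev.ker _).1 h7.symm with h8 | h8
    · have h9 := congrFun h8 i
      rw [hfi, hi1] at h9
      simp at h9
    · have h9 := congrFun h8 j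
      rw [hj] at h9
      simp at h9
  have hx2 : x = fun a => x (a.1, false) := by
    funext a
    obtain ⟨i, b⟩ := a
    cases b
    · rfl
    · have := hy i
      change x (i, true) = x (i, false)
      exact (eq_of_sub_eq_zero (by rw [CharTwo.sub_eq_add, add_comm]; exact this))
  have h1 : ε (fun i => x (i, false)) = 1 := by
    rw [← hblk]
    have e1 : (fun a : Fin n × Bool => (fun i => x (i, false)) a.1) = x := hx2.symm
    rw [e1, hΦx]
  rcases (h.ev.ker _).1 h1 with h2 | h2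
  · left
    rw [hx2]
    funext a
    exact congrFun h2 a.1
  · right
    rw [hx2]
    funext a
    exact congrFun h2 a.1

end Dt

end Cfsg.Agent.Omega.NO3S.SN2.VPlus

end

section


/-!
# SN.Two / LightL, `V⁺ = even(2n) / 1` (helper895 #23142 (f8)): `N_L(Q)` and the parabolics permute the duads

* `Lt.inj`, `Lt.three` : the duads `Φ (pr a b)`;
* `Du` : `z_i` or an element of `E_ij - V`; `Lt.du_iff`;
* `Rp` : a parabolic `R` over `ij`; `Hvy` : the elements of `E_ij - V` are heavy, heavy vectors of `V` are the `z_j`;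
* **`perm_N`, `perm_R`** : `g ∈ N`, `r ∈ R` permute the letters.
-/

set_option autoImplicit false
set_option linter.unusedSectionVars false

namespace Cfsg.Agent.Omega.NO3S.SN2.VPlus

open Subgroup Cfsg.Agent.Omega.S5.Def Cfsg.Agent.Omega.NSix.Base Cfsg.Agent.Omega.NSix.Basic

universe u

variable {G : Type u} [Group G] {n : ℕ}

/-- `g` centralises `V_ij` -/
def Cx (ε : (Fin n → ZMod 2) → G) (i j : Fin n) (g : G) : Prop :=
  ∀ x : Fin n → ZMod 2, x i = x j → g * ε x = ε x * g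

/-- `z_i` or an element of `E_ij - V` -/
def Du (V : Subgroup G) (ε : (Fin n → ZMod 2) → G) (E : Fin n → Fin n → Subgroup G) (g : G) : Prop :=
  (∃ i, g = zz ε i) ∨ ∃ i j, i ≠ j ∧ g ∈ E i j ∧ g ∉ V

/-- `g` acts on the duads as the permutation `σ` of the letters -/
def ActD (Φ : (Fin n × Bool → ZMod 2) → G) (g : G) (σ : Equiv.Perm (Fin n × Bool)) : Prop :=
  ∀ a b, g * Φ (pr a b) * g⁻¹ = Φ (pr (σ a) (σ b))

/-- a parabolic over `ij` -/
structure Rp (V N : Subgroup G) (ε : (Fin n → ZMod 2) → G) (E : Fin n → Fin n → Subgroup G) (i j : Fin n)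
    (R : Subgroup G) : Prop where
  ne : i ≠ j
  cx : ∀ r ∈ R, Cx ε i j r
  RE : ∀ r ∈ R, ∀ w ∈ E i j, r * w * r⁻¹ ∈ E i j
  K : ∃ K : Subgroup G, K ≤ N ∧ K ≤ R ∧ (∀ r ∈ R, ∀ k ∈ K, r * k * r⁻¹ ∈ K) ∧
    ∀ e ∈ E i j, (∀ k ∈ K, k * e = e * k) → e = 1 ∨ e = rr ε i j
  f5 : ∀ k, k ≠ i → k ≠ j → ∀ r ∈ R, ∀ u ∈ E i k, u ∉ V → ∃ e ∈ E i j, ∃ c, InZ ε {k} c ∧ r * u * r⁻¹ = u * e * c
  f5' : ∀ k, k ≠ i → k ≠ j → ∀ r ∈ R, ∀ u ∈ E j k, u ∉ V → ∃ e ∈ E i j, ∃ c, InZ ε {k} c ∧ r * u * r⁻¹ = u * e * c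
  mv : ∃ r ∈ R, r * zz ε i * r⁻¹ ∉ V

/-- heavy vectors -/
structure Hvy (V : Subgroup G) (ε : (Fin n → ZMod 2) → G) (E : Fin n → Fin n → Subgroup G) : Prop where
  hv : ∀ i j, i ≠ j → ∀ u ∈ E i j, u ∉ V → ∃ x, Cx ε i j x ∧ x * zz ε i * x⁻¹ = u
  fus : ∀ g : G, ∀ i, g * zz ε i * g⁻¹ ∈ V → ∃ j, g * zz ε i * g⁻¹ = zz ε j

theorem pr_self {Λ : Type*} [DecidableEq Λ] (a : Λ) : pr a a = 0 := by
  funext c
  rw [pr_apply]
  exact two_add _

theorem pr_add {Λ : Type*} [DecidableEq Λ] (a b c : Λ) : pr a b + pr b c = pr a c := by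
  funext d
  rw [Pi.add_apply, pr_apply, pr_apply, pr_apply]
  have := two_add (if d = b then (1 : ZMod 2) else 0)
  calc _ = ((if d = a then (1 : ZMod 2) else 0) + (if d = c then (1 : ZMod 2) else 0)) +
      ((if d = b then (1 : ZMod 2) else 0) + (if d = b then (1 : ZMod 2) else 0)) := by ring
    _ = _ := by rw [this, add_zero]

theorem card_lett : Nat.card (Fin n × Bool) = 2 * n := by
  rw [Nat.card_eq_fintype_card, Fintype.card_prod, Fintype.card_fin, Fintype.card_bool, mul_comm]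

theorem exists_out (hn : 5 ≤ n) (S : Finset (Fin n × Bool)) (hS : S.card ≤ 9) : ∃ a, a ∉ S := by
  by_contra hcon
  push Not at hcon
  have h1 : (Finset.univ : Finset (Fin n × Bool)) ⊆ S := fun k _ => hcon k
  have h2 := Finset.card_le_card h1
  rw [Finset.card_univ, Fintype.card_prod, Fintype.card_fin, Fintype.card_bool] at h2
  omega

/-- the pairs -/
theorem pr_eq {Λ : Type*} [DecidableEq Λ] {a b c d : Λ} (hab : a ≠ b) (he : pr a b = pr c d) :
    (a = c ∧ b = d) ∨ (a = d ∧ b = c) := by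
  have h1 := congrFun he a
  have h2 := congrFun he b
  rw [pr_apply, pr_apply] at h1 h2
  simp only [if_true, hab, if_false, hab.symm, add_zero, zero_add] at h1 h2
  by_cases h3 : a = c
  · subst h3
    left
    refine ⟨rfl, ?_⟩
    by_contra h4
    simp [hab.symm, h4] at h2
  · by_cases h4 : a = d
    · subst h4
      right
      refine ⟨rfl, ?_⟩
      by_contra h5
      simp [hab.symm, h5] at h2
    · simp [h3, h4] at h1

section Lt

variable {V Q N : Subgroup G} {ε : (Fin n → ZMod 2) → G} {E : Fin n → Fin n → Subgroup G} (h : Dt V Q N ε E)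
  {Φ : (Fin n × Bool → ZMod 2) → G} (l : Lt V Q ε E Φ)
include h l

theorem Lt.Φ0 : Φ 0 = 1 := by
  have := l.add 0 0
  rw [add_zero] at this
  exact (left_eq_mul.1 this)

theorem Lt.sq (x : Fin n × Bool → ZMod 2) : Φ x * Φ x = 1 := by
  rw [← l.add]
  have : x + x = 0 := funext fun a => two_add _
  rw [this, l.Φ0 h]

theorem Lt.dd_mul (a b c : Fin n × Bool) : Φ (pr a b) * Φ (pr b c) = Φ (pr a c) := by
  rw [← l.add, pr_add]

/-- even sums with small support are determined -/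
theorem Lt.small {x y : Fin n × Bool → ZMod 2} (hx : ∑ a, x a = 0) (hy : ∑ a, y a = 0) (he : Φ x = Φ y)
    (S : Finset (Fin n × Bool)) (hS : S.card ≤ 9) (hxS : ∀ a, a ∉ S → x a = 0) (hyS : ∀ a, a ∉ S → y a = 0) :
    x = y := by
  have h1 : ∑ a, (x + y) a = 0 := by
    simp only [Pi.add_apply]
    rw [Finset.sum_add_distrib, hx, hy, add_zero]
  have h2 : Φ (x + y) = 1 := by rw [l.add, he, l.sq h]
  rcases l.ker _ h1 h2 with h3 | h3
  · funext a
    have h4 := congrFun h3 a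
    rw [Pi.add_apply, Pi.zero_apply] at h4
    exact eq_of_sub_eq_zero (by rw [CharTwo.sub_eq_add]; exact h4)
  · exfalso
    obtain ⟨a, ha⟩ := exists_out h.five S hS
    have h4 := congrFun h3 a
    rw [Pi.add_apply, hxS a ha, hyS a ha, add_zero, Pi.one_apply] at h4
    exact zero_ne_one h4

theorem Lt.inj {a b c d : Fin n × Bool} (hab : a ≠ b) (he : Φ (pr a b) = Φ (pr c d)) :
    (a = c ∧ b = d) ∨ (a = d ∧ b = c) := by
  classical
  refine pr_eq hab (l.small h (sum_pr _ _) (sum_pr _ _) he {a, b, c, d} ?_ ?_ ?_)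
  · exact Finset.card_le_four.trans (by norm_num)
  · intro k hk
    simp only [Finset.mem_insert, Finset.mem_singleton, not_or] at hk
    rw [pr_apply, if_neg hk.1, if_neg hk.2.1, add_zero]
  · intro k hk
    simp only [Finset.mem_insert, Finset.mem_singleton, not_or] at hk
    rw [pr_apply, if_neg hk.2.2.1, if_neg hk.2.2.2, add_zero]

theorem Lt.three {a b c d p q : Fin n × Bool} (hab : a ≠ b) (hac : a ≠ c) (had : a ≠ d) (hbc : b ≠ c)
    (hbd : b ≠ d) (hcd : c ≠ d) : Φ (pr a b) * Φ (pr c d) ≠ Φ (pr p q) := by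
  classical
  intro he
  rw [← l.add] at he
  have h1 : pr a b + pr c d = pr p q := by
    refine l.small h ?_ (sum_pr _ _) he {a, b, c, d, p, q} ?_ ?_ ?_
    · simp only [Pi.add_apply]
      rw [Finset.sum_add_distrib, sum_pr, sum_pr, add_zero]
    · exact Finset.card_le_six.trans (by norm_num)
    · intro k hk
      simp only [Finset.mem_insert, Finset.mem_singleton, not_or] at hk
      rw [Pi.add_apply, pr_apply, pr_apply, if_neg hk.1, if_neg hk.2.1, if_neg hk.2.2.1, if_neg hk.2.2.2.1,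
        add_zero, add_zero]
    · intro k hk
      simp only [Finset.mem_insert, Finset.mem_singleton, not_or] at hk
      rw [pr_apply, if_neg hk.2.2.2.2.1, if_neg hk.2.2.2.2.2, add_zero]
  have key : ∀ k, (k = a ∨ k = b ∨ k = c ∨ k = d) → k = p ∨ k = q := by
    intro k hk
    by_contra hcon
    push Not at hcon
    have h2 := congrFun h1 k
    rw [Pi.add_apply, pr_apply, pr_apply, pr_apply, if_neg hcon.1, if_neg hcon.2, add_zero] at h2
    rcases hk with rfl | rfl | rfl | rfl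
    · simp [hab, hac, had] at h2
    · simp [hab.symm, hbc, hbd] at h2
    · simp [hac.symm, hbc.symm, hcd] at h2
    · simp [had.symm, hbd.symm, hcd.symm] at h2
  have ka := key a (Or.inl rfl)
  have kb := key b (Or.inr (Or.inl rfl))
  have kc := key c (Or.inr (Or.inr (Or.inl rfl)))
  rcases ka with rfl | rfl
  · rcases kb with rfl | rfl
    · exact hab rfl
    · rcases kc with rfl | rfl
      · exact hac rfl
      · exact hbc rfl
  · rcases kb with rfl | rfl
    · rcases kc with rfl | rfl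
      · exact hbc rfl
      · exact hac rfl
    · exact hab rfl

omit h in
theorem Lt.dd_blk (i : Fin n) {a b : Bool} (hab : a ≠ b) : Φ (pr (i, a) (i, b)) = zz ε i := by
  have h1 : pr (i, a) (i, b) = fun c : Fin n × Bool => (Pi.single i 1 : Fin n → ZMod 2) c.1 := by
    funext c
    rw [pr_apply]
    obtain ⟨k, s⟩ := c
    by_cases hk : k = i
    · subst hk
      cases a <;> cases b <;> cases s <;> simp_all
    · simp [hk]
  rw [h1, l.blk]
  rfl

omit h in
theorem Lt.du_iff {g : G} : Du V ε E g ↔ ∃ a b, a ≠ b ∧ g = Φ (pr a b) := by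
  constructor
  · rintro (⟨i, rfl⟩ | ⟨i, j, hij, hg, hgV⟩)
    · exact ⟨(i, false), (i, true), by simp, (l.dd_blk i (by simp)).symm⟩
    · obtain ⟨a, b, rfl⟩ := l.pr_surj i j hij g hg hgV
      exact ⟨(i, a), (j, b), fun e => hij (congrArg Prod.fst e), rfl⟩
  · rintro ⟨⟨i, a⟩, ⟨j, b⟩, hab, rfl⟩
    by_cases hij : i = j
    · subst hij
      left
      exact ⟨i, l.dd_blk i fun e => hab (by rw [e])⟩
    · right
      exact ⟨i, j, hij, l.pr_mem i j hij a b⟩

/-- an element which maps duads to duads permutes the letters -/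
theorem Lt.perm {g : G} (hz : ∀ i, Du V ε E (g * zz ε i * g⁻¹))
    (hE : ∀ i j, i ≠ j → ∀ u ∈ E i j, u ∉ V → Du V ε E (g * u * g⁻¹)) : ∃ σ, ActD Φ g σ := by
  refine exists_perm_of_duads (fun a b => Φ (pr a b)) (by rw [card_lett]; have := h.five; omega)
    (fun a => by
      change Φ (pr a a) = 1
      rw [pr_self, l.Φ0 h])
    (fun a b c => l.dd_mul h a b c) (fun a b => by
      change Φ (pr a b) = Φ (pr b a)
      rw [pr_comm])
    (fun a b c d hab he => l.inj h hab he)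
    (fun a b c d p q h1 h2 h3 h4 h5 h6 _ => l.three h h1 h2 h3 h4 h5 h6)
    (MulAut.conj g).toMonoidHom (MulAut.conj g).injective ?_
  intro a b hab
  have h1 : Du V ε E (Φ (pr a b)) := l.du_iff.2 ⟨a, b, hab, rfl⟩
  have h2 : Du V ε E (g * Φ (pr a b) * g⁻¹) := by
    rcases h1 with ⟨i, hi⟩ | ⟨i, j, hij, hg, hgV⟩
    · rw [hi]
      exact hz i
    · exact hE i j hij _ hg hgV
  obtain ⟨c, d, hcd, he⟩ := l.du_iff.1 h2
  exact ⟨c, d, hcd, he⟩

end Lt

section act

variable {V Q N : Subgroup G} {ε : (Fin n → ZMod 2) → G} {E : Fin n → Fin n → Subgroup G} (h : Dt V Q N ε E)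
include h

theorem Dt.Vm {v : G} (hv : v ∈ V) {g : G} (hg : g ∈ N) : g * v * g⁻¹ ∈ V :=
  (mem_normalizer_iff.1 (h.ev.le_normalizer hg) v).1 hv

/-- `N` permutes the duads -/
theorem perm_N {Φ : (Fin n × Bool → ZMod 2) → G} (l : Lt V Q ε E Φ) {g : G} (hg : g ∈ N) : ∃ σ, ActD Φ g σ := by
  obtain ⟨τ, hτ⟩ := h.ev.perm g hg
  refine l.perm h (fun i => Or.inl ⟨τ i, zz_conj hτ i⟩) fun i j hij u hu huV => ?_
  refine Or.inr ⟨τ i, τ j, fun e => hij (τ.injective e), h.cj i j hij g hg τ hτ u hu, fun hc => huV ?_⟩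
  have := h.Vm hc (N.inv_mem hg)
  have e : g⁻¹ * (g * u * g⁻¹) * g⁻¹⁻¹ = u := by group
  rwa [e] at this

omit h in
theorem Cx.zz {i j m : Fin n} {g : G} (hg : Cx ε i j g) (hi : m ≠ i) (hj : m ≠ j) :
    g * NSix.Base.zz ε m * g⁻¹ = NSix.Base.zz ε m := by
  rw [NSix.Base.zz, hg _ (by simp [hi.symm, hj.symm])]
  group

omit h in
theorem Cx.inz {i j : Fin n} {S : Set (Fin n)} {g v : G} (hg : Cx ε i j g) (hi : i ∉ S) (hj : j ∉ S)
    (hv : InZ ε S v) : g * v * g⁻¹ = v := by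
  obtain ⟨x, hx, rfl⟩ := hv
  rw [hg x (by rw [hx i hi, hx j hj])]
  group

variable (hh : Hvy V ε E)
include hh

/-- `u z_m` is light (`u ∈ E_ij - V`, `m ≠ i, j`) -/
theorem light2 {i j m : Fin n} (hij : i ≠ j) (hmi : m ≠ i) (hmj : m ≠ j) {u : G} (hu : u ∈ E i j) (huV : u ∉ V)
    (g : G) (k : Fin n) : g * zz ε k * g⁻¹ ≠ u * zz ε m := by
  intro he
  obtain ⟨x, hx, hxu⟩ := hh.hv i j hij u hu huV
  have h1 : (x⁻¹ * g) * zz ε k * (x⁻¹ * g)⁻¹ = rr ε i m := by
    have h2 := hx.zz hmi hmj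
    calc (x⁻¹ * g) * zz ε k * (x⁻¹ * g)⁻¹ = x⁻¹ * (g * zz ε k * g⁻¹) * x := by group
      _ = x⁻¹ * (u * (x * zz ε m * x⁻¹)) * x := by rw [he, h2]
      _ = zz ε i * zz ε m := by rw [← hxu]; group
  obtain ⟨l, hl⟩ := hh.fus (x⁻¹ * g) k (by rw [h1]; exact rr_mem h.ev _ _)
  rw [h1] at hl
  obtain ⟨p, hp1, hp2, hp3, -⟩ := exists_ne h.five i m l l
  unfold rr zz at hl
  rw [← h.ev.add] at hl
  rcases h.ev.eq_iff.1 hl with h3 | h3
  · have a1 := congrFun h3 i
    have a2 := congrFun h3 m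
    by_cases hli : l = i
    · subst hli
      simp [hmi] at a2
    · simp [hmi.symm, Ne.symm hli] at a1
  · have a1 := congrFun h3 p
    simp [hp1, hp2, hp3] at a1

/-- `u x_ij` is not heavy (`u ∈ E_cd - V`, `{c, d} ∩ {i, j} = ∅`) -/
theorem light3 {i j c d : Fin n} (hij : i ≠ j) (hcd : c ≠ d) (hci : c ≠ i) (hcj : c ≠ j) (hdi : d ≠ i) (hdj : d ≠ j)
    {u : G} (hu : u ∈ E c d) (huV : u ∉ V) (g : G) (k : Fin n) : g * zz ε k * g⁻¹ ≠ u * rr ε i j := by
  intro he
  obtain ⟨x, hx, hxu⟩ := hh.hv c d hcd u hu huV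
  have h1 : (x⁻¹ * g) * zz ε k * (x⁻¹ * g)⁻¹ = zz ε c * rr ε i j := by
    have h2 : x * rr ε i j * x⁻¹ = rr ε i j := by
      refine hx.inz (S := {i, j}) (by simp [hci, hcj]) (by simp [hdi, hdj]) ?_
      exact InZ.mul h.ev (InZ.zz (by simp)) (InZ.zz (by simp))
    calc (x⁻¹ * g) * zz ε k * (x⁻¹ * g)⁻¹ = x⁻¹ * (g * zz ε k * g⁻¹) * x := by group
      _ = x⁻¹ * (u * (x * rr ε i j * x⁻¹)) * x := by rw [he, h2]
      _ = _ := by rw [← hxu]; group
  obtain ⟨l, hl⟩ := hh.fus (x⁻¹ * g) k (by rw [h1]; exact V.mul_mem (zz_mem h.ev _) (rr_mem h.ev _ _))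
  rw [h1] at hl
  obtain ⟨p, hp1, hp2, hp3, hp4⟩ := exists_ne h.five i j c l
  unfold rr zz at hl
  rw [← h.ev.add, ← h.ev.add] at hl
  rcases h.ev.eq_iff.1 hl with h3 | h3
  · have a1 := congrFun h3 i
    have a2 := congrFun h3 j
    by_cases hli : l = i
    · subst hli
      simp [hij.symm, hcj.symm] at a2
    · simp [hij, hci.symm, Ne.symm hli] at a1
  · have a1 := congrFun h3 p
    simp [hp1, hp2, hp3, hp4] at a1

theorem mul_V {u v : G} (huV : u ∉ V) (hv : v ∈ V) : u * v ∉ V := fun hc => huV (by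
  have := V.mul_mem hc (V.inv_mem hv)
  rwa [mul_inv_cancel_right] at this)

/-- (f8) (i) -/
theorem mixed {i j k : Fin n} (hij : i ≠ j) (hki : k ≠ i) (hkj : k ≠ j) {r u : G} (hu : u ∈ E i k) (huV : u ∉ V)
    (he : ∃ e ∈ E i j, ∃ c, InZ ε {k} c ∧ r * u * r⁻¹ = u * e * c) :
    (r * u * r⁻¹ ∈ E i k ∨ r * u * r⁻¹ ∈ E j k) ∧ r * u * r⁻¹ ∉ V := by
  obtain ⟨e, he, c, hc, hre⟩ := he
  obtain ⟨x, hx, hxu⟩ := hh.hv i k hki.symm u hu huV
  have hcV := hc.mem h.ev
  have heavy : ∀ w m, w ∈ E m k → w ∉ V → (m = i ∨ m = j) → ∀ s, (s = i ∨ s = j) → s ≠ m →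
      r * u * r⁻¹ = w * zz ε s → False := by
    intro w m hw hwV hm s hs hsm hrw
    have hmk : m ≠ k := by rcases hm with rfl | rfl <;> [exact hki.symm; exact hkj.symm]
    have hsk : s ≠ k := by rcases hs with rfl | rfl <;> [exact hki.symm; exact hkj.symm]
    refine light2 h hh hmk hsm hsk hw hwV (r * x) i ?_
    rw [← hrw, ← hxu]
    group
  by_cases heV : e ∈ V
  · have h1 : InZ ε (insert j {i}) e := by
      have := h.EV i j hij e he heV
      rwa [Set.pair_comm] at this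
    rcases h1.split h.ev with h2 | h2
    · refine ⟨Or.inl ?_, ?_⟩
      · rw [hre]
        exact mul_mem (mul_mem hu (h.ZE i k hki.symm _ (h2.mono (by simp)))) (h.ZE i k hki.symm _ (hc.mono (by simp)))
      · rw [hre, mul_assoc]
        exact mul_V h hh huV (V.mul_mem heV hcV)
    · exfalso
      have hw1 : zz ε j * e * c ∈ V := V.mul_mem (h2.mem h.ev) hcV
      refine heavy (u * (zz ε j * e * c)) i ?_ (mul_V h hh huV hw1) (Or.inl rfl) j (Or.inr rfl) hij.symm ?_
      · exact mul_mem hu (mul_mem (h.ZE i k hki.symm _ (h2.mono (by simp))) (h.ZE i k hki.symm _ (hc.mono (by simp))))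
      · have h3 : zz ε j * (e * c) = (e * c) * zz ε j := h.ev.comm_mem (zz_mem h.ev _) (V.mul_mem heV hcV)
        calc r * u * r⁻¹ = u * (e * c) := by rw [hre]; group
          _ = u * ((e * c) * zz ε j) * (zz ε j)⁻¹ := by group
          _ = u * (zz ε j * (e * c)) * zz ε j := by rw [← h3, zz_inv h.ev]
          _ = _ := by group
  · obtain ⟨s, hs, hsV⟩ := h.ne j k hkj.symm
    have h1 := h.dep i j k hij hki.symm hkj.symm e he u hu s hs heV huV hsV
    have hue : u * e = e * u := h.comm i k hki.symm i j hij u hu e he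
    have hc' : c ∈ E j k := h.ZE j k hkj.symm _ (hc.mono (by simp))
    rcases h1.split h.ev with h2 | h2
    · have h3 : u * e * c = (e * u * s) * s⁻¹ * c := by rw [hue]; group
      have h4 : r * u * r⁻¹ ∈ E j k := by
        rw [hre, h3]
        exact mul_mem (mul_mem (h.ZE j k hkj.symm _ h2) (inv_mem hs)) hc'
      refine ⟨Or.inr h4, ?_⟩
      rw [hre]
      exact mul_V h hh (h.mul_notMem hki.symm hij hkj hu he huV) hcV
    · exfalso
      have h3 : u * e * c = (zz ε i * (e * u * s)) * s⁻¹ * c * zz ε i := by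
        have a1 : s⁻¹ * c * zz ε i ∈ VE E := mul_mem (mul_mem (inv_mem (Dt.mem_VE hkj.symm hs))
          (Dt.mem_VE hkj.symm hc')) (h.V_le (zz_mem h.ev i))
        have a2 := h.VEc _ (h.V_le (zz_mem h.ev i)) _ (mul_mem (Dt.mem_VE hij he) (mul_mem
          (Dt.mem_VE hki.symm hu) (h.V_le hcV)))
        calc u * e * c = (zz ε i * zz ε i) * (e * (u * c)) := by rw [zz_sq h.ev, one_mul, hue]; group
          _ = zz ε i * (zz ε i * (e * (u * c))) := by group
          _ = zz ε i * ((e * (u * c)) * zz ε i) := by rw [a2]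
          _ = _ := by group
      have h4 : (zz ε i * (e * u * s)) * s⁻¹ * c ∉ V := by
        intro hc2
        have h5 := V.mul_mem hc2 (zz_mem h.ev i)
        rw [← h3] at h5
        exact mul_V h hh (h.mul_notMem hki.symm hij hkj hu he huV) hcV h5
      refine heavy _ j ?_ h4 (Or.inr rfl) i (Or.inl rfl) hij ?_
      · exact mul_mem (mul_mem (h.ZE j k hkj.symm _ h2) (inv_mem hs)) hc'
      · rw [hre, h3]

end act

end Cfsg.Agent.Omega.NO3S.SN2.VPlus

end

section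


/-!
# SN.Two / LightL, `V⁺ = even(2n) / 1` (helper895 #23142 (f8)): the parabolics permute the duads

* `disj` : (f8) (ii), `R` over `ij` normalises `E_cd` for `{c, d}` disjoint from `{i, j}`;
* **`perm_R`**; `Rp.swap`.
-/

set_option autoImplicit false
set_option linter.unusedSectionVars false

namespace Cfsg.Agent.Omega.NO3S.SN2.VPlus

open Subgroup Cfsg.Agent.Omega.S5.Def Cfsg.Agent.Omega.NSix.Base Cfsg.Agent.Omega.NSix.Basic

universe u

variable {G : Type u} [Group G] {n : ℕ} {V Q N : Subgroup G} {ε : (Fin n → ZMod 2) → G}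
  {E : Fin n → Fin n → Subgroup G} (h : Dt V Q N ε E)

include h in
/-- (f8) (ii), first half -/
theorem disjA {i j c d : Fin n} {R : Subgroup G} (hR : Rp V N ε E i j R) (hcd : c ≠ d) (hci : c ≠ i) (hcj : c ≠ j)
    (hdi : d ≠ i) (hdj : d ≠ j) {r : G} (hr : r ∈ R) {y : G} (hy : y ∈ E c d) (hyV : y ∉ V) :
    ∃ e ∈ E i j, ∃ f, InZ ε {c, d} f ∧ r * y * r⁻¹ = y * e * f := by
  have hij := hR.ne
  obtain ⟨w, hw, hwV⟩ := h.ne i c hci.symm
  obtain ⟨w', hw', hwV'⟩ := h.ne i d hdi.symm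
  obtain ⟨e1, he1, c1, hc1, a1⟩ := hR.f5 c hci hcj r hr w hw hwV
  obtain ⟨e2, he2, c2, hc2, a2⟩ := hR.f5 d hdi hdj r hr w' hw' hwV'
  have h1 := h.dep i c d hci.symm hdi.symm hcd w hw w' hw' y hy hwV hwV' hyV
  -- the membership in `V⁺`
  have mw := Dt.mem_VE hci.symm hw
  have mw' := Dt.mem_VE hdi.symm hw'
  have my := Dt.mem_VE hcd hy
  have me1 := Dt.mem_VE hij he1
  have me2 := Dt.mem_VE hij he2
  have mc1 := h.V_le (hc1.mem h.ev)
  have mc2 := h.V_le (hc2.mem h.ev)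
  -- `ζ := w w' y`, `r ζ r⁻¹ = ζ e3`
  obtain ⟨e3, he3, a3⟩ : ∃ e3 ∈ E i j, r * (w * w' * y) * r⁻¹ = (w * w' * y) * e3 := by
    rcases h1.split h.ev with h2 | h2
    · refine ⟨1, one_mem _, ?_⟩
      rw [mul_one]
      exact (hR.cx r hr).inz (by simp [hci.symm, hdi.symm]) (by simp [hcj.symm, hdj.symm]) h2
    · have h3 := (hR.cx r hr).inz (S := {c, d}) (by simp [hci.symm, hdi.symm]) (by simp [hcj.symm, hdj.symm]) h2
      have hzi := (h.zzE hij).1
      have h4 := hR.RE r hr _ hzi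
      refine ⟨zz ε i * (r * zz ε i * r⁻¹), mul_mem hzi h4, ?_⟩
      have m1 : w * w' * y ∈ VE E := mul_mem (mul_mem mw mw') my
      have m2 := Dt.mem_VE hij h4
      have a4 : (r * zz ε i * r⁻¹) * (zz ε i * (w * w' * y)) = (zz ε i * (w * w' * y)) * (r * zz ε i * r⁻¹) :=
        h.VEc _ m2 _ (mul_mem (Dt.mem_VE hij hzi) m1)
      have a5 := h.VEc _ (Dt.mem_VE hij hzi) _ m1
      calc r * (w * w' * y) * r⁻¹ = r * ((zz ε i * zz ε i) * (w * w' * y)) * r⁻¹ := by
            rw [zz_sq h.ev, one_mul]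
        _ = (r * zz ε i * r⁻¹) * (r * (zz ε i * (w * w' * y)) * r⁻¹) := by group
        _ = (zz ε i * (w * w' * y)) * (r * zz ε i * r⁻¹) := by rw [h3, a4]
        _ = (w * w' * y) * zz ε i * (r * zz ε i * r⁻¹) := by rw [a5]
        _ = _ := by group
  refine ⟨e1 * e2 * e3, mul_mem (mul_mem he1 he2) he3, c1 * c2,
    InZ.mul h.ev (hc1.mono (by simp)) (hc2.mono (by simp)), ?_⟩
  -- compute in the abelian group `V⁺`
  have b1 : r * y * r⁻¹ = (r * w' * r⁻¹)⁻¹ * (r * w * r⁻¹)⁻¹ * (r * (w * w' * y) * r⁻¹) := by group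
  have hsq : ∀ x ∈ VE E, x * x = 1 := by
    intro x hx
    refine Subgroup.closure_induction (p := fun x _ => x * x = 1) ?_ ?_ ?_ ?_ hx
    · rintro x ⟨i, j, hij, hx⟩
      exact h.sq i j hij x hx
    · exact one_mul 1
    · intro x y hx hy h1 h2
      have h3 := h.VEc y hy x hx
      calc x * y * (x * y) = x * (y * x) * y := by group
        _ = (x * x) * (y * y) := by rw [h3]; group
        _ = 1 := by rw [h1, h2, one_mul]
    · intro x hx h1
      rw [← mul_inv_rev, h1, inv_one]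
  have hinv : ∀ x ∈ VE E, x⁻¹ = x := fun x hx => inv_eq_of_mul_eq_one_left (hsq x hx)
  have m1 : w * e1 * c1 ∈ VE E := mul_mem (mul_mem mw me1) mc1
  have m2 : w' * e2 * c2 ∈ VE E := mul_mem (mul_mem mw' me2) mc2
  have m3 := Dt.mem_VE hij he3
  rw [b1, a1, a2, a3, hinv _ m1, hinv _ m2]
  have cc := h.VEc
  calc w' * e2 * c2 * (w * e1 * c1) * (w * w' * y * e3) =
      (w * w') * (w' * e2 * c2 * (w * e1 * c1)) * (y * e3) := by
        have := cc _ (mul_mem m2 m1) _ (mul_mem mw mw')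
        calc _ = (w' * e2 * c2 * (w * e1 * c1)) * (w * w') * (y * e3) := by group
          _ = _ := by rw [this]
    _ = w * w' * (w' * (e2 * c2 * (w * e1 * c1))) * (y * e3) := by group
    _ = w * (w' * w') * ((e2 * c2) * (w * (e1 * c1))) * (y * e3) := by group
    _ = w * ((e2 * c2) * w) * (e1 * c1) * (y * e3) := by rw [hsq _ mw']; group
    _ = w * (w * (e2 * c2)) * (e1 * c1) * (y * e3) := by rw [cc _ (mul_mem me2 mc2) _ mw]
    _ = (w * w) * ((e2 * c2) * (e1 * c1)) * y * e3 := by group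
    _ = ((e2 * c2) * (e1 * c1)) * y * e3 := by rw [hsq _ mw, one_mul]
    _ = y * ((e2 * c2) * (e1 * c1)) * e3 := by
        rw [cc _ (mul_mem (mul_mem me2 mc2) (mul_mem me1 mc1)) _ my]
    _ = y * (e2 * (c2 * e1) * c1 * e3) := by group
    _ = y * (e2 * (e1 * c2) * c1 * e3) := by rw [cc _ mc2 _ me1]
    _ = y * ((e2 * e1) * ((c2 * c1) * e3)) := by group
    _ = y * ((e1 * e2) * (e3 * (c1 * c2))) := by
        rw [cc _ me2 _ me1, cc _ (mul_mem mc2 mc1) _ m3, cc _ mc2 _ mc1]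
    _ = _ := by group

section heavy

variable (hh : Hvy V ε E)
include h hh

/-- **(f8) (ii)** -/
theorem disj {i j c d : Fin n} {R : Subgroup G} (hR : Rp V N ε E i j R) (hcd : c ≠ d) (hci : c ≠ i) (hcj : c ≠ j)
    (hdi : d ≠ i) (hdj : d ≠ j) {r : G} (hr : r ∈ R) {y : G} (hy : y ∈ E c d) (hyV : y ∉ V) :
    r * y * r⁻¹ ∈ E c d ∧ r * y * r⁻¹ ∉ V := by
  have hij := hR.ne
  obtain ⟨e, he, f, hf, hre⟩ := disjA h hR hcd hci hcj hdi hdj hr hy hyV
  have my := Dt.mem_VE hcd hy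
  have me := Dt.mem_VE hij he
  have mf := h.V_le (hf.mem h.ev)
  have cc := h.VEc
  obtain ⟨K, hKN, hKR, hKn, hKc⟩ := hR.K
  -- `K` fixes `y ⟨z_c, z_d⟩`
  have k1 : ∀ k ∈ K, ∃ g, InZ ε {c, d} g ∧ k * y * k⁻¹ = y * g := by
    intro k hk
    obtain ⟨σ, hσ⟩ := h.ev.perm k (hKN hk)
    have hfx : ∀ m, m ≠ i → m ≠ j → σ m = m := fun m hmi hmj =>
      (h.ev.fixes_iff h.n3 hσ m).1 (hR.cx k (hKR hk) _ (by simp [hmi.symm, hmj.symm]))
    have h1 := h.cj c d hcd k (hKN hk) σ hσ y hy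
    rw [hfx c hci hcj, hfx d hdi hdj] at h1
    have h1V : k * y * k⁻¹ ∉ V := fun hc => hyV (by
      have := h.Vm hc (N.inv_mem (hKN hk))
      have e : k⁻¹ * (k * y * k⁻¹) * k⁻¹⁻¹ = y := by group
      rwa [e] at this)
    refine ⟨y * (k * y * k⁻¹), h.EV c d hcd _ (mul_mem hy h1) (h.idx c d hcd _ hy _ h1 hyV h1V), ?_⟩
    have h2 := h.sq c d hcd y hy
    calc k * y * k⁻¹ = (y * y) * (k * y * k⁻¹) := by rw [h2, one_mul]
      _ = _ := by group
  -- `e` is centralised by `K`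
  have k2 : ∀ k ∈ K, k * e = e * k := by
    intro k hk
    have hk' : r⁻¹ * k * r ∈ K := by
      have := hKn r⁻¹ (R.inv_mem hr) k hk
      rwa [inv_inv] at this
    obtain ⟨g1, hg1, b1⟩ := k1 k hk
    obtain ⟨g2, hg2, b2⟩ := k1 _ hk'
    have hke : k * e * k⁻¹ ∈ E i j := hR.RE k (hKR hk) e he
    have hkf : k * f * k⁻¹ = f :=
      (hR.cx k (hKR hk)).inz (by simp [hci.symm, hdi.symm]) (by simp [hcj.symm, hdj.symm]) hf
    have hrg : r * g2 * r⁻¹ = g2 :=
      (hR.cx r hr).inz (by simp [hci.symm, hdi.symm]) (by simp [hcj.symm, hdj.symm]) hg2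
    have mg1 := h.V_le (hg1.mem h.ev)
    have mg2 := h.V_le (hg2.mem h.ev)
    have mke := Dt.mem_VE hij hke
    have e1 : k * (r * y * r⁻¹) * k⁻¹ = y * e * f * g2 := by
      calc k * (r * y * r⁻¹) * k⁻¹ = r * ((r⁻¹ * k * r) * y * (r⁻¹ * k * r)⁻¹) * r⁻¹ := by group
        _ = (r * y * r⁻¹) * (r * g2 * r⁻¹) := by rw [b2]; group
        _ = _ := by rw [hre, hrg]
    have e2 : k * (r * y * r⁻¹) * k⁻¹ = y * g1 * (k * e * k⁻¹) * f := by
      calc k * (r * y * r⁻¹) * k⁻¹ = (k * y * k⁻¹) * (k * e * k⁻¹) * (k * f * k⁻¹) := by rw [hre]; group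
        _ = _ := by rw [b1, hkf]
    have e3 : (k * e * k⁻¹) * e⁻¹ = g1⁻¹ * g2 := by
      have e4 : g1 * (k * e * k⁻¹) = e * g2 := by
        have e5 : y * (e * (f * g2)) = y * ((g1 * (k * e * k⁻¹)) * f) := by
          calc y * (e * (f * g2)) = y * e * f * g2 := by group
            _ = _ := by rw [← e1, e2]; group
        have e6 := mul_left_cancel e5
        rw [cc _ mf _ mg2, ← mul_assoc] at e6
        exact (mul_right_cancel e6).symm
      have e7 : k * e * k⁻¹ = g1⁻¹ * (e * g2) := by rw [← e4]; group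
      rw [e7, cc _ me _ mg2]
      group
    have h5 : InZ ε {c, d} ((k * e * k⁻¹) * e⁻¹) := by
      have e8 : g1⁻¹ = g1 := inv_eq_of_mul_eq_one_left (h.ev.sq_mem (hg1.mem h.ev))
      rw [e3, e8]
      exact InZ.mul h.ev hg1 hg2
    have h6 : InZ ε {i, j} ((k * e * k⁻¹) * e⁻¹) :=
      h.EV i j hij _ (mul_mem hke (inv_mem he)) (h5.mem h.ev)
    obtain ⟨m, hm1, hm2, hm3, hm4⟩ := exists_ne h.five i j c d
    have h7 := InZ.inter h.ev (m := m) (by simp [hm3, hm4]) (by simp [hm1, hm2]) h5 h6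
    have h8 : ({c, d} ∩ {i, j} : Set (Fin n)) = ∅ := by
      ext x
      simp only [Set.mem_inter_iff, Set.mem_insert_iff, Set.mem_singleton_iff, Set.mem_empty_iff_false, iff_false,
        not_and, not_or]
      rintro (rfl | rfl)
      · exact ⟨hci, hcj⟩
      · exact ⟨hdi, hdj⟩
    rw [h8] at h7
    have h9 := h7.empty h.ev
    rw [mul_inv_eq_one] at h9
    exact mul_inv_eq_iff_eq_mul.1 h9
  have hyf : y * f ∈ E c d := mul_mem hy (h.ZE c d hcd _ hf)
  have hyfV : y * f ∉ V := mul_V h hh hyV (hf.mem h.ev)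
  rcases hKc e he k2 with h1 | h1
  · rw [hre, h1, mul_one]
    exact ⟨hyf, hyfV⟩
  · exfalso
    obtain ⟨x, hx, hxy⟩ := hh.hv c d hcd y hy hyV
    refine light3 h hh hij hcd hci hcj hdi hdj hyf hyfV (r * x) c ?_
    calc r * x * zz ε c * (r * x)⁻¹ = r * y * r⁻¹ := by rw [← hxy]; group
      _ = y * (e * f) := by rw [hre]; group
      _ = y * (f * rr ε i j) := by rw [cc _ me _ mf, h1]
      _ = _ := by group

/-- **the parabolics permute the letters** -/
theorem perm_R {Φ : (Fin n × Bool → ZMod 2) → G} (l : Lt V Q ε E Φ) {i j : Fin n} {R : Subgroup G}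
    (hR : Rp V N ε E i j R) {r : G} (hr : r ∈ R) : ∃ σ, ActD Φ r σ := by
  have hij := hR.ne
  -- heavy elements of `E_ij`
  have hvy : ∀ w, w ∈ E i j → (∃ g k, g * zz ε k * g⁻¹ = w) → Du V ε E w := by
    rintro w hw ⟨g, k, hg⟩
    by_cases hwV : w ∈ V
    · left
      rw [← hg] at hwV ⊢
      exact hh.fus g k hwV
    · exact Or.inr ⟨i, j, hij, hw, hwV⟩
  have key : ∀ c d, c ≠ d → ∀ u ∈ E c d, u ∉ V → Du V ε E (r * u * r⁻¹) := by
    have a0 : ∀ u ∈ E i j, u ∉ V → Du V ε E (r * u * r⁻¹) := by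
      intro u hu huV
      obtain ⟨x, hx, hxu⟩ := hh.hv i j hij u hu huV
      exact hvy _ (hR.RE r hr u hu) ⟨r * x, i, by rw [← hxu]; group⟩
    have a1 : ∀ c, c ≠ i → ∀ u ∈ E i c, u ∉ V → Du V ε E (r * u * r⁻¹) := by
      intro c hci u hu huV
      by_cases hcj : c = j
      · subst hcj
        exact a0 u hu huV
      · have h1 := mixed h hh hij hci hcj hu huV (hR.f5 c hci hcj r hr u hu huV)
        rcases h1.1 with h2 | h2
        · exact Or.inr ⟨i, c, Ne.symm hci, h2, h1.2⟩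
        · exact Or.inr ⟨j, c, Ne.symm hcj, h2, h1.2⟩
    have a2 : ∀ c, c ≠ j → ∀ u ∈ E j c, u ∉ V → Du V ε E (r * u * r⁻¹) := by
      intro c hcj u hu huV
      by_cases hci : c = i
      · subst hci
        rw [h.sym _ _ hij.symm] at hu
        exact a0 u hu huV
      · have h0 : ∃ e ∈ E j i, ∃ d, InZ ε {c} d ∧ r * u * r⁻¹ = u * e * d := by
          rw [h.sym j i hij.symm]
          exact hR.f5' c hci hcj r hr u hu huV
        have h1 := mixed h hh hij.symm hcj hci hu huV h0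
        rcases h1.1 with h2 | h2
        · exact Or.inr ⟨j, c, Ne.symm hcj, h2, h1.2⟩
        · exact Or.inr ⟨i, c, Ne.symm hci, h2, h1.2⟩
    intro c d hcd u hu huV
    by_cases hci : c = i
    · subst hci
      exact a1 d hcd.symm u hu huV
    by_cases hdi : d = i
    · subst hdi
      rw [h.sym _ _ hcd] at hu
      exact a1 c hcd u hu huV
    by_cases hcj : c = j
    · subst hcj
      exact a2 d hcd.symm u hu huV
    by_cases hdj : d = j
    · subst hdj
      rw [h.sym _ _ hcd] at hu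
      exact a2 c hcd u hu huV
    exact Or.inr ⟨c, d, hcd, disj h hh hR hcd hci hcj hdi hdj hr hu huV⟩
  refine l.perm h (fun m => ?_) key
  by_cases hmi : m = i
  · subst hmi
    exact hvy _ (hR.RE r hr _ (h.zzE hij).1) ⟨r, m, rfl⟩
  by_cases hmj : m = j
  · subst hmj
    exact hvy _ (hR.RE r hr _ (h.zzE hij).2) ⟨r, m, rfl⟩
  · left
    exact ⟨m, (hR.cx r hr).zz hmi hmj⟩

end heavy

end Cfsg.Agent.Omega.NO3S.SN2.VPlus

end

end

-- merged: Cfsg.Agent.Mrg.Omega.NO3S.SN2.VPlus.Sym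
section

/-!
# SN.Two / LightL, `V⁺ = even(2n) / 1` (helper933 #22887 (6), helper895 #23142 (f8)): `Sym(2n)`

* `MM N R` : the group generated by `N` and `R`; it permutes the letters (`perm_MM`) and normalises `V⁺` (`norm_MM`);
* **`sym`** : if one `q ∈ Q` is a transposition of letters (`f = {c}`), then `MM N R` induces `Sym(2n)`;
* **`rank`** : a group `G` with `m_3(G) ≤ 2` has no such configuration (LightL for `K = QK`).
-/

set_option autoImplicit false
set_option linter.unusedSectionVars false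

namespace Cfsg.Agent.Omega.NO3S.SN2.VPlus

open Subgroup Cfsg.Agent.Omega.S5.Def Cfsg.Agent.Omega.NSix.Base Cfsg.Agent.Omega.NSix.Basic

universe u

variable {G : Type u} [Group G] {n : ℕ} {V Q N : Subgroup G} {ε : (Fin n → ZMod 2) → G}
  {E : Fin n → Fin n → Subgroup G} {Φ : (Fin n × Bool → ZMod 2) → G}

section ActD

variable {g k : G} {σ τ : Equiv.Perm (Fin n × Bool)}

theorem ActD.one (Φ : (Fin n × Bool → ZMod 2) → G) : ActD Φ (1 : G) 1 := fun a b => by
  rw [one_mul, inv_one, mul_one]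
  rfl

theorem ActD.mul (hg : ActD Φ g σ) (hk : ActD Φ k τ) : ActD Φ (g * k) (σ * τ) := fun a b => by
  calc g * k * Φ (pr a b) * (g * k)⁻¹ = g * (k * Φ (pr a b) * k⁻¹) * g⁻¹ := by group
    _ = _ := by rw [hk, hg]; rfl

theorem ActD.inv (hg : ActD Φ g σ) : ActD Φ g⁻¹ σ⁻¹ := fun a b => by
  have h1 := hg (σ⁻¹ a) (σ⁻¹ b)
  have e1 : ∀ c, σ (σ⁻¹ c) = c := fun c => Equiv.apply_symm_apply σ c
  rw [e1, e1] at h1
  rw [← h1]
  group

/-- the permutations induced by `M` -/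
def Im (Φ : (Fin n × Bool → ZMod 2) → G) (M : Subgroup G) : Subgroup (Equiv.Perm (Fin n × Bool)) where
  carrier := {σ | ∃ g ∈ M, ActD Φ g σ}
  mul_mem' := by
    rintro σ τ ⟨g, hg, h1⟩ ⟨k, hk, h2⟩
    exact ⟨g * k, mul_mem hg hk, h1.mul h2⟩
  one_mem' := ⟨1, one_mem _, ActD.one Φ⟩
  inv_mem' := by
    rintro σ ⟨g, hg, h1⟩
    exact ⟨g⁻¹, inv_mem hg, h1.inv⟩

theorem mem_Im {M : Subgroup G} {σ : Equiv.Perm (Fin n × Bool)} : σ ∈ Im Φ M ↔ ∃ g ∈ M, ActD Φ g σ := Iff.rfl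

end ActD

variable (h : Dt V Q N ε E) (l : Lt V Q ε E Φ)
include h l

/-- the permutation is unique -/
theorem ActD.uniq {g : G} {σ τ : Equiv.Perm (Fin n × Bool)} (h1 : ActD Φ g σ) (h2 : ActD Φ g τ) : σ = τ := by
  classical
  ext1 a
  obtain ⟨b, hb⟩ := exists_out h.five {a} (by simp)
  obtain ⟨c, hc⟩ := exists_out h.five {a, b} (Finset.card_le_two.trans (by norm_num))
  simp only [Finset.mem_insert, Finset.mem_singleton, not_or] at hb hc
  have k1 := l.inj h (fun e => hb (σ.injective e).symm) ((h1 a b).symm.trans (h2 a b))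
  have k2 := l.inj h (fun e => hc.1 (σ.injective e).symm) ((h1 a c).symm.trans (h2 a c))
  rcases k1 with k1 | k1
  · exact k1.1
  · rcases k2 with k2 | k2
    · exact k2.1
    · exfalso
      exact hc.2 (τ.injective (k2.1.symm.trans k1.1))

/-- the block of `i` is mapped to the block of `σ i` -/
theorem ActD.blk {g : G} {σ : Equiv.Perm (Fin n × Bool)} (h1 : ActD Φ g σ) {i j : Fin n}
    (hg : g * zz ε i * g⁻¹ = zz ε j) (a : Bool) : (σ (i, a)).1 = j := by
  have h2 := h1 (i, false) (i, true)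
  rw [l.dd_blk i (by simp), hg, ← l.dd_blk j (a := false) (b := true) (by simp)] at h2
  have h3 := l.inj h (by simp) h2
  cases a
  · rcases h3 with h3 | h3
    · rw [← h3.1]
    · rw [← h3.2]
  · rcases h3 with h3 | h3
    · rw [← h3.2]
    · rw [← h3.1]

/-- an element `q` with `f = {c}` acts as the transposition of the two letters of the block `c` -/
theorem act_single {q : G} {c : Fin n}
    (hq : ∀ x, ∑ a, x a = 0 → q * Φ x * q⁻¹ = Φ x * ε (fun i => (Pi.single c 1 : Fin n → ZMod 2) i *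
      (x (i, false) + x (i, true)))) : ActD Φ q (Equiv.swap (c, false) (c, true)) := by
  classical
  intro a b
  rw [hq _ (sum_pr _ _), ← l.blk, ← l.add]
  congr 1
  funext d
  obtain ⟨k, s⟩ := d
  rw [Pi.add_apply]
  simp only [pr_apply]
  obtain ⟨i, α⟩ := a
  obtain ⟨j, β⟩ := b
  by_cases hic : i = c <;> by_cases hjc : j = c <;> by_cases hkc : k = c
  all_goals
    first
    | subst hic
    | skip
  all_goals
    first
    | subst hjc
    | skip
  all_goals
    first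
    | subst hkc
    | skip
  all_goals
    cases α <;> cases β <;> cases s <;>
      simp_all [Equiv.swap_apply_def, two_add, Prod.ext_iff, eq_comm]

/-- the group generated by `N` and `R` -/
def MM (N R : Subgroup G) : Subgroup G := N ⊔ R

omit h l in
theorem N_le (N R : Subgroup G) : N ≤ MM N R := le_sup_left

omit h l in
theorem R_le (N R : Subgroup G) : R ≤ MM N R := le_sup_right

theorem perm_MM (hh : Hvy V ε E) {i j : Fin n} {R : Subgroup G} (hR : Rp V N ε E i j R) {g : G}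
    (hg : g ∈ MM N R) : ∃ σ, ActD Φ g σ := by
  have h1 : MM N R = closure ((N : Set G) ∪ R) := by
    rw [Subgroup.closure_union, Subgroup.closure_eq, Subgroup.closure_eq]
    rfl
  rw [h1] at hg
  refine Subgroup.closure_induction (p := fun g _ => ∃ σ, ActD Φ g σ) ?_ ?_ ?_ ?_ hg
  · rintro g (hg | hg)
    · exact perm_N h l hg
    · exact perm_R h hh l hR hg
  · exact ⟨1, ActD.one Φ⟩
  · rintro g k _ _ ⟨σ, hσ⟩ ⟨τ, hτ⟩
    exact ⟨σ * τ, hσ.mul hτ⟩
  · rintro g _ ⟨σ, hσ⟩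
    exact ⟨σ⁻¹, hσ.inv⟩

/-- an element which permutes the letters normalises `V⁺` -/
theorem ActD.norm {g : G} {σ : Equiv.Perm (Fin n × Bool)} (hg : ActD Φ g σ) {v : G} (hv : v ∈ VE E) :
    g * v * g⁻¹ ∈ VE E := by
  have h1 : VE E ≤ (VE E).comap (MulAut.conj g).toMonoidHom := by
    conv_lhs => unfold VE
    rw [closure_le]
    rintro w ⟨i, j, hij, hw⟩
    change g * w * g⁻¹ ∈ VE E
    by_cases hwV : w ∈ V
    · have h2 := (h.EV i j hij w hw hwV).pair h.ev
      obtain ⟨a, b, rfl⟩ := h2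
      have hz : ∀ m, g * zz ε m * g⁻¹ ∈ VE E := by
        intro m
        rw [← l.dd_blk m (a := false) (b := true) (by simp), hg]
        exact l.mem _
      rcases z01 a with rfl | rfl <;> rcases z01 b with rfl | rfl
      · rw [tt_zero h.ev, mul_one, mul_inv_cancel]
        exact one_mem _
      · rw [tt_zero_one]
        exact hz j
      · rw [tt_one_zero]
        exact hz i
      · rw [tt_one_one h.ev]
        have e : g * rr ε i j * g⁻¹ = (g * zz ε i * g⁻¹) * (g * zz ε j * g⁻¹) := by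
          unfold rr
          group
        rw [e]
        exact mul_mem (hz i) (hz j)
    · obtain ⟨a, b, rfl⟩ := l.pr_surj i j hij w hw hwV
      rw [hg]
      exact l.mem _
  exact h1 hv

omit h l in
/-- swaps -/
theorem swap_trans {H : Subgroup (Equiv.Perm (Fin n × Bool))} {a b c : Fin n × Bool}
    (hab : Equiv.swap a b ∈ H) (hbc : Equiv.swap b c ∈ H) : Equiv.swap a c ∈ H := by
  by_cases h1 : a = b
  · rw [h1]
    exact hbc
  by_cases h2 : b = c
  · rw [← h2]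
    exact hab
  by_cases h3 : a = c
  · rw [h3, Equiv.swap_self]
    exact one_mem _
  have h4 : Equiv.swap a c = Equiv.swap a b * Equiv.swap b c * Equiv.swap a b := by
    have := Equiv.swap_apply_apply (Equiv.swap a b) b c
    rw [Equiv.swap_apply_right, Equiv.swap_apply_of_ne_of_ne (Ne.symm h3) (Ne.symm h2), Equiv.swap_inv] at this
    exact this
  rw [h4]
  exact mul_mem (mul_mem hab hbc) hab

omit h l in
theorem swap_conj {H : Subgroup (Equiv.Perm (Fin n × Bool))} {σ : Equiv.Perm (Fin n × Bool)} (hσ : σ ∈ H)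
    {a b : Fin n × Bool} (hab : Equiv.swap a b ∈ H) : Equiv.swap (σ a) (σ b) ∈ H := by
  rw [Equiv.swap_apply_apply]
  exact mul_mem (mul_mem hσ hab) (inv_mem hσ)

/-- **`⟨N, R⟩` induces `Sym(2n)` on `V⁺`.** -/
theorem sym (hh : Hvy V ε E) {i j : Fin n} {R : Subgroup G} (hR : Rp V N ε E i j R) (hQN : Q ≤ N) {q : G}
    (hq : q ∈ Q) {c : Fin n}
    (hqc : ∀ x, ∑ a, x a = 0 → q * Φ x * q⁻¹ = Φ x * ε (fun i => (Pi.single c 1 : Fin n → ZMod 2) i *
      (x (i, false) + x (i, true)))) (σ : Equiv.Perm (Fin n × Bool)) : ∃ g ∈ MM N R, ActD Φ g σ := by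
  classical
  have hij := hR.ne
  suffices hs : Im Φ (MM N R) = ⊤ by
    have : σ ∈ Im Φ (MM N R) := by rw [hs]; trivial
    exact this
  have s0 : Equiv.swap (c, false) (c, true) ∈ Im Φ (MM N R) :=
    ⟨q, N_le N R (hQN hq), act_single h l hqc⟩
  -- all blocks
  have s1 : ∀ k, Equiv.swap (k, false) (k, true) ∈ Im Φ (MM N R) := by
    intro k
    obtain ⟨g, hg, hσ⟩ := h.ev.full (Equiv.swap c k)
    obtain ⟨τ, hτ⟩ := perm_N h l hg
    have h1 := swap_conj (H := Im Φ (MM N R)) ⟨g, N_le N R hg, hτ⟩ s0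
    have h2 : g * zz ε c * g⁻¹ = zz ε k := by
      rw [zz_conj hσ, Equiv.swap_apply_left]
    have b1 := hτ.blk h l h2 false
    have b2 := hτ.blk h l h2 true
    have hne : τ (c, false) ≠ τ (c, true) := fun e => by
      have := τ.injective e
      simp at this
    revert h1 hne b1 b2
    generalize τ (c, false) = A
    generalize τ (c, true) = B
    obtain ⟨k1, s1⟩ := A
    obtain ⟨k2, s2⟩ := B
    rintro h1 b1 b2
    change k1 = k at b1
    change k2 = k at b2
    subst b1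
    subst b2
    revert h1
    cases s1 <;> cases s2
    · exact fun _ h2 => absurd rfl h2
    · exact fun h1 _ => h1
    · intro h1 _
      rwa [Equiv.swap_comm]
    · exact fun _ h2 => absurd rfl h2
  have s1' : ∀ k s t, Equiv.swap (k, s) (k, t) ∈ Im Φ (MM N R) := by
    intro k s t
    cases s <;> cases t
    · rw [Equiv.swap_self]
      exact one_mem _
    · exact s1 k
    · rw [Equiv.swap_comm]
      exact s1 k
    · rw [Equiv.swap_self]
      exact one_mem _
  -- one mixed transposition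
  obtain ⟨a, b, s2⟩ : ∃ a b, Equiv.swap (i, a) (j, b) ∈ Im Φ (MM N R) := by
    obtain ⟨r, hr, hrV⟩ := hR.mv
    obtain ⟨ρ, hρ⟩ := perm_R h hh l hR hr
    have h1 := hR.RE r hr _ (h.zzE hij).1
    obtain ⟨a, b, hab⟩ := l.pr_surj i j hij _ h1 hrV
    refine ⟨a, b, ?_⟩
    have h2 := hρ (i, false) (i, true)
    rw [l.dd_blk i (by simp), hab] at h2
    have h3 := swap_conj (H := Im Φ (MM N R)) ⟨r, R_le N R hr, hρ⟩ (s1 i)
    rcases l.inj h (fun e => hij (congrArg Prod.fst e)) h2 with h4 | h4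
    · rw [h4.1, h4.2]
      exact h3
    · rw [h4.1, h4.2, Equiv.swap_comm]
      exact h3
  -- all transpositions
  have s3 : ∀ x y : Fin n × Bool, Equiv.swap x y ∈ Im Φ (MM N R) := by
    rintro ⟨k, s⟩ ⟨m, t⟩
    by_cases hkm : k = m
    · subst hkm
      exact s1' k s t
    · obtain ⟨τ, hτ1, hτ2, -⟩ := exists_perm hij hkm
      obtain ⟨g, hg, hσ⟩ := h.ev.full τ
      obtain ⟨ρ, hρ⟩ := perm_N h l hg
      have h1 := swap_conj (H := Im Φ (MM N R)) ⟨g, N_le N R hg, hρ⟩ s2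
      have b1 := hρ.blk h l (i := i) (j := k) (by rw [zz_conj hσ, hτ1]) a
      have b2 := hρ.blk h l (i := j) (j := m) (by rw [zz_conj hσ, hτ2]) b
      revert h1 b1 b2
      generalize ρ (i, a) = A
      generalize ρ (j, b) = B
      obtain ⟨k1, u1⟩ := A
      obtain ⟨k2, u2⟩ := B
      intro h1 b1 b2
      change k1 = k at b1
      change k2 = m at b2
      subst b1
      subst b2
      exact swap_trans (swap_trans (s1' k1 s u1) h1) (s1' k2 u2 t)
  rw [eq_top_iff, ← Equiv.Perm.closure_isSwap, closure_le]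
  rintro _ ⟨x, y, -, rfl⟩
  exact s3 x y

end Cfsg.Agent.Omega.NO3S.SN2.VPlus

end

-- merged: Cfsg.Agent.Mrg.Omega.SQT.RankThree
section

section


/-!
# A group of 3-rank at most 2 has no quotient `S₃ × S₃ × S₃`

* `two_gen` : a 2-subgroup of `GL₂(3)` has no quotient of order 8 and exponent 2;
* `no_surj` : `PRankLE 3 2 Γ` implies that there is no epimorphism `Γ → S₃³` (any kernel);
* `no_act` : the same for a subgroup `X` of `G` acting on three disjoint triples.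
-/

set_option autoImplicit false

namespace Cfsg.Agent.Omega.SQT.RankThree

open Subgroup Cfsg

/-! ### `GL₂(3)` -/

set_option synthInstance.maxHeartbeats 400000 in
set_option synthInstance.maxSize 2000 in
set_option maxRecDepth 100000 in
theorem entries : ∀ x y z w : ZMod 3, x * x + y * z = 1 → x * y + y * w = 0 → z * x + w * z = 0 →
    z * y + w * w = 1 → ¬ (x = 1 ∧ y = 0 ∧ z = 0 ∧ w = 1) → ¬ (x = -1 ∧ y = 0 ∧ z = 0 ∧ w = -1) →
    ∀ x' y' z' w' : ZMod 3, x' * x' + y' * z' = 1 → x' * y' + y' * w' = 0 → z' * x' + w' * z' = 0 →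
    z' * y' + w' * w' = 1 → x * x' + y * z' = x' * x + y' * z → x * y' + y * w' = x' * y + y' * w →
    z * x' + w * z' = z' * x + w' * z → z * y' + w * w' = z' * y + w' * w →
    (x' = 1 ∧ y' = 0 ∧ z' = 0 ∧ w' = 1) ∨ (x' = -1 ∧ y' = 0 ∧ z' = 0 ∧ w' = -1) ∨
      (x' = x ∧ y' = y ∧ z' = z ∧ w' = w) ∨ (x' = -x ∧ y' = -y ∧ z' = -z ∧ w' = -w) := by
  decide

abbrev M2 := Matrix (Fin 2) (Fin 2) (ZMod 3)

theorem mat_eq {a b : M2} (h0 : a 0 0 = b 0 0) (h1 : a 0 1 = b 0 1) (h2 : a 1 0 = b 1 0)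
    (h3 : a 1 1 = b 1 1) : a = b := by
  ext i j
  fin_cases i <;> fin_cases j <;> assumption

theorem mat_comm {a b : M2} (ha : a * a = 1) (hb : b * b = 1) (hab : a * b = b * a) (h1 : a ≠ 1)
    (h2 : a ≠ -1) : b = 1 ∨ b = -1 ∨ b = a ∨ b = -a := by
  have ent : ∀ (c d : M2) (i j : Fin 2), (c * d) i j = c i 0 * d 0 j + c i 1 * d 1 j := by
    intro c d i j
    rw [Matrix.mul_apply, Fin.sum_univ_two]
  have e : ∀ {c d : M2}, c = d → ∀ i j, c i j = d i j := fun h i j => by rw [h]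
  have a00 := e ha 0 0
  have a01 := e ha 0 1
  have a10 := e ha 1 0
  have a11 := e ha 1 1
  have b00 := e hb 0 0
  have b01 := e hb 0 1
  have b10 := e hb 1 0
  have b11 := e hb 1 1
  have c00 := e hab 0 0
  have c01 := e hab 0 1
  have c10 := e hab 1 0
  have c11 := e hab 1 1
  rw [ent] at a00 a01 a10 a11 b00 b01 b10 b11 c00 c01 c10 c11
  rw [ent] at c00 c01 c10 c11
  have o00 : (1 : M2) 0 0 = 1 := rfl
  have o01 : (1 : M2) 0 1 = 0 := rfl
  have o10 : (1 : M2) 1 0 = 0 := rfl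
  have o11 : (1 : M2) 1 1 = 1 := rfl
  have n00 : (-1 : M2) 0 0 = -1 := rfl
  have n01 : (-1 : M2) 0 1 = 0 := rfl
  have n10 : (-1 : M2) 1 0 = 0 := rfl
  have n11 : (-1 : M2) 1 1 = -1 := rfl
  rw [o00] at a00 b00
  rw [o01] at a01 b01
  rw [o10] at a10 b10
  rw [o11] at a11 b11
  rcases entries (a 0 0) (a 0 1) (a 1 0) (a 1 1) a00 a01 a10 a11
    (fun h => h1 (mat_eq h.1 h.2.1 h.2.2.1 h.2.2.2)) (fun h => h2 (mat_eq h.1 h.2.1 h.2.2.1 h.2.2.2))
    (b 0 0) (b 0 1) (b 1 0) (b 1 1) b00 b01 b10 b11 c00 c01 c10 c11 with h | h | h | h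
  · exact Or.inl (mat_eq h.1 h.2.1 h.2.2.1 h.2.2.2)
  · exact Or.inr (Or.inl (mat_eq h.1 h.2.1 h.2.2.1 h.2.2.2))
  · exact Or.inr (Or.inr (Or.inl (mat_eq h.1 h.2.1 h.2.2.1 h.2.2.2)))
  · exact Or.inr (Or.inr (Or.inr (mat_eq h.1 h.2.1 h.2.2.1 h.2.2.2)))

theorem card_le_four (F : Subgroup M2ˣ) (h1 : ∀ a ∈ F, a * a = 1)
    (h2 : ∀ a ∈ F, ∀ b ∈ F, a * b = b * a) : Nat.card F ≤ 4 := by
  classical
  have key : ∃ a : M2ˣ, (F : Set M2ˣ) ⊆ {1, -1, a, -a} := by
    by_cases hc : ∃ a ∈ F, a ≠ 1 ∧ a ≠ -1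
    · obtain ⟨a, ha, ha1, ha2⟩ := hc
      refine ⟨a, fun b hb => ?_⟩
      have e1 : (a : M2) * a = 1 := by
        have := congrArg Units.val (h1 a ha)
        exact this
      have e2 : (b : M2) * b = 1 := congrArg Units.val (h1 b hb)
      have e3 : (a : M2) * b = b * a := congrArg Units.val (h2 a ha b hb)
      have n1 : (a : M2) ≠ 1 := fun h => ha1 (Units.ext h)
      have n2 : (a : M2) ≠ -1 := fun h => ha2 (Units.ext h)
      rcases mat_comm e1 e2 e3 n1 n2 with h | h | h | h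
      · exact Or.inl (Units.ext h)
      · exact Or.inr (Or.inl (Units.ext h))
      · exact Or.inr (Or.inr (Or.inl (Units.ext h)))
      · exact Or.inr (Or.inr (Or.inr (Units.ext h)))
    · push Not at hc
      refine ⟨1, fun b hb => ?_⟩
      by_cases hb1 : b = 1
      · exact Or.inl hb1
      · exact Or.inr (Or.inl (hc b hb hb1))
  obtain ⟨a, ha⟩ := key
  have e1 : Nat.card F = (F : Set M2ˣ).ncard := rfl
  rw [e1]
  have h4 : ({1, -1, a, -a} : Set M2ˣ) = (({1, -1, a, -a} : Finset M2ˣ) : Set M2ˣ) := by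
    ext x; simp
  calc (F : Set M2ˣ).ncard ≤ ({1, -1, a, -a} : Set M2ˣ).ncard := Set.ncard_le_ncard ha (Set.toFinite _)
    _ = ({1, -1, a, -a} : Finset M2ˣ).card := by rw [h4, Set.ncard_coe_finset]
    _ ≤ 4 := Finset.card_le_four

theorem card_gl : Nat.card M2ˣ = 48 := by
  have := Matrix.card_GL_field (𝔽 := ZMod 3) 2
  have e : Nat.card (GL (Fin 2) (ZMod 3)) = 48 := by
    rw [this, Fin.prod_univ_two]
    simp
  exact e

/-- An element of order 8. -/
theorem exists_eight : ∃ g : M2ˣ, orderOf g = 8 := by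
  have h1 : (!![0, 1; 1, 2] : M2) * !![1, 1; 1, 0] = 1 := by decide
  have h2 : (!![1, 1; 1, 0] : M2) * !![0, 1; 1, 2] = 1 := by decide
  let g : M2ˣ := ⟨!![0, 1; 1, 2], !![1, 1; 1, 0], h1, h2⟩
  refine ⟨g, ?_⟩
  have h4 : g ^ 2 ^ 2 ≠ 1 := by
    intro h
    have := congrArg Units.val h
    rw [Units.val_pow_eq_pow_val] at this
    change (!![0, 1; 1, 2] : M2) ^ 2 ^ 2 = 1 at this
    revert this
    decide
  have h8 : g ^ 2 ^ (2 + 1) = 1 := by
    apply Units.ext
    rw [Units.val_pow_eq_pow_val]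
    change (!![0, 1; 1, 2] : M2) ^ 2 ^ (2 + 1) = 1
    decide
  exact orderOf_eq_prime_pow h4 h8

theorem sq_eq_one (s : Fin 3 → ℤˣ) : s * s = 1 := by
  ext j
  simp

/-- A 2-subgroup of `GL₂(3)` has no quotient of order 8 and exponent 2. -/
theorem two_gen {B : Type*} [Group B] [Finite B] (hB : IsPGroup 2 B) (f : B →* M2)
    (ψ : B →* (Fin 3 → ℤˣ)) (hψ : Function.Surjective ψ) (hk : ∀ b, f b = 1 → ψ b = 1) : False := by
  classical
  have h2 : Fact (Nat.Prime 2) := ⟨Nat.prime_two⟩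
  let f' : B →* M2ˣ := f.toHomUnits
  have hf' : ∀ b, (f' b : M2) = f b := fun b => MonoidHom.coe_toHomUnits f b
  have hle : f'.ker ≤ ψ.ker := fun b hb => MonoidHom.mem_ker.mpr (hk b (by
    rw [← hf', MonoidHom.mem_ker.mp hb]; rfl))
  have hi : ψ.ker.index = 8 := by
    rw [Subgroup.index_ker, MonoidHom.range_eq_top.mpr hψ, Subgroup.card_top, Nat.card_pi]
    simp
  have hif : f'.ker.index = Nat.card f'.range := Subgroup.index_ker f'
  have hrel : f'.ker.relIndex ψ.ker * 8 = f'.ker.index := by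
    rw [← hi]; exact relIndex_mul_index hle
  have hFp : IsPGroup 2 f'.range := hB.of_surjective f'.rangeRestrict f'.rangeRestrict_surjective
  obtain ⟨k, hk'⟩ := IsPGroup.iff_card.mp hFp
  have hd : Nat.card f'.range ∣ 48 := by rw [← card_gl]; exact Subgroup.card_subgroup_dvd_card _
  have hsq : ∀ b : B, b * b ∈ ψ.ker := fun b => MonoidHom.mem_ker.mpr (by
    rw [map_mul]; exact sq_eq_one _)
  have hcm : ∀ a b : B, a * b * (b * a)⁻¹ ∈ ψ.ker := fun a b => MonoidHom.mem_ker.mpr (by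
    rw [map_mul, map_inv, map_mul, map_mul, mul_comm (ψ b), mul_inv_cancel])
  have hk4 : k ≤ 4 := by
    rw [hk'] at hd
    by_contra hc
    have h5 : 2 ^ 5 ∣ 48 := (pow_dvd_pow 2 (by omega : 5 ≤ k)).trans hd
    norm_num at h5
  have hk3 : 3 ≤ k := by
    by_contra hc
    have h5 : 2 ^ k < 8 := by
      calc 2 ^ k ≤ 2 ^ 2 := Nat.pow_le_pow_right (by norm_num) (by omega)
        _ < 8 := by norm_num
    have h6 : 0 < f'.ker.relIndex ψ.ker := Nat.pos_of_ne_zero fun h => by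
      rw [h, zero_mul] at hrel
      rw [← hrel] at hif
      exact Nat.card_pos.ne' hif.symm
    have h7 : f'.ker.index < 8 := by rw [hif, hk']; exact h5
    omega
  have hk34 : k = 3 ∨ k = 4 := by omega
  rcases hk34 with rfl | rfl
  · -- the kernels coincide
    have h5 : f'.ker.relIndex ψ.ker = 1 := by
      rw [hif, hk'] at hrel
      omega
    have h6 : ψ.ker ≤ f'.ker := relIndex_eq_one.mp h5
    have h7 := card_le_four f'.range (by
      rintro _ ⟨b, rfl⟩
      rw [← map_mul]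
      exact MonoidHom.mem_ker.mp (h6 (hsq b))) (by
      rintro _ ⟨a, rfl⟩ _ ⟨b, rfl⟩
      have := MonoidHom.mem_ker.mp (h6 (hcm a b))
      rw [map_mul, map_inv, mul_inv_eq_one, map_mul, map_mul] at this
      exact this)
    rw [hk'] at h7
    norm_num at h7
  · -- a Sylow 2-subgroup
    have h5 : f'.ker.relIndex ψ.ker = 2 := by
      rw [hif, hk'] at hrel
      omega
    have hni : ¬ 2 ∣ f'.range.index := by
      intro hd2
      have h6 := f'.range.card_mul_index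
      rw [card_gl, hk'] at h6
      omega
    let F : Sylow 2 M2ˣ := hFp.toSylow hni
    obtain ⟨g, hg⟩ := exists_eight
    have hgp : IsPGroup 2 (zpowers g) := by
      rw [IsPGroup.iff_card, Nat.card_zpowers, hg]
      exact ⟨3, by norm_num⟩
    obtain ⟨T, hT⟩ := hgp.exists_le_sylow
    obtain ⟨x, hx⟩ := MulAction.exists_smul_eq M2ˣ T F
    have h6 : x * g * x⁻¹ ∈ (F : Subgroup M2ˣ) := by
      rw [← hx]
      exact Subgroup.smul_mem_pointwise_smul _ (MulAut.conj x) (T : Subgroup M2ˣ) (hT (mem_zpowers _))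
    obtain ⟨b, hb⟩ : x * g * x⁻¹ ∈ f'.range := h6
    have h7 : (b * b) * (b * b) ∈ f'.ker := by
      have h8 := Subgroup.sq_mem_of_index_two (H := f'.ker.subgroupOf ψ.ker) h5 ⟨b * b, hsq b⟩
      rw [mem_subgroupOf] at h8
      rw [← pow_two]
      exact h8
    have h8 : g ^ 4 = 1 := by
      have h9 : f' ((b * b) * (b * b)) = x * g ^ 4 * x⁻¹ := by
        have h10 : ∀ a : M2ˣ, (a * a) * (a * a) = a ^ 4 := fun a => by
          rw [← pow_two, ← pow_two, ← pow_mul]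
        rw [map_mul, map_mul, hb, h10, conj_pow]
      rw [MonoidHom.mem_ker.mp h7] at h9
      calc g ^ 4 = x⁻¹ * (x * g ^ 4 * x⁻¹) * x := by group
        _ = 1 := by rw [← h9]; group
    have h9 := orderOf_dvd_of_pow_eq_one h8
    rw [hg] at h9
    norm_num at h9

/-! ### Quotients `S₃³` -/

open Cfsg.Agent.Omega.SQT.RankAbs

/-- A group of 3-rank at most 2 has no quotient `S₃ × S₃ × S₃`. -/
theorem no_surj {Γ : Type*} [Group Γ] [Finite Γ] (hr : PRankLE 3 2 Γ)
    (φ : Γ →* (Fin 3 → Equiv.Perm (Fin 3))) (hφ : Function.Surjective φ) : False := by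
  classical
  have h2 : Fact (Nat.Prime 2) := ⟨Nat.prime_two⟩
  have h3 : Fact (Nat.Prime 3) := ⟨Nat.prime_three⟩
  -- the signs
  let sg : (Fin 3 → Equiv.Perm (Fin 3)) →* (Fin 3 → ℤˣ) :=
    { toFun := fun σ j => Equiv.Perm.sign (σ j)
      map_one' := by ext j; simp
      map_mul' := by intro σ τ; ext j; simp }
  have hsg : Function.Surjective sg := by
    intro s
    choose f hf using fun j => Equiv.Perm.sign_surjective (Fin 3) (s j)
    exact ⟨f, funext hf⟩
  set ψ : Γ →* (Fin 3 → ℤˣ) := sg.comp φ with hψ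
  have hψs : Function.Surjective ψ := hsg.comp hφ
  set Y : Subgroup Γ := ψ.ker with hY
  have memY : ∀ g : Γ, g ∈ Y ↔ ∀ j, Equiv.Perm.sign (φ g j) = 1 := by
    intro g
    rw [hY, MonoidHom.mem_ker]
    constructor
    · intro h j
      exact congrFun h j
    · intro h
      exact funext h
  -- a Sylow 3-subgroup of `Y`
  obtain ⟨R0⟩ : Nonempty (Sylow 3 Y) := inferInstance
  set R : Subgroup Γ := (R0 : Subgroup Y).map Y.subtype with hR
  have hRp : IsPGroup 3 R := R0.isPGroup'.map _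
  have hfr : normalizer (R : Set Γ) ⊔ Y = ⊤ := Sylow.normalizer_sup_eq_top R0
  -- `R` covers the 3-cycles
  have hcov : ∀ j, ∃ z ∈ R, Equiv.Perm.sign (φ z j) = 1 ∧ φ z j ≠ 1 := by
    intro j
    obtain ⟨c, hc1, hc2, hc3⟩ := exists_cyc
    obtain ⟨y, hy⟩ := hφ (Pi.mulSingle j c)
    have hyY : y ∈ Y := by
      rw [memY]
      intro i
      rw [hy]
      by_cases h : i = j
      · subst h; rw [Pi.mulSingle_eq_same]; exact hc1
      · rw [Pi.mulSingle_apply, if_neg h, map_one]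
    -- the 3-part of `y`
    obtain ⟨a, l, hl, hal⟩ := Nat.exists_eq_pow_mul_and_not_dvd (n := orderOf y) (orderOf_pos y).ne' 3
      (by norm_num)
    set x : Γ := y ^ l with hx
    have hx3 : x ^ 3 ^ a = 1 := by
      rw [hx, ← pow_mul, mul_comm, ← hal, pow_orderOf_eq_one]
    have hxY : x ∈ Y := Y.pow_mem hyY l
    have hxp : IsPGroup 3 (zpowers (⟨x, hxY⟩ : Y)) := by
      rw [IsPGroup.iff_card, Nat.card_zpowers]
      have h4 : orderOf (⟨x, hxY⟩ : Y) ∣ 3 ^ a := orderOf_dvd_of_pow_eq_one (Subtype.ext hx3)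
      obtain ⟨k, -, hk⟩ := (Nat.dvd_prime_pow Nat.prime_three).1 h4
      exact ⟨k, hk⟩
    obtain ⟨T, hT⟩ := hxp.exists_le_sylow
    obtain ⟨g, hg⟩ := MulAction.exists_smul_eq Y T R0
    have h5 : g * ⟨x, hxY⟩ * g⁻¹ ∈ (R0 : Subgroup Y) := by
      rw [← hg]
      exact Subgroup.smul_mem_pointwise_smul _ (MulAut.conj g) (T : Subgroup Y) (hT (mem_zpowers _))
    refine ⟨(g : Γ) * x * (g : Γ)⁻¹, ⟨_, h5, rfl⟩, ?_⟩
    have h6 : φ ((g : Γ) * x * (g : Γ)⁻¹) j = c ^ l := by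
      rw [map_mul, map_mul, map_inv, hx, map_pow, hy]
      change φ g j * ((Pi.mulSingle j c : Fin 3 → Equiv.Perm (Fin 3)) ^ l) j * (φ g j)⁻¹ = c ^ l
      rw [Pi.pow_apply, Pi.mulSingle_eq_same]
      have h7 : Equiv.Perm.sign (φ g j) = 1 := (memY g).1 g.2 j
      have h8 : Equiv.Perm.sign (c ^ l) = 1 := by rw [map_pow, hc1, one_pow]
      rw [perm_comm _ _ h7 h8, mul_inv_cancel_right]
    refine ⟨by rw [h6, map_pow, hc1, one_pow], ?_⟩
    rw [h6]
    intro h7
    have h8 := orderOf_dvd_of_pow_eq_one h7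
    rw [hc3] at h8
    exact hl h8
  -- a Sylow 2-subgroup of `N(R)`
  set N : Subgroup Γ := normalizer (R : Set Γ) with hN
  obtain ⟨B0⟩ : Nonempty (Sylow 2 N) := inferInstance
  have hNs : Function.Surjective (ψ.comp N.subtype) := by
    intro s
    obtain ⟨g, hg⟩ := hψs s
    have h4 : g ∈ ((N ⊔ Y : Subgroup Γ) : Set Γ) := by rw [hfr]; trivial
    have hYn : Y.Normal := MonoidHom.normal_ker ψ
    rw [mul_normal] at h4
    obtain ⟨n, hn, y, hy, rfl⟩ := h4
    refine ⟨⟨n, hn⟩, ?_⟩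
    change ψ n = s
    rw [← hg]
    change ψ n = ψ (n * y)
    rw [map_mul, MonoidHom.mem_ker.mp hy, mul_one]
  have hBs : Function.Surjective ((ψ.comp N.subtype).comp (B0 : Subgroup N).subtype) := by
    intro s
    have h4 : ((B0.mapSurjective hNs : Sylow 2 (Fin 3 → ℤˣ)) : Subgroup (Fin 3 → ℤˣ)) = ⊤ := by
      have h5 : IsPGroup 2 (⊤ : Subgroup (Fin 3 → ℤˣ)) := by
        rintro ⟨x, hx⟩
        exact ⟨1, Subtype.ext (by
          rw [pow_one]
          change x ^ 2 = 1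
          rw [pow_two]; exact sq_eq_one x)⟩
      exact ((B0.mapSurjective hNs).is_maximal' h5 le_top).symm
    have h5 : s ∈ ((B0.mapSurjective hNs : Sylow 2 (Fin 3 → ℤˣ)) : Subgroup (Fin 3 → ℤˣ)) := by
      rw [h4]; trivial
    rw [Sylow.coe_mapSurjective] at h5
    obtain ⟨b, hb, e⟩ := h5
    exact ⟨⟨b, hb⟩, e⟩
  -- the action of `N` on `R`
  let θ : N →* MulAut R := R.normalizerMonoidHom
  obtain ⟨ρ, hρ⟩ := Cfsg.Agent.OddOrderLocal.RankTwoRep.exists_rep (p := 3) (by norm_num) hRp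
    (Sec.Reduce.prankLE_of_injective R.subtype R.subtype_injective hr)
  refine two_gen B0.isPGroup' ((ρ.comp θ).comp (B0 : Subgroup N).subtype)
    ((ψ.comp N.subtype).comp (B0 : Subgroup N).subtype) hBs fun b hb => ?_
  -- `b` centralises `R`
  have h4 : θ (b : N) = 1 := by
    refine hρ _ ?_ hb
    obtain ⟨k, hk⟩ := B0.isPGroup' b
    have h5 : θ (b : N) ^ 2 ^ k = 1 := by
      rw [← map_pow]
      have h6 : (b : N) ^ 2 ^ k = 1 := congrArg Subtype.val hk
      rw [h6, map_one]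
    exact Nat.Coprime.of_dvd_left (orderOf_dvd_of_pow_eq_one h5) (Nat.Coprime.pow_left k (by norm_num))
  have h5 : ((b : N) : Γ) ∈ centralizer (R : Set Γ) := by
    have h6 : (b : N) ∈ R.normalizerMonoidHom.ker := MonoidHom.mem_ker.mpr h4
    rw [normalizerMonoidHom_ker, mem_subgroupOf] at h6
    exact h6
  rw [mem_centralizer_iff] at h5
  have h6 : ((b : N) : Γ) ∈ Y := by
    rw [memY]
    intro j
    obtain ⟨z, hz, hz1, hz2⟩ := hcov j
    refine perm_sign (φ z j) (φ ((b : N) : Γ) j) hz1 hz2 ?_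
    have := congrFun (congrArg φ (h5 z hz)) j
    rw [map_mul, map_mul] at this
    exact this.symm
  exact MonoidHom.mem_ker.mp h6

/-! ### Three triples -/

variable {G : Type*} [Group G]

/-- `g` acts on the triples `d i` by `A i`. -/
def Act (d : Fin 3 → Fin 3 → G) (g : G) (A : Fin 3 → Equiv.Perm (Fin 3)) : Prop :=
  ∀ i a, g * d i a * g⁻¹ = d i (A i a)

theorem Act.one (d : Fin 3 → Fin 3 → G) : Act d 1 1 := fun i a => by
  rw [one_mul, inv_one, mul_one]; rfl

theorem Act.mul {d : Fin 3 → Fin 3 → G} {g h : G} {A B : Fin 3 → Equiv.Perm (Fin 3)} (hg : Act d g A)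
    (hh : Act d h B) : Act d (g * h) (A * B) := fun i a => by
  have e : g * h * d i a * (g * h)⁻¹ = g * (h * d i a * h⁻¹) * g⁻¹ := by group
  rw [e, hh, hg]; rfl

theorem Act.inv {d : Fin 3 → Fin 3 → G} {g : G} {A : Fin 3 → Equiv.Perm (Fin 3)} (hg : Act d g A) :
    Act d g⁻¹ A⁻¹ := fun i a => by
  have h1 := hg i ((A i)⁻¹ a)
  have e : A i ((A i)⁻¹ a) = a := Equiv.apply_symm_apply (A i) a
  rw [e] at h1
  rw [← h1]
  change g⁻¹ * (g * d i ((A i)⁻¹ a) * g⁻¹) * g⁻¹⁻¹ = d i ((A i)⁻¹ a)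
  group

/-- The elements of `C` acting on the three triples. -/
def X (C : Subgroup G) (d : Fin 3 → Fin 3 → G) : Subgroup G where
  carrier := {g | g ∈ C ∧ ∃ A, Act d g A}
  one_mem' := ⟨C.one_mem, 1, Act.one d⟩
  mul_mem' := by
    rintro a b ⟨ha, A, hA⟩ ⟨hb, B, hB⟩
    exact ⟨C.mul_mem ha hb, A * B, hA.mul hB⟩
  inv_mem' := by
    rintro a ⟨ha, A, hA⟩
    exact ⟨C.inv_mem ha, A⁻¹, hA.inv⟩

theorem swaps : ∀ σ : Equiv.Perm (Fin 3), σ = 1 ∨ σ = Equiv.swap 1 2 ∨ σ = Equiv.swap 0 2 ∨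
    σ = Equiv.swap 1 2 * Equiv.swap 0 2 ∨ σ = Equiv.swap 0 2 * Equiv.swap 1 2 ∨
    σ = Equiv.swap 1 2 * Equiv.swap 0 2 * Equiv.swap 1 2 := by decide

/-- **Three triples.** -/
theorem no_act [Finite G] (hr : PRankLE 3 2 G) (C : Subgroup G) (d : Fin 3 → Fin 3 → G)
    (hd : ∀ i, Function.Injective (d i))
    (h1 : ∀ i, ∃ g ∈ C, Act d g (Pi.mulSingle i (Equiv.swap 1 2)))
    (h2 : ∀ i, ∃ g ∈ C, Act d g (Pi.mulSingle i (Equiv.swap 0 2))) : False := by
  classical
  have uniq : ∀ (g : G) (A B : Fin 3 → Equiv.Perm (Fin 3)), Act d g A → Act d g B → A = B := by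
    intro g A B hA hB
    funext i
    ext a
    have h3 := hA i a
    rw [hB i a] at h3
    exact congrArg _ (hd i h3).symm
  let φ : X C d →* (Fin 3 → Equiv.Perm (Fin 3)) :=
    { toFun := fun g => g.2.2.choose
      map_one' := uniq 1 _ _ (1 : X C d).2.2.choose_spec (Act.one d)
      map_mul' := fun a b => uniq (a * b) _ _ (a * b).2.2.choose_spec
        (a.2.2.choose_spec.mul b.2.2.choose_spec) }
  have hφ : ∀ g : X C d, Act d g (φ g) := fun g => g.2.2.choose_spec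
  refine no_surj (Sec.Reduce.prankLE_of_injective (X C d).subtype (X C d).subtype_injective hr) φ ?_
  have key : ∀ A, (∃ g ∈ C, Act d g A) → A ∈ φ.range := by
    rintro A ⟨g, hg, hA⟩
    exact ⟨⟨g, hg, A, hA⟩, uniq g _ _ (hφ ⟨g, hg, A, hA⟩) hA⟩
  have k1 : ∀ i, ∀ σ : Equiv.Perm (Fin 3), (Pi.mulSingle i σ : Fin 3 → Equiv.Perm (Fin 3)) ∈ φ.range := by
    intro i σ
    have a1 := key _ (h1 i)
    have a2 := key _ (h2 i)
    have ms : ∀ σ τ : Equiv.Perm (Fin 3), (Pi.mulSingle i σ : Fin 3 → Equiv.Perm (Fin 3)) *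
        Pi.mulSingle i τ = Pi.mulSingle i (σ * τ) := fun σ τ => by
      rw [← Pi.mulSingle_mul]
    rcases swaps σ with h | h | h | h | h | h <;> rw [h]
    · rw [Pi.mulSingle_one]; exact one_mem _
    · exact a1
    · exact a2
    · rw [← ms]; exact mul_mem a1 a2
    · rw [← ms]; exact mul_mem a2 a1
    · rw [← ms, ← ms]; exact mul_mem (mul_mem a1 a2) a1
  intro A
  have e : A = Pi.mulSingle 0 (A 0) * Pi.mulSingle 1 (A 1) * Pi.mulSingle 2 (A 2) := by
    funext i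
    fin_cases i <;> simp
  have h5 : A ∈ φ.range := by
    rw [e]
    exact mul_mem (mul_mem (k1 0 _) (k1 1 _)) (k1 2 _)
  exact h5

end Cfsg.Agent.Omega.SQT.RankThree

end

section


/-!
# LightL / SN.Two for `m_3(G) ≤ 2` (`K = QK`; helper534 #23321)

**`rank_false`** : the situation of `sym` is impossible in a group of 3-rank at most 2 (`Sym(10) ≥ S₃ × S₃ × S₃`).
-/

set_option autoImplicit false
set_option linter.unusedSectionVars false

namespace Cfsg.Agent.Omega.NO3S.SN2.VPlus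

open Subgroup Cfsg Cfsg.Agent.Omega.S5.Def Cfsg.Agent.Omega.NSix.Base Cfsg.Agent.Omega.NSix.Basic

universe u

variable {G : Type u} [Group G] {n : ℕ} {V Q N : Subgroup G} {ε : (Fin n → ZMod 2) → G}
  {E : Fin n → Fin n → Subgroup G} {Φ : (Fin n × Bool → ZMod 2) → G}

theorem rank_false [Finite G] (hr : PRankLE 3 2 G) (h : Dt V Q N ε E) (l : Lt V Q ε E Φ) {M : Subgroup G}
    (hs : ∀ σ : Equiv.Perm (Fin n × Bool), ∃ g ∈ M, ActD Φ g σ) : False := by
  classical
  obtain ⟨ι⟩ : Nonempty ((Fin 3 × Fin 3) ↪ (Fin n × Bool)) := by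
    apply Function.Embedding.nonempty_of_card_le
    rw [Fintype.card_prod, Fintype.card_prod, Fintype.card_fin, Fintype.card_fin, Fintype.card_bool]
    have := h.five
    omega
  let d : Fin 3 → Fin 3 → G := fun i a => Φ (pr (ι (i, a + 1)) (ι (i, a + 2)))
  have key : ∀ i (τ : Equiv.Perm (Fin 3)), ∃ g ∈ M, SQT.RankThree.Act d g (Pi.mulSingle i τ) := by
    intro i τ
    let ρ : Equiv.Perm (Fin 3 × Fin 3) := Equiv.prodCongrRight (Pi.mulSingle i τ)
    obtain ⟨g, hg, hσ⟩ := hs (ρ.viaEmbedding ι)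
    refine ⟨g, hg, fun j a => ?_⟩
    change g * Φ (pr (ι (j, a + 1)) (ι (j, a + 2))) * g⁻¹ = Φ (pr (ι (j, _ + 1)) (ι (j, _ + 2)))
    rw [hσ, Equiv.Perm.viaEmbedding_apply, Equiv.Perm.viaEmbedding_apply]
    change Φ (pr (ι (j, (Pi.mulSingle i τ : Fin 3 → Equiv.Perm (Fin 3)) j (a + 1)))
      (ι (j, (Pi.mulSingle i τ : Fin 3 → Equiv.Perm (Fin 3)) j (a + 2)))) = _
    generalize (Pi.mulSingle i τ : Fin 3 → Equiv.Perm (Fin 3)) j = θ
    have h1 : ∀ (θ : Equiv.Perm (Fin 3)) (a : Fin 3), (θ (a + 1) = θ a + 1 ∧ θ (a + 2) = θ a + 2) ∨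
        (θ (a + 1) = θ a + 2 ∧ θ (a + 2) = θ a + 1) := by decide
    rcases h1 θ a with h2 | h2
    · rw [h2.1, h2.2]
    · rw [h2.1, h2.2, pr_comm]
  refine SQT.RankThree.no_act hr M d ?_ (fun i => key i _) (fun i => key i _)
  intro i a b hab
  have hne : ∀ a : Fin 3, a + 1 ≠ a + 2 := by decide
  have h1 := l.inj h (fun e => hne a (congrArg Prod.snd (ι.injective e))) hab
  have h2 : (a + 1 = b + 1 ∧ a + 2 = b + 2) ∨ (a + 1 = b + 2 ∧ a + 2 = b + 1) := by
    rcases h1 with h1 | h1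
    · exact Or.inl ⟨congrArg Prod.snd (ι.injective h1.1), congrArg Prod.snd (ι.injective h1.2)⟩
    · exact Or.inr ⟨congrArg Prod.snd (ι.injective h1.1), congrArg Prod.snd (ι.injective h1.2)⟩
  revert h2
  clear * -
  revert a b
  decide

end Cfsg.Agent.Omega.NO3S.SN2.VPlus

end

end

-- merged: Cfsg.Agent.Mrg.Omega.SQT.NoThree
section

/-!
# Project SQT: the blocks of `V*` for `m_3(G) ≤ 2` (helper949)

* `Tri E N d` : `E` induces `S₃` on the triple `d` in `N`;
* `three_blocks` : there are no three commuting triples;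
* `Lett.tri` : a block `Sym(Ω)`, `|Ω| ≥ 3`, has a triple;
* `Lett.lt_nine` : `|Ω| < 9`;  `Lett.lt_six` : `|Ω| < 6` if there is a second block;
* **`Dec.small`** : a block decomposition has at most two blocks, of at most five letters if there are two of them, of
  at most seven letters if there is one.
-/

set_option autoImplicit false
set_option linter.unusedSectionVars false

namespace Cfsg.Agent.Omega.SQT.NoThree

open Subgroup Cfsg
open Cfsg.Agent.Omega.SQT.RankThree (Act no_act)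
open Cfsg.Agent.Omega.KL.TwoS (Lett Rel)
open Cfsg.Agent.Omega.NOThreeL.RRed.Blk (Dec)

universe u v w

variable {G : Type u} [Group G]

/-- `E` induces `S₃` on the triple `d` in `N` -/
structure Tri (E N : Subgroup G) (d : Fin 3 → G) : Prop where
  inj : Function.Injective d
  mem : ∀ a, d a ∈ N
  s : ∃ g ∈ E, ∀ a, g * d a * g⁻¹ = d (Equiv.swap 1 2 a)
  t : ∃ g ∈ E, ∀ a, g * d a * g⁻¹ = d (Equiv.swap 0 2 a)

theorem cent {W : Subgroup G} {g : G} (hg : g ∈ centralizer (W : Set G)) {x : G} (hx : x ∈ W) :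
    g * x * g⁻¹ = x := by
  rw [← mem_centralizer_iff.1 hg x hx]; group

/-- **Three commuting triples** do not exist if `m_3(G) ≤ 2`. -/
theorem three_blocks [Finite G] (hr : PRankLE 3 2 G) (E N : Fin 3 → Subgroup G)
    (hc : ∀ i j, i ≠ j → E i ≤ centralizer (N j : Set G)) (d : Fin 3 → Fin 3 → G)
    (hd : ∀ i, Tri (E i) (N i) (d i)) : False := by
  have key : ∀ (i : Fin 3) (σ : Equiv.Perm (Fin 3)), (∃ g ∈ E i, ∀ a, g * d i a * g⁻¹ = d i (σ a)) →
      ∃ g ∈ (⊤ : Subgroup G), Act d g (Pi.mulSingle i σ) := by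
    rintro i σ ⟨g, hg, h⟩
    refine ⟨g, mem_top _, fun j a => ?_⟩
    rcases eq_or_ne j i with rfl | hj
    · rw [Pi.mulSingle_eq_same]; exact h a
    · rw [Pi.mulSingle_eq_of_ne hj, cent (hc i j hj.symm hg) ((hd j).mem a)]
      rfl
  exact no_act hr ⊤ d (fun i => (hd i).inj) (fun i => key i _ (hd i).s) fun i => key i _ (hd i).t

section lett

variable {Ω : Type w} [Fintype Ω] [DecidableEq Ω] {V R : Subgroup G} {φ : Finset Ω → G}

/-- the pair of letters opposite to `a` -/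
def pr (e : Fin 3 ↪ Ω) (a : Fin 3) : Finset Ω := (Finset.univ.erase a).map e

theorem even_pr (e : Fin 3 ↪ Ω) (a : Fin 3) : Even (pr e a).card := by
  rw [pr, Finset.card_map, Finset.card_erase_of_mem (Finset.mem_univ _), Finset.card_univ, Fintype.card_fin]
  decide

theorem map_pr (e : Fin 3 ↪ Ω) (σ : Equiv.Perm (Fin 3)) (τ : Equiv.Perm Ω) (h : ∀ a, τ (e a) = e (σ a)) (a : Fin 3) :
    (pr e a).map τ.toEmbedding = pr e (σ a) := by
  ext x
  simp only [pr, Finset.mem_map, Finset.mem_erase, Finset.mem_univ, and_true, Equiv.coe_toEmbedding]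
  constructor
  · rintro ⟨_, ⟨b, hb, rfl⟩, rfl⟩
    exact ⟨σ b, fun he => hb (σ.injective he), (h b).symm⟩
  · rintro ⟨b, hb, rfl⟩
    refine ⟨e (σ⁻¹ b), ⟨σ⁻¹ b, fun he => hb ?_, rfl⟩, ?_⟩
    · rw [← he]; exact (Equiv.apply_symm_apply σ b).symm
    · rw [h]; exact congrArg e (Equiv.apply_symm_apply σ b)

theorem map_pr_of_disj (e e' : Fin 3 ↪ Ω) (σ : Equiv.Perm (Fin 3)) (h : ∀ a b, e a ≠ e' b) (a : Fin 3) :
    (pr e' a).map (σ.viaFintypeEmbedding e).toEmbedding = pr e' a := by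
  have h1 : ∀ b, (σ.viaFintypeEmbedding e) (e' b) = e' b := fun b => by
    refine Equiv.Perm.viaFintypeEmbedding_apply_notMem_range σ e ?_
    rintro ⟨a, ha⟩
    exact h a b ha
  exact map_pr e' 1 _ h1 a

theorem inj_pr (L : Lett V R φ) (e : Fin 3 ↪ Ω) : Function.Injective fun a => φ (pr e a) := by
  intro a b hab
  by_contra hne
  have hab' : φ (pr e a) = φ (pr e b) := hab
  have h1 : φ (symmDiff (pr e a) (pr e b)) = 1 := by
    rw [L.mul, hab', ← L.mul, symmDiff_self, Finset.bot_eq_empty, L.phi_empty]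
  have h2 := L.inj _ (Cfsg.Agent.Omega.KL.TwoS.even_symmDiff (even_pr e a) (even_pr e b)) h1
  have h3 : pr e a = pr e b := symmDiff_eq_bot.1 h2
  have h4 : e b ∈ pr e a := Finset.mem_map.2 ⟨b, Finset.mem_erase.2 ⟨fun h => hne h.symm, Finset.mem_univ _⟩, rfl⟩
  rw [h3] at h4
  obtain ⟨c, hc, he⟩ := Finset.mem_map.1 h4
  exact (Finset.mem_erase.1 hc).1 (e.injective he)

/-- an element which permutes the letters of one triple -/
theorem exists_rel (L : Lett V R φ) (e : Fin 3 ↪ Ω) (σ : Equiv.Perm (Fin 3)) :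
    ∃ g ∈ R, (∀ a, g * φ (pr e a) * g⁻¹ = φ (pr e (σ a))) ∧
      ∀ e' : Fin 3 ↪ Ω, (∀ a b, e a ≠ e' b) → ∀ a, g * φ (pr e' a) * g⁻¹ = φ (pr e' a) := by
  obtain ⟨g, hg, h⟩ := L.all (σ.viaFintypeEmbedding e)
  refine ⟨g, hg, fun a => ?_, fun e' he a => ?_⟩
  · rw [h _ (even_pr e a), map_pr e σ _ (fun b => Equiv.Perm.viaFintypeEmbedding_apply_image σ e b)]
  · rw [h _ (even_pr e' a), map_pr_of_disj e e' σ he]

theorem mem_pr (L : Lett V R φ) (e : Fin 3 ↪ Ω) (a : Fin 3) : φ (pr e a) ∈ V := (L.mem _).2 ⟨_, even_pr e a, rfl⟩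

theorem tri (L : Lett V R φ) (e : Fin 3 ↪ Ω) : Tri R V fun a => φ (pr e a) where
  inj := inj_pr L e
  mem := mem_pr L e
  s := by
    obtain ⟨g, hg, h, -⟩ := exists_rel L e (Equiv.swap 1 2)
    exact ⟨g, hg, h⟩
  t := by
    obtain ⟨g, hg, h, -⟩ := exists_rel L e (Equiv.swap 0 2)
    exact ⟨g, hg, h⟩

theorem exists_emb {n : ℕ} (h : n ≤ Fintype.card Ω) : Nonempty (Fin n ↪ Ω) := by
  rw [← Fintype.card_fin n] at h
  exact Function.Embedding.nonempty_of_card_le h

/-- `k` disjoint triples -/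
theorem exists_disj {k : ℕ} (h : 3 * k ≤ Fintype.card Ω) :
    ∃ e : Fin k → Fin 3 ↪ Ω, ∀ i j, i ≠ j → ∀ a b, e i a ≠ e j b := by
  obtain ⟨f⟩ := exists_emb (Ω := Ω) (n := k * 3) (by omega)
  have g : Fin k × Fin 3 ≃ Fin (k * 3) := finProdFinEquiv
  refine ⟨fun i => ⟨fun a => f (g (i, a)), fun a b hab => ?_⟩, fun i j hij a b he => hij ?_⟩
  · have := g.injective (f.injective hab)
    exact (Prod.mk.inj this).2
  · have := g.injective (f.injective he)
    exact (Prod.mk.inj this).1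

/-- **No block of nine letters.** -/
theorem lt_nine [Finite G] (hr : PRankLE 3 2 G) (L : Lett V R φ) : Fintype.card Ω < 9 := by
  by_contra hcon
  obtain ⟨e, he⟩ := exists_disj (Ω := Ω) (k := 3) (by omega)
  have key : ∀ (i : Fin 3) (σ : Equiv.Perm (Fin 3)),
      ∃ g ∈ (⊤ : Subgroup G), Act (fun i a => φ (pr (e i) a)) g (Pi.mulSingle i σ) := by
    intro i σ
    obtain ⟨g, -, h, h'⟩ := exists_rel L (e i) σ
    refine ⟨g, mem_top _, fun j a => ?_⟩
    rcases eq_or_ne j i with rfl | hj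
    · rw [Pi.mulSingle_eq_same]; exact h a
    · rw [Pi.mulSingle_eq_of_ne hj]
      exact h' (e j) (he i j hj.symm) a
  exact no_act hr ⊤ _ (fun i => inj_pr L (e i)) (fun i => key i _) fun i => key i _

/-- **No block of six letters and a second block.** -/
theorem lt_six [Finite G] (hr : PRankLE 3 2 G) (L : Lett V R φ) {E N : Subgroup G} {d : Fin 3 → G} (T : Tri E N d)
    (h1 : R ≤ centralizer (N : Set G)) (h2 : E ≤ centralizer (V : Set G)) : Fintype.card Ω < 6 := by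
  by_contra hcon
  obtain ⟨e, he⟩ := exists_disj (Ω := Ω) (k := 2) (by omega)
  set D : Fin 3 → Fin 3 → G := ![fun a => φ (pr (e 0) a), fun a => φ (pr (e 1) a), d] with hD
  have k0 : ∀ (i : Fin 2) (j : Fin 2), i ≠ j → ∀ σ : Equiv.Perm (Fin 3),
      ∃ g : G, (∀ a, g * φ (pr (e i) a) * g⁻¹ = φ (pr (e i) (σ a))) ∧
        (∀ a, g * φ (pr (e j) a) * g⁻¹ = φ (pr (e j) a)) ∧ ∀ a, g * d a * g⁻¹ = d a := by
    intro i j hij σ
    obtain ⟨g, hg, h, h'⟩ := exists_rel L (e i) σ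
    exact ⟨g, h, h' (e j) (he i j hij), fun a => cent (h1 hg) (T.mem a)⟩
  have k2 : ∀ σ : Equiv.Perm (Fin 3), (∃ g ∈ E, ∀ a, g * d a * g⁻¹ = d (σ a)) →
      ∃ g ∈ (⊤ : Subgroup G), Act D g (Pi.mulSingle 2 σ) := by
    rintro σ ⟨g, hg, h⟩
    refine ⟨g, mem_top _, fun j a => ?_⟩
    fin_cases j
    · exact cent (h2 hg) (mem_pr L (e 0) a)
    · exact cent (h2 hg) (mem_pr L (e 1) a)
    · exact h a
  have k1 : ∀ (i : Fin 3) (σ : Equiv.Perm (Fin 3)), (i = 2 → ∃ g ∈ E, ∀ a, g * d a * g⁻¹ = d (σ a)) →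
      ∃ g ∈ (⊤ : Subgroup G), Act D g (Pi.mulSingle i σ) := by
    intro i σ h
    fin_cases i
    · obtain ⟨g, a1, a2, a3⟩ := k0 0 1 (by decide) σ
      refine ⟨g, mem_top _, fun j a => ?_⟩
      fin_cases j
      · exact a1 a
      · exact a2 a
      · exact a3 a
    · obtain ⟨g, a1, a2, a3⟩ := k0 1 0 (by decide) σ
      refine ⟨g, mem_top _, fun j a => ?_⟩
      fin_cases j
      · exact a2 a
      · exact a1 a
      · exact a3 a
    · exact k2 σ (h rfl)
  refine no_act hr ⊤ D (fun i => ?_) (fun i => k1 i _ fun _ => T.s) fun i => k1 i _ fun _ => T.t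
  fin_cases i
  · exact inj_pr L (e 0)
  · exact inj_pr L (e 1)
  · exact T.inj

end lett

section dec

variable {ι : Type v} {S L U R₀ : Subgroup G} {N E : ι → Subgroup G} {Ω : ι → Type w} [∀ b, Fintype (Ω b)]
  [∀ b, DecidableEq (Ω b)] {φ : ∀ b, Finset (Ω b) → G}

/-- **The blocks for `m_3(G) ≤ 2`.** -/
theorem small [Finite G] (hr : PRankLE 3 2 G) (h : Dec S L U N E R₀) (hL : ∀ b, Lett (N b) (E b) (φ b))
    (h3 : ∀ b, 3 ≤ Fintype.card (Ω b)) :
    (∀ a b c : ι, a ≠ b → a ≠ c → b ≠ c → False) ∧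
      (∀ a b : ι, a ≠ b → Fintype.card (Ω a) = 3 ∨ Fintype.card (Ω a) = 5) ∧
      ∀ a, Fintype.card (Ω a) = 3 ∨ Fintype.card (Ω a) = 5 ∨ Fintype.card (Ω a) = 7 := by
  have hT : ∀ b, ∃ d, Tri (E b) (N b) d := fun b => by
    obtain ⟨e⟩ := exists_emb (h3 b)
    exact ⟨_, tri (hL b) e⟩
  refine ⟨fun a b c hab hac hbc => ?_, fun a b hab => ?_, fun a => ?_⟩
  · choose d hd using hT
    refine three_blocks hr (fun i => E (![a, b, c] i)) (fun i => N (![a, b, c] i)) ?_
      (fun i => d (![a, b, c] i)) fun i => hd _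
    intro i j hij
    refine h.EC _ _ fun he => hij ?_
    have hi : Function.Injective ![a, b, c] := by
      intro x y hxy
      fin_cases x <;> fin_cases y
      · rfl
      · exact absurd hxy hab
      · exact absurd hxy hac
      · exact absurd hxy hab.symm
      · rfl
      · exact absurd hxy hbc
      · exact absurd hxy hac.symm
      · exact absurd hxy hbc.symm
      · rfl
    exact hi he
  · obtain ⟨d, hd⟩ := hT b
    have h1 := lt_six hr (hL a) hd (h.EC a b hab) (h.EC b a hab.symm)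
    have h2 := (hL a).odd
    have h4 := h3 a
    obtain ⟨m, hm⟩ := h2
    omega
  · have h1 := lt_nine hr (hL a)
    have h4 := h3 a
    obtain ⟨m, hm⟩ := (hL a).odd
    omega

end dec

end Cfsg.Agent.Omega.SQT.NoThree

end
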